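import Cfsg.Agent.RuD.Model

/-!
# Certificates for centralisers in the Rudvalis group

In the model `RuOrder.H` (automorphism group of the graph on 4060 points): an element commuting with the words `ws`
leaves the fixed point masks `fixMask w` invariant; `BitNet.ub` started with these masks bounds the number of such
elements (`card_le`). If `zs` are that many different elements commuting with the words, there are no others
(`mem_of_comm`).
-/

set_option autoImplicit false
set_option maxRecDepth 100000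
set_option exponentiation.threshold 5000

namespace Cfsg.Agent.KFacts.Ru.CentEng

open Cfsg.Agent.Lib Cfsg.Agent.Lib.BitNet Cfsg.Agent.SporadicB Cfsg.Agent.SporadicB.RuData Cfsg.Agent.SporadicB.RuOrder
open Cfsg.Agent.RuD.Data Cfsg.Agent.SporRec.TCUpperCert Cfsg.Agent.SporRec.R3.Kernel Cfsg.Agent.RuD.Letters

/-- the points with bit `k` -/
def plane (k : ℕ) : ℕ :=
  Nat.shiftLeft (Nat.mul (Nat.div (Nat.sub (Nat.pow 2 4096) 1) (Nat.sub (Nat.pow 2 (Nat.pow 2 (Nat.succ k))) 1))
    (Nat.sub (Nat.pow 2 (Nat.pow 2 k)) 1)) (Nat.pow 2 k)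

/-- the check of `plane k` -/
noncomputable def chkPlane (k : ℕ) : Bool :=
  BitNetSimple.force (plane k) fun p => allB (fun i => Bool.rec (Bool.rec true false (BitNetSimple.tb i k))
    (BitNetSimple.tb i k) (BitNetSimple.tb p i)) 4096

theorem chk_planes : allL chkPlane [0, 1, 2, 3, 4, 5, 6, 7, 8, 9, 10, 11] = true := by decide +kernel

theorem testBit_plane {k : ℕ} (hk : k < 12) {i : ℕ} (hi : i < 4096) : (plane k).testBit i = i.testBit k := by
  have h1 : chkPlane k = true := (allL_iff _ _).1 chk_planes k (by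
    have : k ∈ List.range 12 := List.mem_range.2 hk
    exact this)
  rw [chkPlane, BitNetSimple.force_eq, allB_iff] at h1
  have h2 := h1 i hi
  rw [BitNetSimple.tb_eq, BitNetSimple.tb_eq] at h2
  revert h2
  cases (plane k).testBit i <;> cases i.testBit k <;> simp

/-- the networks of the inverse letters -/
def NLr : List (List (ℕ × ℕ)) := NL.map List.reverse

/-- the preimage of the mask `x` under the word `w` -/
noncomputable def pre (w : List ℕ) : ℕ → ℕ :=
  List.rec (motive := fun _ => ℕ → ℕ) (fun x => x)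
    (fun a _ ih x => BitNetSimple.force (BitNetSimple.appMF (nthL NLr a) x) ih) w

theorem valid_NL (a : ℕ) : Valid (NL.getD a []) := (Cfsg.Agent.RuD.Model.okNet_letter a).valid

theorem getD_NLr (a : ℕ) : NLr.getD a [] = (NL.getD a []).reverse := by
  rw [NLr]
  rcases lt_or_ge a NL.length with h | h
  · rw [List.getD_eq_getElem _ _ h, List.getD_eq_getElem _ _ (by rw [List.length_map]; exact h), List.getElem_map]
  · rw [List.getD_eq_default _ _ h, List.getD_eq_default _ _ (by rw [List.length_map]; exact h), List.reverse_nil]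

theorem testBit_pre : ∀ (w : List ℕ) (x : ℕ) (i : Fin 4060),
    (pre w x).testBit i = x.testBit (((wprod ml w : RuOrder.H) : Equiv.Perm (Fin 4060)) i : Fin 4060)
  | [], _, _ => rfl
  | a :: w, x, i => by
    have e : pre (a :: w) x = BitNetSimple.force (BitNetSimple.appMF (nthL NLr a) x) (pre w) := rfl
    rw [e, BitNetSimple.force_eq, testBit_pre w, BitNetSimple.appMF_eq, nthL_eq, getD_NLr, wprod_cons]
    have hv : Valid (NL.getD a []).reverse := (BitNetSimple.okNet_reverse (Cfsg.Agent.RuD.Model.okNet_letter a)).valid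
    rw [testBit_appM' hv]
    have h2 : ∀ j, appInv (NL.getD a []).reverse j = app (NL.getD a []) j := by
      intro j
      rw [← BitNetSimple.app_reverse, List.reverse_reverse]
    rw [h2]
    change _ = x.testBit ((((lv ml a : RuOrder.H) : Equiv.Perm (Fin 4060))
      (((wprod ml w : RuOrder.H) : Equiv.Perm (Fin 4060)) i) : Fin 4060) : ℕ)
    rw [lv_apply]

/-- the points where the word and the identity differ in one of the bits `ks` -/
noncomputable def diffM (w : List ℕ) (ks : List ℕ) : ℕ :=
  List.rec (motive := fun _ => ℕ) 0 (fun k _ ih => BitNetSimple.force ih fun m => BitNetSimple.force (plane k) fun p =>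
    BitNetSimple.force (Nat.lor m (Nat.xor (pre w p) p)) fun y => y) ks

theorem testBit_diffM (w : List ℕ) (i : Fin 4060) : ∀ ks : List ℕ, (∀ k ∈ ks, k < 12) →
    ((diffM w ks).testBit i = true ↔ ∃ k ∈ ks,
      (((wprod ml w : RuOrder.H) : Equiv.Perm (Fin 4060)) i : ℕ).testBit k ≠ (i : ℕ).testBit k)
  | [], _ => by
    change (0 : ℕ).testBit _ = true ↔ _
    simp
  | k :: ks, h => by
    have e : diffM w (k :: ks) = BitNetSimple.force (diffM w ks) fun m => BitNetSimple.force (plane k) fun p =>
      BitNetSimple.force (Nat.lor m (Nat.xor (pre w p) p)) fun y => y := rfl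
    rw [e, BitNetSimple.force_eq, BitNetSimple.force_eq, BitNetSimple.force_eq]
    change (diffM w ks ||| (pre w (plane k) ^^^ plane k)).testBit (i : ℕ) = true ↔ _
    have hk := h k List.mem_cons_self
    have hi : (i : ℕ) < 4096 := lt_trans i.2 (by norm_num)
    have hi' : ((((wprod ml w : RuOrder.H) : Equiv.Perm (Fin 4060)) i : Fin 4060) : ℕ) < 4096 :=
      lt_trans (((wprod ml w : RuOrder.H) : Equiv.Perm (Fin 4060)) i).2 (by norm_num)
    rw [Nat.testBit_or, Nat.testBit_xor, testBit_pre, testBit_plane hk hi, testBit_plane hk hi', Bool.or_eq_true,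
      testBit_diffM w i ks (fun k hk => h k (List.mem_cons_of_mem _ hk))]
    simp only [List.mem_cons, exists_eq_or_imp, bne_iff_ne, ne_eq]
    exact or_comm

/-- the fixed points of the word `w` -/
noncomputable def fixMask (w : List ℕ) : ℕ :=
  BitNetSimple.force (diffM w [0, 1, 2, 3, 4, 5, 6, 7, 8, 9, 10, 11]) fun m =>
    Nat.xor (Nat.sub (Nat.pow 2 4060) 1) (Nat.land (Nat.sub (Nat.pow 2 4060) 1) m)

theorem testBit_fixMask (w : List ℕ) (i : Fin 4060) :
    (fixMask w).testBit i = true ↔ ((wprod ml w : RuOrder.H) : Equiv.Perm (Fin 4060)) i = i := by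
  rw [fixMask, BitNetSimple.force_eq]
  change ((2 ^ 4060 - 1) ^^^ ((2 ^ 4060 - 1) &&& diffM w _)).testBit (i : ℕ) = true ↔ _
  rw [Nat.testBit_xor, Nat.testBit_and, Nat.testBit_two_pow_sub_one]
  have h1 := testBit_diffM w i [0, 1, 2, 3, 4, 5, 6, 7, 8, 9, 10, 11] (by decide)
  have h2 : decide ((i : ℕ) < 4060) = true := by simp
  rw [h2, Bool.true_and]
  constructor
  · intro h
    apply Fin.ext
    apply Nat.eq_of_testBit_eq
    intro k
    rcases lt_or_ge k 12 with hk | hk
    · by_contra hne
      have h3 := h1.2 ⟨k, by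
        have : k ∈ List.range 12 := List.mem_range.2 hk
        exact this, hne⟩
      rw [h3] at h
      exact absurd h (by decide)
    · rw [Nat.testBit_lt_two_pow, Nat.testBit_lt_two_pow]
      · exact lt_of_lt_of_le i.2 (le_trans (by norm_num) (Nat.pow_le_pow_right (by norm_num) hk))
      · exact lt_of_lt_of_le (Fin.is_lt _) (le_trans (by norm_num) (Nat.pow_le_pow_right (by norm_num) hk))
  · intro h
    have h3 : (diffM w [0, 1, 2, 3, 4, 5, 6, 7, 8, 9, 10, 11]).testBit i = false := by
      rw [Bool.eq_false_iff]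
      intro h4
      obtain ⟨k, -, hk⟩ := h1.1 h4
      exact hk (by rw [h])
    rw [h3]
    rfl

/-- an element commuting with the word leaves its fixed point mask invariant -/
theorem inv_fixMask {w : List ℕ} {x : RuOrder.H} (h : x * wprod ml w = wprod ml w * x) :
    Inv (x : Equiv.Perm (Fin 4060)) (fixMask w) := by
  intro i
  have h2 : ∀ j : Fin 4060, (x : Equiv.Perm (Fin 4060)) (((wprod ml w : RuOrder.H) : Equiv.Perm (Fin 4060)) j) =
      ((wprod ml w : RuOrder.H) : Equiv.Perm (Fin 4060)) ((x : Equiv.Perm (Fin 4060)) j) := fun j =>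
    congrArg (fun g : RuOrder.H => (g : Equiv.Perm (Fin 4060)) j) h
  rw [Bool.eq_iff_iff, testBit_fixMask, testBit_fixMask, ← h2]
  exact (x : Equiv.Perm (Fin 4060)).injective.eq_iff

/-- the centraliser of the words -/
def Cen (ws : List (List ℕ)) : Subgroup RuOrder.H where
  carrier := {x | ∀ w ∈ ws, x * wprod ml w = wprod ml w * x}
  one_mem' := fun w _ => by rw [one_mul, mul_one]
  mul_mem' := fun {x y} hx hy w hw => by rw [mul_assoc, hy w hw, ← mul_assoc, hx w hw, mul_assoc]
  inv_mem' := fun {x} hx w hw => by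
    have h := hx w hw
    calc x⁻¹ * wprod ml w = x⁻¹ * (wprod ml w * x) * x⁻¹ := by group
      _ = x⁻¹ * (x * wprod ml w) * x⁻¹ := by rw [h]
      _ = wprod ml w * x⁻¹ := by group

theorem mem_Cen {ws : List (List ℕ)} {x : RuOrder.H} : x ∈ Cen ws ↔ ∀ w ∈ ws, x * wprod ml w = wprod ml w * x :=
  Iff.rfl

/-- **the certificate** -/
theorem card_le {ws : List (List ℕ)} {l : List Ins} {N : ℕ} (h : ub 12 4060 row l (ws.map fixMask) = some N) :
    Nat.card (Cen ws) ≤ N := by
  have h1 : Nat.card ((Cen ws).map RuOrder.H.subtype) ≤ N := by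
    refine ub_sound (K := 12) (by norm_num) l _ _ h _ ?_ ?_
    · rintro _ ⟨x, -, rfl⟩
      exact x.2
    · rintro _ ⟨x, hx, rfl⟩ m hm
      obtain ⟨w, hw, rfl⟩ := List.mem_map.1 hm
      exact inv_fixMask (hx w hw)
  rwa [Nat.card_congr ((Cen ws).equivMapOfInjective RuOrder.H.subtype RuOrder.H.subtype_injective).toEquiv]

/-! ### the second certificate: one base point, its images, intersections of rows -/

/-- steps: `im j i`: the image of the known point `i` under the word `j`; `cap l`: the only point of the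
intersection of the rows (or their complements) of known points -/
inductive Stp
  | im (j i : ℕ)
  | cap (l : List (Bool × ℕ))

/-- `x` fixes the point `p` -/
def Fx (x : RuOrder.H) (p : ℕ) : Prop := ∃ h : p < 4060, (x : Equiv.Perm (Fin 4060)) ⟨p, h⟩ = ⟨p, h⟩

/-- intersection of rows -/
noncomputable def capM (ks : List ℕ) (l : List (Bool × ℕ)) : ℕ :=
  List.rec (motive := fun _ => ℕ) (Nat.sub (Nat.pow 2 4060) 1) (fun a _ ih => BitNetSimple.force ih fun m =>
    BitNetSimple.force (row (ks.getD a.2 0)) fun r =>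
      BitNetSimple.force (Bool.rec (Nat.xor m (Nat.land m r)) (Nat.land m r) a.1) fun y => y) l

theorem inv_land {σ : Equiv.Perm (Fin 4060)} {a b : ℕ} (ha : Inv σ a) (hb : Inv σ b) : Inv σ (Nat.land a b) := by
  intro v
  change (a &&& b).testBit _ = (a &&& b).testBit _
  rw [Nat.testBit_and, Nat.testBit_and, ha v, hb v]

theorem inv_xor {σ : Equiv.Perm (Fin 4060)} {a b : ℕ} (ha : Inv σ a) (hb : Inv σ b) : Inv σ (Nat.xor a b) := by
  intro v
  change (a ^^^ b).testBit _ = (a ^^^ b).testBit _
  rw [Nat.testBit_xor, Nat.testBit_xor, ha v, hb v]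

theorem inv_univ {σ : Equiv.Perm (Fin 4060)} : Inv σ (Nat.sub (Nat.pow 2 4060) 1) := by
  intro v
  change (2 ^ 4060 - 1).testBit _ = (2 ^ 4060 - 1).testBit _
  rw [Nat.testBit_two_pow_sub_one, Nat.testBit_two_pow_sub_one]
  simp

/-- a check that the index is in the range -/
theorem getD_fx {x : RuOrder.H} {ks : List ℕ} (hk : ∀ k ∈ ks, Fx x k) {i : ℕ} (hi : i < ks.length) :
    Fx x (ks.getD i 0) := by
  rw [List.getD_eq_getElem _ _ hi]
  exact hk _ (List.getElem_mem hi)

theorem inv_row {x : RuOrder.H} {k : ℕ} (h : Fx x k) : Inv (x : Equiv.Perm (Fin 4060)) (row k) := by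
  obtain ⟨h1, h2⟩ := h
  exact Inv.row (p := ⟨k, h1⟩) x.2 h2

theorem inv_capM {x : RuOrder.H} {ks : List ℕ} (hk : ∀ k ∈ ks, Fx x k) : ∀ l : List (Bool × ℕ),
    (∀ a ∈ l, a.2 < ks.length) → Inv (x : Equiv.Perm (Fin 4060)) (capM ks l)
  | [], _ => inv_univ
  | a :: l, h => by
    have e : capM ks (a :: l) = BitNetSimple.force (capM ks l) fun m =>
      BitNetSimple.force (row (ks.getD a.2 0)) fun r =>
      BitNetSimple.force (Bool.rec (Nat.xor m (Nat.land m r)) (Nat.land m r) a.1) fun y => y := rfl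
    have h1 := inv_capM hk l (fun a ha => h a (List.mem_cons_of_mem _ ha))
    have h2 := inv_row (getD_fx hk (h a List.mem_cons_self))
    rw [e, BitNetSimple.force_eq, BitNetSimple.force_eq, BitNetSimple.force_eq]
    cases a.1
    · exact inv_xor h1 (inv_land h1 h2)
    · exact inv_land h1 h2

/-- check of the steps; the known points are added at the end -/
noncomputable def chkS (cs : List (List ℕ)) (l : List (ℕ × Stp)) : List ℕ → (List ℕ → Bool) → Bool :=
  List.rec (motive := fun _ => List ℕ → (List ℕ → Bool) → Bool) (fun ks f => f ks)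
    (fun a _ ih ks f => Bool.rec false (ih (ks ++ [a.1]) f)
      (Stp.rec (motive := fun _ => Bool)
        (fun j i => Bool.rec false (Bool.rec false (Nat.beq (evalK (cs.getD j []) (ks.getD i 0)) a.1)
          (Nat.ble (Nat.succ j) cs.length)) (Nat.ble (Nat.succ i) ks.length))
        (fun l => Bool.rec false (Bool.rec false (Nat.beq (capM ks l) (Nat.pow 2 a.1))
          (allL (fun b => Nat.ble (Nat.succ b.2) ks.length) l)) (Nat.ble (Nat.succ a.1) 4060)) a.2)) l

theorem band {a b : Bool} (h : Bool.rec (motive := fun _ => Bool) false a b = true) : a = true ∧ b = true := by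
  cases b
  · exact absurd h (by simp)
  · exact ⟨h, rfl⟩

theorem chkS_sound {cs : List (List ℕ)} {x : RuOrder.H} (hx : x ∈ Cen cs) : ∀ (l : List (ℕ × Stp)) (ks : List ℕ)
    (f : List ℕ → Bool), (∀ k ∈ ks, Fx x k) → chkS cs l ks f = true → ∃ ks' : List ℕ, (∀ k ∈ ks', Fx x k) ∧ f ks' = true
  | [], ks, f, hk, h => ⟨ks, hk, h⟩
  | a :: l, ks, f, hk, h => by
    obtain ⟨h1, h2⟩ := band h
    refine chkS_sound hx l (ks ++ [a.1]) f ?_ h1
    intro k hk'
    rw [List.mem_append, List.mem_singleton] at hk'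
    rcases hk' with hk' | rfl
    · exact hk k hk'
    · obtain ⟨p, s⟩ := a
      cases s with
      | im j i =>
        obtain ⟨h3, h4⟩ := band h2
        obtain ⟨h5, h6⟩ := band h3
        have hi : i < ks.length := Nat.le_of_ble_eq_true h4
        have hj : j < cs.length := Nat.le_of_ble_eq_true h6
        obtain ⟨h7, h8⟩ := getD_fx hk hi
        have h9 : evalK (cs.getD j []) (ks.getD i 0) = p := Nat.eq_of_beq_eq_true h5
        have h10 := evalK_eq (cs.getD j []) ⟨ks.getD i 0, h7⟩
        have hp : p < 4060 := by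
          rw [← h9, ← h10]
          exact Fin.is_lt _
        have h11 : (⟨p, hp⟩ : Fin 4060) =
            ((wprod ml (cs.getD j []) : RuOrder.H) : Equiv.Perm (Fin 4060)) ⟨ks.getD i 0, h7⟩ :=
          Fin.ext (by rw [h10]; exact h9.symm)
        refine ⟨hp, ?_⟩
        have hmem : cs.getD j [] ∈ cs := by
          rw [List.getD_eq_getElem _ _ hj]
          exact List.getElem_mem hj
        have h12 := congrArg (fun g : RuOrder.H => (g : Equiv.Perm (Fin 4060)) ⟨ks.getD i 0, h7⟩) (hx _ hmem)
        have h13 : (x : Equiv.Perm (Fin 4060)) (((wprod ml (cs.getD j []) : RuOrder.H) : Equiv.Perm (Fin 4060))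
            ⟨ks.getD i 0, h7⟩) = ((wprod ml (cs.getD j []) : RuOrder.H) : Equiv.Perm (Fin 4060))
            ((x : Equiv.Perm (Fin 4060)) ⟨ks.getD i 0, h7⟩) := h12
        change (x : Equiv.Perm (Fin 4060)) ⟨p, hp⟩ = ⟨p, hp⟩
        rw [h11, h13, h8]
      | cap l' =>
        obtain ⟨h3, h4⟩ := band h2
        obtain ⟨h5, h6⟩ := band h3
        have hp : p < 4060 := Nat.le_of_ble_eq_true h4
        have h7 : capM ks l' = 2 ^ p := Nat.eq_of_beq_eq_true h5
        have h8 := inv_capM hk l' (fun b hb => Nat.le_of_ble_eq_true ((allL_iff _ _).1 h6 b hb))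
        rw [h7] at h8
        exact ⟨hp, Inv.fix (p := ⟨p, hp⟩) h8⟩

/-- membership -/
noncomputable def memL (a : ℕ) (l : List ℕ) : Bool := anyL (fun b => Nat.beq a b) l

/-- the whole check: from the fixed point `b` the steps lead to the image of the base under `h` -/
noncomputable def chkB (cs : List (List ℕ)) (b : ℕ) (l : List (ℕ × Stp)) (h : List ℕ) : Bool :=
  chkS cs l [b] fun ks => allL (fun c => BitNetSimple.force (evalK h c) fun y => memL y ks) [0, 29, 580, 577]

theorem eq_one_of_chkB {cs : List (List ℕ)} {b : ℕ} {l : List (ℕ × Stp)} {h : List ℕ} (hc : chkB cs b l h = true)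
    {x : RuOrder.H} (hx : x ∈ Cen cs) (hb : Fx x b) : x = 1 := by
  obtain ⟨ks, h1, h2⟩ := chkS_sound hx l [b] _ (by
    intro k hk
    rw [List.mem_singleton.1 hk]
    exact hb) hc
  have h3 : ∀ c ∈ [b1, b2, b3, b4], (((wprod ml h)⁻¹ * x * wprod ml h : RuOrder.H) : Equiv.Perm (Fin 4060)) c = c := by
    intro c hc
    have h4 : BitNetSimple.force (evalK h (c : ℕ)) (fun y => memL y ks) = true := by
      refine (allL_iff _ _).1 h2 _ ?_
      simp only [List.mem_cons, List.not_mem_nil, or_false] at hc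
      rcases hc with rfl | rfl | rfl | rfl
      · exact List.mem_cons_self
      · exact List.mem_cons_of_mem _ List.mem_cons_self
      · exact List.mem_cons_of_mem _ (List.mem_cons_of_mem _ List.mem_cons_self)
      · exact List.mem_cons_of_mem _ (List.mem_cons_of_mem _ (List.mem_cons_of_mem _ List.mem_cons_self))
    rw [BitNetSimple.force_eq, memL, anyL_iff] at h4
    obtain ⟨k, hk, hk'⟩ := h4
    have h5 : evalK h (c : ℕ) = k := Nat.eq_of_beq_eq_true hk'
    obtain ⟨h6, h7⟩ := h1 k hk
    have h8 : ((wprod ml h : RuOrder.H) : Equiv.Perm (Fin 4060)) c = ⟨k, h6⟩ :=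
      Fin.ext (by rw [evalK_eq]; exact h5)
    change ((wprod ml h : RuOrder.H) : Equiv.Perm (Fin 4060))⁻¹ ((x : Equiv.Perm (Fin 4060))
      (((wprod ml h : RuOrder.H) : Equiv.Perm (Fin 4060)) c)) = c
    rw [h8, h7, ← h8]
    exact Equiv.symm_apply_apply _ _
  have h4 := eq_one_of_base (h3 b1 (by simp)) (h3 b2 (by simp)) (h3 b3 (by simp)) (h3 b4 (by simp))
  calc x = wprod ml h * ((wprod ml h)⁻¹ * x * wprod ml h) * (wprod ml h)⁻¹ := by group
    _ = 1 := by rw [h4]; group

/-- intersection of the fixed point masks (`true`) or their complements (`false`) of some of the words -/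
noncomputable def cellM (cs : List (List ℕ)) (l : List (Bool × ℕ)) : ℕ :=
  List.rec (motive := fun _ => ℕ) (Nat.sub (Nat.pow 2 4060) 1) (fun a _ ih => BitNetSimple.force ih fun m =>
    BitNetSimple.force (fixMask (cs.getD a.2 [])) fun r =>
      BitNetSimple.force (Bool.rec (Nat.xor m (Nat.land m r)) (Nat.land m r) a.1) fun y => y) l

theorem inv_cellM {cs : List (List ℕ)} {x : RuOrder.H} (hx : x ∈ Cen cs) : ∀ l : List (Bool × ℕ),
    (∀ a ∈ l, a.2 < cs.length) → Inv (x : Equiv.Perm (Fin 4060)) (cellM cs l)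
  | [], _ => inv_univ
  | a :: l, h => by
    have e : cellM cs (a :: l) = BitNetSimple.force (cellM cs l) fun m =>
      BitNetSimple.force (fixMask (cs.getD a.2 [])) fun r =>
      BitNetSimple.force (Bool.rec (Nat.xor m (Nat.land m r)) (Nat.land m r) a.1) fun y => y := rfl
    have h1 := inv_cellM hx l (fun a ha => h a (List.mem_cons_of_mem _ ha))
    have ha := h a List.mem_cons_self
    have h2 : Inv (x : Equiv.Perm (Fin 4060)) (fixMask (cs.getD a.2 [])) := by
      rw [List.getD_eq_getElem _ _ ha]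
      exact inv_fixMask (hx _ (List.getElem_mem ha))
    rw [e, BitNetSimple.force_eq, BitNetSimple.force_eq, BitNetSimple.force_eq]
    cases a.1
    · exact inv_xor h1 (inv_land h1 h2)
    · exact inv_land h1 h2

/-- the check of the cell -/
noncomputable def chkC (cs : List (List ℕ)) (l : List (Bool × ℕ)) (b N : ℕ) : Bool :=
  BitNetSimple.force (cellM cs l) fun m => Bool.rec false (Bool.rec false (Bool.rec false
    (allL (fun a => Nat.ble (Nat.succ a.2) cs.length) l) (Nat.ble (popc 12 m) N)) (BitNetSimple.tb m b))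
    (Nat.ble (Nat.succ b) 4060)

/-- **the certificate** -/
theorem card_le_of {cs : List (List ℕ)} {l : List (Bool × ℕ)} {b N : ℕ} {st : List (ℕ × Stp)} {h : List ℕ}
    (h1 : chkC cs l b N = true) (h2 : chkB cs b st h = true) : Nat.card (Cen cs) ≤ N := by
  rw [chkC, BitNetSimple.force_eq] at h1
  obtain ⟨h3, h4⟩ := band h1
  obtain ⟨h5, h6⟩ := band h3
  obtain ⟨h7, h8⟩ := band h5
  have hb : b < 4060 := Nat.le_of_ble_eq_true h4
  rw [BitNetSimple.tb_eq] at h6
  have hfin : Finite RuOrder.H := by
    have : Finite (Equiv.Perm (Fin 4060)) := inferInstance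
    infer_instance
  have hN : popc 12 (cellM cs l) ≤ N := Nat.le_of_ble_eq_true h8
  have hl : ∀ a ∈ l, a.2 < cs.length := fun a ha => Nat.le_of_ble_eq_true ((allL_iff _ _).1 h7 a ha)
  refine le_trans ?_ ((card_pts_le (n := 4060) (K := 12) (by norm_num) (cellM cs l)).trans hN)
  have h9 : ∀ x : Cen cs, ((x : RuOrder.H) : Equiv.Perm (Fin 4060)) ⟨b, hb⟩ ∈ pts 4060 (cellM cs l) := by
    intro x
    rw [mem_pts, inv_cellM x.2 l hl]
    exact h6
  have e : Nat.card {i // i ∈ pts 4060 (cellM cs l)} = (pts 4060 (cellM cs l)).card := by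
    rw [Nat.card_eq_fintype_card, Fintype.card_coe]
  rw [← e]
  refine Nat.card_le_card_of_injective
    (fun x : Cen cs => (⟨_, h9 x⟩ : {i // i ∈ pts 4060 (cellM cs l)})) ?_
  intro x y hxy
  have h10 : ((x : RuOrder.H) : Equiv.Perm (Fin 4060)) ⟨b, hb⟩ = ((y : RuOrder.H) : Equiv.Perm (Fin 4060)) ⟨b, hb⟩ :=
    congrArg Subtype.val hxy
  have h11 : (y : RuOrder.H)⁻¹ * x = 1 := by
    refine eq_one_of_chkB h2 ((Cen cs).mul_mem ((Cen cs).inv_mem y.2) x.2) ⟨hb, ?_⟩
    change ((y : RuOrder.H) : Equiv.Perm (Fin 4060))⁻¹ (((x : RuOrder.H) : Equiv.Perm (Fin 4060)) ⟨b, hb⟩) = _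
    rw [h10]
    exact Equiv.symm_apply_apply _ _
  exact Subtype.ext (inv_mul_eq_one.1 h11).symm

/-- **the centraliser of the words `ws` is `zs`** if it has order at most `|zs|` -/
theorem mem_of_comm {ws zs : List (List ℕ)} {N : ℕ} (h : Nat.card (Cen ws) ≤ N)
    (hN : N ≤ zs.length) (hz : ∀ z ∈ zs, wprod ml z ∈ Cen ws) {b : ℕ} (hb : b < 4060)
    (hnd : (zs.map fun z => evalK z b).Nodup) {x : RuOrder.H} (hx : x ∈ Cen ws) : ∃ z ∈ zs, x = wprod ml z := by
  classical
  have hfin : Finite RuOrder.H := by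
    have : Finite (Equiv.Perm (Fin 4060)) := inferInstance
    infer_instance
  by_contra hcon
  push Not at hcon
  -- the elements of `zs` and `x` are `N + 1` different elements
  have h1 : (x :: zs.map (wprod ml)).Nodup := by
    rw [List.nodup_cons]
    refine ⟨fun hm => ?_, ?_⟩
    · obtain ⟨z, hz', e⟩ := List.mem_map.1 hm
      exact hcon z hz' e.symm
    · have e : (zs.map fun z => evalK z b) =
          (zs.map (wprod ml)).map fun g : RuOrder.H => (((g : Equiv.Perm (Fin 4060)) ⟨b, hb⟩ : Fin 4060) : ℕ) := by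
        rw [List.map_map]
        refine List.map_congr_left fun z _ => ?_
        exact (evalK_eq z ⟨b, hb⟩).symm
      rw [e] at hnd
      exact List.Nodup.of_map _ hnd
  have h2 : ((x :: zs.map (wprod ml)).toFinset : Set RuOrder.H) ⊆ (Cen ws : Set RuOrder.H) := by
    intro g hg
    rw [Finset.mem_coe, List.mem_toFinset, List.mem_cons] at hg
    rcases hg with rfl | hg
    · exact hx
    · obtain ⟨z, hz', rfl⟩ := List.mem_map.1 hg
      exact hz z hz'
  have h3 := Set.ncard_le_ncard h2 (Set.toFinite _)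
  rw [Set.ncard_coe_finset, List.toFinset_card_of_nodup h1, List.length_cons, List.length_map] at h3
  have h4 : (Cen ws : Set RuOrder.H).ncard ≤ N := h
  omega

end Cfsg.Agent.KFacts.Ru.CentEng
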