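import Cfsg.Agent.KFacts.Ru.CentEng

/-!
# Three centralisers in the Rudvalis group

`z = W`; `q`, `q'`, `w` conjugates of `z` with `q, q'` commuting with `z` (orbits of size 640 and 480 under the
centraliser of `z`) and `z w` of order 4 (orbit of size 5120).
-/

set_option autoImplicit false
set_option maxRecDepth 100000
set_option exponentiation.threshold 5000

namespace Cfsg.Agent.KFacts.Ru.Cents

open Cfsg.Agent.Lib Cfsg.Agent.Lib.BitNet Cfsg.Agent.SporadicB Cfsg.Agent.SporadicB.RuData Cfsg.Agent.SporadicB.RuOrder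
open Cfsg.Agent.RuD.Data Cfsg.Agent.SporRec.TCUpperCert Cfsg.Agent.SporRec.R3.Kernel Cfsg.Agent.RuD.Letters
open Cfsg.Agent.KFacts.Ru.CentEng

/-- words -/
def csA : List (List ℕ) := [
  [2],
  [7, 5, 3, 8, 0, 5, 3, 2, 7, 5, 0, 4, 7, 5, 3],
  [1, 3, 6, 7, 2, 6, 7, 0, 4, 0],
  [0, 8, 3, 1, 7, 2, 1, 7, 6, 0],
  [6, 8, 5, 3, 1, 2, 6, 7, 5, 4, 1],
  [6, 5, 8, 7, 1, 2, 6, 3, 4, 5, 1],
  [0, 7, 8, 7, 5, 3, 5, 3, 5, 3, 4, 5, 3],
  [3, 5, 0, 3, 3, 5, 7, 5, 3, 3, 0, 5, 3],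
  [3, 5, 8, 3, 5, 3, 5, 3, 5, 4, 3, 3, 0],
  [6, 2, 0, 7, 6, 3, 5, 7, 6, 3, 5, 7, 1, 3, 0, 5, 7, 6, 3, 8, 2, 1],
  [6, 2, 5, 0, 7, 6, 3, 5, 7, 6, 3, 0, 4, 2, 1]]

/-- the cell -/
def ceA : List (Bool × ℕ) := [(true, 9), (true, 10)]

/-- the steps -/
def stA : List (ℕ × Stp) := [
  (2879, .im 0 0),
  (714, .im 1 0),
  (3554, .im 3 0),
  (1350, .im 4 0),
  (1820, .im 5 0),
  (3963, .im 8 0),
  (2327, .im 1 1),
  (3271, .im 3 1),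
  (3124, .im 6 1),
  (2523, .im 4 2),
  (2929, .im 4 3),
  (0, .im 7 3),
  (3073, .im 2 4),
  (534, .im 3 4),
  (2875, .im 9 5),
  (511, .im 7 6),
  (2543, .im 2 7),
  (1720, .im 7 8),
  (3895, .im 3 9),
  (3852, .im 8 10),
  (139, .im 3 11),
  (3167, .cap [(true, 12), (true, 21), (true, 15), (true, 18), (true, 20), (true, 10), (true, 14), (false, 13)])]

theorem cellA : chkC csA ceA 329 4 = true := by decide +kernel

theorem baseA : chkB csA 329 stA [0, 5, 4, 3, 5, 3, 5, 0, 4, 3, 0, 5] = true := by decide +kernel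

theorem cardA : Nat.card (Cen csA) ≤ 4 := card_le_of cellA baseA

/-- words -/
def csB : List (List ℕ) := [
  [2],
  [6, 3, 5, 3, 1, 2, 6, 7, 5, 7, 1],
  [6, 2, 7, 6, 3, 2, 1],
  [6, 3, 1, 2, 6, 7, 1],
  [6, 7, 1, 2, 6, 3, 1],
  [6, 8, 3, 1, 2, 6, 7, 4, 1],
  [6, 2, 8, 0, 4, 1, 3, 1, 7, 2, 1],
  [6, 2, 7, 5, 0, 3, 1, 7, 5, 3, 2, 1],
  [6, 2, 0, 5, 7, 1, 1, 3, 5, 1, 2, 1],
  [6, 2, 4, 7, 6, 3, 1, 4, 3, 5, 3, 1, 7, 0, 5, 4, 3, 4, 2, 1],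
  [6, 2, 6, 8, 7, 8, 5, 0, 3, 6, 7, 5, 7, 8, 7, 6, 3, 8, 1, 0, 2, 1]]

/-- the cell -/
def ceB : List (Bool × ℕ) := [(true, 9), (true, 10), (false, 0)]

/-- the steps -/
def stB : List (ℕ × Stp) := [
  (1801, .im 0 0),
  (3531, .im 1 0),
  (2243, .im 3 0),
  (1703, .im 6 1),
  (2791, .im 7 1),
  (4022, .im 2 2),
  (2159, .im 5 3),
  (3135, .im 8 4),
  (2447, .im 2 5),
  (590, .im 4 6),
  (1104, .im 8 7)]

theorem cellB : chkC csB ceB 226 8 = true := by decide +kernel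

theorem baseB : chkB csB 226 stB [2, 5, 6, 7, 1, 3, 5, 3, 6, 3, 5, 0] = true := by decide +kernel

theorem cardB : Nat.card (Cen csB) ≤ 8 := card_le_of cellB baseB

/-- words -/
def csC : List (List ℕ) := [
  [2],
  [3, 5, 3, 5, 7, 2, 3, 5, 7, 5, 7],
  [6, 5, 8, 0, 5, 8, 7, 2, 1, 7, 2, 1, 0],
  [0, 6, 2, 3, 6, 7, 4, 5, 0, 4, 5, 2, 1],
  [0, 6, 2, 5, 8, 7, 1, 3, 0, 5, 2, 1, 2, 0],
  [0, 2, 3, 5, 1, 3, 3, 6, 3, 2, 6, 5, 3, 0]]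

/-- the cell -/
def ceC : List (Bool × ℕ) := [(true, 4), (true, 0)]

/-- the steps -/
def stC : List (ℕ × Stp) := [
  (791, .im 1 0),
  (861, .im 2 0),
  (613, .im 0 1),
  (2612, .im 2 1),
  (2137, .im 2 2),
  (3533, .im 4 2),
  (3723, .im 5 2),
  (3175, .im 3 3),
  (1152, .im 2 4),
  (704, .im 4 5),
  (3673, .cap [(true, 10), (true, 0), (true, 7), (true, 5), (true, 9), (false, 3), (true, 1), (true, 2), (true, 6)])]

theorem cellC : chkC csC ceC 1763 2 = true := by decide +kernel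

theorem baseC : chkB csC 1763 stC [3, 5, 6, 7, 1, 7, 6, 5, 7, 1, 3, 2] = true := by decide +kernel

theorem cardC : Nat.card (Cen csC) ≤ 2 := card_le_of cellC baseC

end Cfsg.Agent.KFacts.Ru.Cents
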