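import Cfsg.Agent.RuD.Letters

/-!
# Words in the model of the Rudvalis group: inverses, conjugations

`iw w` is the inverse word; `conj_of` : the kernel check of `g p g⁻¹ = q`; `PC`.
-/

set_option autoImplicit false
set_option maxRecDepth 100000
set_option exponentiation.threshold 5000

namespace Cfsg.Agent.KFacts.Ru.ConjWord

open Cfsg.Agent.SporadicB Cfsg.Agent.RuD.Letters Cfsg.Agent.SporRec.TCUpperCert Cfsg.Agent.SporRec.R3.Kernel

/-- inverse letter -/
def il (a : ℕ) : ℕ := [0, 6, 2, 7, 8, 5, 1, 3, 4].getD a 9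

/-- inverse word -/
def iw (w : List ℕ) : List ℕ := (w.map il).reverse

theorem chk_inv : chkRel [[0, 0], [2, 2], [5, 5]] = true := by decide +kernel

theorem lv_mul_self {a : ℕ} (h : [a, a] ∈ [[0, 0], [2, 2], [5, 5]]) : lv ml a * lv ml a = 1 := by
  have h1 := rel_of_chk chk_inv _ h
  rwa [wprod_cons, wprod_cons, wprod_nil, mul_one] at h1

theorem lv_il (a : ℕ) : lv ml (il a) = (lv ml a)⁻¹ := by
  rcases lt_or_ge a 9 with h | h
  · interval_cases a
    · exact (inv_eq_of_mul_eq_one_left (lv_mul_self (a := 0) (by simp))).symm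
    · rfl
    · exact (inv_eq_of_mul_eq_one_left (lv_mul_self (a := 2) (by simp))).symm
    · rfl
    · rfl
    · exact (inv_eq_of_mul_eq_one_left (lv_mul_self (a := 5) (by simp))).symm
    · exact (inv_inv S).symm
    · exact (inv_inv F).symm
    · exact (inv_inv D).symm
  · rw [lv_of_ge ml a h, il, List.getD_eq_default _ _ (by exact h), lv_of_ge ml 9 (by decide), inv_one]

theorem wprod_iw (w : List ℕ) : (wprod ml (iw w) : RuOrder.H) = (wprod ml w)⁻¹ := by
  induction w with
  | nil => rw [iw, List.map_nil, List.reverse_nil, wprod_nil, inv_one]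
  | cons a w ih =>
    rw [iw, List.map_cons, List.reverse_cons, wprod_append, ← iw, ih, wprod_cons, wprod_nil, mul_one, wprod_cons,
      mul_inv_rev, lv_il]

/-- relator of `g p g⁻¹ = q` -/
def cj (g p q : List ℕ) : List ℕ := g ++ p ++ iw g ++ iw q

theorem conj_of {g p q : List ℕ} (h : wprod ml (cj g p q) = (1 : RuOrder.H)) :
    (wprod ml g : RuOrder.H) * wprod ml p * (wprod ml g)⁻¹ = wprod ml q := by
  rw [cj, wprod_append, wprod_append, wprod_append, wprod_iw, wprod_iw] at h
  exact mul_inv_eq_one.1 h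

/-- equality of two words -/
def eqr (p q : List ℕ) : List ℕ := p ++ iw q

theorem eq_of {p q : List ℕ} (h : wprod ml (eqr p q) = (1 : RuOrder.H)) :
    (wprod ml p : RuOrder.H) = wprod ml q := by
  rw [eqr, wprod_append, wprod_iw] at h
  exact mul_inv_eq_one.1 h

/-- two pairs of words are conjugate -/
theorem pc_of {g p q p' q' : List ℕ} (h : chkRel [cj g p p', cj g q q'] = true) :
    (wprod ml g : RuOrder.H) * wprod ml p * (wprod ml g)⁻¹ = wprod ml p' ∧
      (wprod ml g : RuOrder.H) * wprod ml q * (wprod ml g)⁻¹ = wprod ml q' :=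
  ⟨conj_of (rel_of_chk h _ (by simp)), conj_of (rel_of_chk h _ (by simp))⟩

/-- two words are different -/
noncomputable def neK (p q : List ℕ) (b : ℕ) : Bool := Bool.not (Nat.beq (evalK p b) (evalK q b))

theorem ne_of {p q : List ℕ} (b : Fin 4060) (h : neK p q b = true) : (wprod ml p : RuOrder.H) ≠ wprod ml q := by
  intro e
  have h1 : evalK p b = evalK q b := by rw [← evalK_eq, ← evalK_eq, e]
  rw [neK, h1, Nat.beq_refl] at h
  exact absurd h (by decide)

end Cfsg.Agent.KFacts.Ru.ConjWord
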