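import Cfsg.Agent.KFacts.Ru.Count
import Cfsg.Agent.Ru127.Bridge

/-!
# The `Core` of the Rudvalis group

`exists_core`: every group isomorphic to the Rudvalis group has a `RuB.Core` satisfying `Ru127.Sg.Rel`.
-/

set_option autoImplicit false
set_option maxRecDepth 100000

namespace Cfsg.Agent.KFacts.Ru

open Subgroup Cfsg.Agent.RuB Cfsg.Agent.ThreePrime
open Cfsg.Agent.RuE.Letters (k0 k0_val k0_pow7)

variable {K : Type*} [Group K] {t s w f d y : K}

/-! ### the four-group -/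

theorem zmod2 : ∀ i : ZMod 2, i = 0 ∨ i = 1 := by decide

/-- `x ^ i` -/
def pw (x : K) (i : ZMod 2) : K := if i = 0 then 1 else x

theorem pw_zero (x : K) : pw x 0 = 1 := rfl
theorem pw_one (x : K) : pw x 1 = x := rfl

theorem pw_mul {x : K} (hx : x * x = 1) (i j : ZMod 2) : pw x i * pw x j = pw x (i + j) := by
  have e : (1 : ZMod 2) + 1 = 0 := by decide
  rcases zmod2 i with rfl | rfl <;> rcases zmod2 j with rfl | rfl
  · rw [pw_zero, one_mul, add_zero, pw_zero]
  · rw [pw_zero, one_mul, zero_add]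
  · rw [pw_zero, mul_one, add_zero]
  · rw [pw_one, hx, e, pw_zero]

theorem pw_comm {x g : K} (hx : x * g = g * x) (i : ZMod 2) : pw x i * g = g * pw x i := by
  rcases zmod2 i with rfl | rfl
  · rw [pw_zero, one_mul, mul_one]
  · exact hx

/-- the elements of the four-group -/
def vv (t d : K) (a : A4) : K := pw t a.1 * pw (d * t * d⁻¹) a.2

theorem Lets.tsq (h : Lets t s w f d y) : t * t = 1 := h.rel.t2

theorem Lets.t2sq (h : Lets t s w f d y) : d * t * d⁻¹ * (d * t * d⁻¹) = 1 := by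
  calc d * t * d⁻¹ * (d * t * d⁻¹) = d * (t * t) * d⁻¹ := by group
    _ = 1 := by rw [h.tsq]; group

theorem Lets.vv_add (h : Lets t s w f d y) (a b : A4) : vv t d (a + b) = vv t d a * vv t d b := by
  unfold vv
  have h1 : pw (d * t * d⁻¹) a.2 * pw t b.1 = pw t b.1 * pw (d * t * d⁻¹) a.2 :=
    pw_comm (pw_comm h.tt b.1).symm a.2
  rw [Prod.fst_add, Prod.snd_add, ← pw_mul h.tsq, ← pw_mul h.t2sq]
  calc pw t a.1 * pw t b.1 * (pw (d * t * d⁻¹) a.2 * pw (d * t * d⁻¹) b.2)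
      = pw t a.1 * (pw t b.1 * pw (d * t * d⁻¹) a.2) * pw (d * t * d⁻¹) b.2 := by simp only [mul_assoc]
    _ = pw t a.1 * (pw (d * t * d⁻¹) a.2 * pw t b.1) * pw (d * t * d⁻¹) b.2 := by rw [h1]
    _ = _ := by simp only [mul_assoc]

theorem vv_zero : vv t d 0 = 1 := by
  show (1 : K) * 1 = 1
  rw [one_mul]

theorem vv_one0 : vv t d (1, 0) = t := by
  show t * 1 = t
  rw [mul_one]

theorem vv_01 : vv t d (0, 1) = d * t * d⁻¹ := by
  show 1 * (d * t * d⁻¹) = _
  rw [one_mul]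

theorem vv_11 : vv t d (1, 1) = t * (d * t * d⁻¹) := rfl

/-! ### the action of `d` -/

theorem Lets.ds (h : Lets t s w f d y) : d * s * d⁻¹ = s := mul_inv_eq_one.1 h.rel.ds

theorem Lets.dw (h : Lets t s w f d y) : d * w * d⁻¹ = w := by
  have h1 := h.rel.dw
  have h2 := h.rel.w2
  calc d * w * d⁻¹ = d * w * d⁻¹ * (w * w) := by rw [h2, mul_one]
    _ = (d * w * d⁻¹ * w) * w := by simp only [mul_assoc]
    _ = w := by rw [h1, one_mul]

theorem Lets.df (h : Lets t s w f d y) : d⁻¹ * f * d = f * f * f * f := by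
  have h1 := h.rel.df
  calc d⁻¹ * f * d = (d⁻¹ * f * d * f⁻¹ * f⁻¹ * f⁻¹ * f⁻¹) * (f * f * f * f) := by group
    _ = _ := by rw [h1, one_mul]

theorem Lets.d3 (h : Lets t s w f d y) : d * d * d = 1 := h.rel.d3

theorem Lets.dinv (h : Lets t s w f d y) : d⁻¹ = d * d := inv_eq_of_mul_eq_one_left h.d3

/-- `d⁻¹` normalises `L` -/
theorem Lets.dinv_L (h : Lets t s w f d y) {l : K} (hl : l ∈ closure ({s, w, f} : Set K)) :
    d⁻¹ * l * d ∈ closure ({s, w, f} : Set K) := by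
  induction hl using closure_induction with
  | mem x hx =>
    rcases hx with rfl | rfl | rfl
    · have : d⁻¹ * x * d = x := by
        calc d⁻¹ * x * d = d⁻¹ * (d * x * d⁻¹) * d := by rw [h.ds]
          _ = x := by group
      rw [this]; exact subset_closure (by simp)
    · have : d⁻¹ * x * d = x := by
        calc d⁻¹ * x * d = d⁻¹ * (d * x * d⁻¹) * d := by rw [h.dw]
          _ = x := by group
      rw [this]; exact subset_closure (by simp)
    · rw [h.df]
      have hf : x ∈ closure ({s, w, x} : Set K) := subset_closure (by simp)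
      exact mul_mem (mul_mem (mul_mem hf hf) hf) hf
  | one =>
    have : d⁻¹ * 1 * d = 1 := by group
    rw [this]; exact one_mem _
  | mul a b _ _ ha hb =>
    have : d⁻¹ * (a * b) * d = (d⁻¹ * a * d) * (d⁻¹ * b * d) := by group
    rw [this]; exact mul_mem ha hb
  | inv a _ ha =>
    have : d⁻¹ * a⁻¹ * d = (d⁻¹ * a * d)⁻¹ := by group
    rw [this]; exact inv_mem ha

theorem Lets.d_L (h : Lets t s w f d y) {l : K} (hl : l ∈ closure ({s, w, f} : Set K)) :
    d * l * d⁻¹ ∈ closure ({s, w, f} : Set K) := by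
  have h1 := h.dinv_L (h.dinv_L hl)
  have h2 : d⁻¹ * (d⁻¹ * l * d) * d = d * l * d⁻¹ := by
    have h3 := h.dinv
    calc d⁻¹ * (d⁻¹ * l * d) * d = d⁻¹ * d⁻¹ * l * (d * d) := by group
      _ = d⁻¹ * d⁻¹ * l * d⁻¹ := by rw [← h3]
      _ = (d * d) * (d * d) * l * d⁻¹ := by rw [← h3]
      _ = (d * d * d) * d * l * d⁻¹ := by group
      _ = _ := by rw [h.d3, one_mul]
  rw [← h2]; exact h1

theorem Lets.tL (h : Lets t s w f d y) {l : K} (hl : l ∈ closure ({s, w, f} : Set K)) : t * l = l * t := by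
  have ht := h.tsq
  have htinv : t⁻¹ = t := inv_eq_of_mul_eq_one_left ht
  induction hl using closure_induction with
  | mem x hx =>
    rcases hx with rfl | rfl | rfl
    · have h1 : t * x * t = x := mul_inv_eq_one.1 h.rel.ts
      calc t * x = (t * x * t) * t := by rw [mul_assoc (t * x), ht, mul_one]
        _ = _ := by rw [h1]
    · have h1 := h.rel.tw
      have hw := h.rel.w2
      have h2 : t * x * t = x := by
        calc t * x * t = t * x * t * (x * x) := by rw [hw, mul_one]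
          _ = (t * x * t * x) * x := by simp only [mul_assoc]
          _ = x := by rw [h1, one_mul]
      calc t * x = (t * x * t) * t := by rw [mul_assoc (t * x), ht, mul_one]
        _ = _ := by rw [h2]
    · have h1 : t * x * t = x := mul_inv_eq_one.1 h.rel.tf
      calc t * x = (t * x * t) * t := by rw [mul_assoc (t * x), ht, mul_one]
        _ = _ := by rw [h1]
  | one => rw [one_mul, mul_one]
  | mul a b _ _ ha hb =>
    calc t * (a * b) = (t * a) * b := by rw [mul_assoc]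
      _ = a * (t * b) := by rw [ha, mul_assoc]
      _ = _ := by rw [hb, mul_assoc]
  | inv a _ ha =>
    calc t * a⁻¹ = a⁻¹ * (a * t) * a⁻¹ := by group
      _ = a⁻¹ * (t * a) * a⁻¹ := by rw [ha]
      _ = _ := by group

theorem Lets.t2L (h : Lets t s w f d y) {l : K} (hl : l ∈ closure ({s, w, f} : Set K)) :
    (d * t * d⁻¹) * l = l * (d * t * d⁻¹) := by
  have h1 := h.tL (h.dinv_L hl)
  calc (d * t * d⁻¹) * l = d * (t * (d⁻¹ * l * d)) * d⁻¹ := by group
    _ = d * ((d⁻¹ * l * d) * t) * d⁻¹ := by rw [h1]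
    _ = _ := by group

theorem Lets.vv_L (h : Lets t s w f d y) (a : A4) {l : K} (hl : l ∈ closure ({s, w, f} : Set K)) :
    vv t d a * l = l * vv t d a := by
  unfold vv
  rw [mul_assoc, pw_comm (h.t2L hl), ← mul_assoc, pw_comm (h.tL hl), mul_assoc]

/-- the action of `d` on the indices -/
def rot (a : A4) : A4 := (a.2, a.1 + a.2)

theorem Lets.dt2 (h : Lets t s w f d y) : d * (d * t * d⁻¹) * d⁻¹ = t * (d * t * d⁻¹) := by
  have h1 := h.rel.td
  have h2 : (t * (d * t * d⁻¹)) * (d * (d * t * d⁻¹) * d⁻¹) = 1 := by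
    calc (t * (d * t * d⁻¹)) * (d * (d * t * d⁻¹) * d⁻¹) = (t * d * t * d * t * d) * (d⁻¹ * d⁻¹ * d⁻¹) := by group
      _ = (d * d * d)⁻¹ := by rw [h1, one_mul]; group
      _ = 1 := by rw [h.d3, inv_one]
  have h3 : (t * (d * t * d⁻¹)) * (t * (d * t * d⁻¹)) = 1 := by
    calc (t * (d * t * d⁻¹)) * (t * (d * t * d⁻¹)) = t * ((d * t * d⁻¹) * t) * (d * t * d⁻¹) := by simp only [mul_assoc]
      _ = t * (t * (d * t * d⁻¹)) * (d * t * d⁻¹) := by rw [← h.tt]
      _ = (t * t) * ((d * t * d⁻¹) * (d * t * d⁻¹)) := by simp only [mul_assoc]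
      _ = 1 := by rw [h.tsq, h.t2sq, one_mul]
  exact mul_left_cancel (h2.trans h3.symm)

theorem pw_conj (x g : K) (i : ZMod 2) : g * pw x i * g⁻¹ = pw (g * x * g⁻¹) i := by
  rcases zmod2 i with rfl | rfl
  · rw [pw_zero, pw_zero, mul_one, mul_inv_cancel]
  · rfl

theorem pw_prod (x z : K) (i : ZMod 2) : pw (x * z) i = pw x i * pw z i := by
  rcases zmod2 i with rfl | rfl
  · exact (one_mul 1).symm
  · rfl

theorem Lets.vv_rot (h : Lets t s w f d y) (a : A4) : d * vv t d a * d⁻¹ = vv t d (rot a) := by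
  unfold vv rot
  have h1 : d * (pw t a.1 * pw (d * t * d⁻¹) a.2) * d⁻¹ = (d * pw t a.1 * d⁻¹) * (d * pw (d * t * d⁻¹) a.2 * d⁻¹) := by
    group
  rw [h1, pw_conj, pw_conj, h.dt2, pw_prod t (d * t * d⁻¹), ← mul_assoc, pw_comm (pw_comm h.tt a.2).symm, mul_assoc,
    pw_mul h.t2sq]

theorem Lets.vv_ne (h : Lets t s w f d y) {a : A4} (ha : a ≠ 0) : vv t d a ≠ 1 := by
  have key : ∀ a : A4, vv t d (rot a) = 1 → vv t d a = 1 := by
    intro a ha
    rw [← h.vv_rot] at ha
    calc vv t d a = d⁻¹ * (d * vv t d a * d⁻¹) * d := by group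
      _ = 1 := by rw [ha]; group
  have cases : ∀ a : A4, a ≠ 0 → a = (1, 0) ∨ a = rot (1, 0) ∨ a = rot (rot (1, 0)) := by decide
  intro h1
  apply h.ne
  rw [← vv_one0 (t := t) (d := d)]
  rcases cases a ha with rfl | rfl | rfl
  · exact h1
  · exact key _ h1
  · exact key _ (key _ h1)

theorem Lets.vv_conj (h : Lets t s w f d y) {a : A4} (ha : a ≠ 0) : ∃ g : K, g⁻¹ * t * g = vv t d a := by
  have key : ∀ a : A4, (∃ g : K, g⁻¹ * t * g = vv t d a) → ∃ g : K, g⁻¹ * t * g = vv t d (rot a) := by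
    rintro a ⟨g, hg⟩
    refine ⟨g * d⁻¹, ?_⟩
    rw [← h.vv_rot, ← hg]
    group
  have cases : ∀ a : A4, a ≠ 0 → a = (1, 0) ∨ a = rot (1, 0) ∨ a = rot (rot (1, 0)) := by decide
  have h0 : ∃ g : K, g⁻¹ * t * g = vv t d (1, 0) := ⟨1, by rw [vv_one0]; group⟩
  rcases cases a ha with rfl | rfl | rfl
  · exact h0
  · exact key _ h0
  · exact key _ (key _ h0)

/-! ### growth -/

section grow

variable (R : SzRel.Rel ↥(closure ({s, w, f} : Set K)) K8)

theorem z_add (a b : K8) : (R.u 0 a : K) * (R.u 0 b : K) = (R.u 0 (a + b) : K) := by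
  have h := congrArg Subtype.val (SzL.umul R 0 a 0 b)
  have e : ∀ a b : K8, (0 : K8) + 0 = 0 ∧ a + b + 0 * (0 : K8) ^ 4 = a + b := by decide +kernel
  rw [(e a b).1, (e a b).2] at h
  exact h

theorem z_one (hs : (R.u 1 1 : K) = s) : s * s = (R.u 0 1 : K) := by
  have h := congrArg Subtype.val (SzL.sq2 R)
  rw [← h]
  show s * s = (R.u 1 1 : K) * (R.u 1 1 : K)
  rw [hs]

theorem d_conj (k : K8ˣ) (b : K8) : (R.d k : K) * (R.u 0 b : K) * (R.d k : K)⁻¹ = (R.u 0 (b * (k : K8) ^ 4) : K) := by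
  have h := congrArg Subtype.val (SzL.dconj R k 0 b)
  rw [zero_mul] at h
  exact h

theorem f_conj (hf : (R.d k0 : K) = f) (b : K8) : f * (R.u 0 b : K) * f⁻¹ = (R.u 0 (b * K8.al ^ 2) : K) := by
  have h := d_conj R k0 b
  have e : ∀ b : K8, b * (K8.al ^ 4) ^ 4 = b * K8.al ^ 2 := by decide +kernel
  rw [hf, k0_val, e] at h
  exact h

theorem z_al2 (hs : (R.u 1 1 : K) = s) (hf : (R.d k0 : K) = f) : f * (s * s) * f⁻¹ = (R.u 0 (K8.al ^ 2) : K) := by
  rw [z_one R hs, f_conj R hf, one_mul]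

theorem z_al (hs : (R.u 1 1 : K) = s) (hf : (R.d k0 : K) = f) :
    f * f * f * f * (s * s) * (f * f * f * f)⁻¹ = (R.u 0 K8.al : K) := by
  have e : (1 : K8) * K8.al ^ 2 * K8.al ^ 2 * K8.al ^ 2 * K8.al ^ 2 = K8.al := by decide +kernel
  calc f * f * f * f * (s * s) * (f * f * f * f)⁻¹ = f * (f * (f * (f * (s * s) * f⁻¹) * f⁻¹) * f⁻¹) * f⁻¹ := by group
    _ = _ := by rw [z_one R hs, f_conj R hf, f_conj R hf, f_conj R hf, f_conj R hf, e]

theorem Lets.grow (h : Lets t s w f d y) (hs : (R.u 1 1 : K) = s) (hf : (R.d k0 : K) = f) (c : K8) :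
    ∃ x : K, (∀ b, x * (R.u 0 b : K) = (R.u 0 b : K) * x) ∧
      ∀ a, x * vv t d a * x⁻¹ = vv t d a * (R.u 0 (c * emb a) : K) := by
  by_cases hc : c = 0
  · refine ⟨1, fun b => by rw [one_mul, mul_one], fun a => ?_⟩
    have h0 : (R.u 0 0 : K) = 1 := congrArg Subtype.val R.u_zero
    rw [hc, zero_mul, h0, one_mul, inv_one]
  -- the element for `1 + α`
  have g1 := h.g1
  have g2 := h.g2
  have g3 := h.g3
  have g4 := h.g4
  have g5 := h.g5
  rw [z_al R hs hf, z_one R hs] at g1 g4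
  rw [z_al R hs hf] at g2
  rw [z_al R hs hf, z_al2 R hs hf] at g3 g5
  set x := y * (R.u 0 K8.al : K) * y with hx
  have hz : ∀ b, x * (R.u 0 b : K) = (R.u 0 b : K) * x := by
    have hadd : ∀ a b : K8, x * (R.u 0 a : K) = (R.u 0 a : K) * x → x * (R.u 0 b : K) = (R.u 0 b : K) * x →
        x * (R.u 0 (a + b) : K) = (R.u 0 (a + b) : K) * x := by
      intro a b ha hb
      rw [← z_add, ← mul_assoc, ha, mul_assoc, hb, mul_assoc]
    have h0 : x * (R.u 0 0 : K) = (R.u 0 0 : K) * x := by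
      have h0 : (R.u 0 0 : K) = 1 := congrArg Subtype.val R.u_zero
      rw [h0, one_mul, mul_one]
    have all : ∀ b : K8, b = 0 ∨ b = 1 ∨ b = K8.al ∨ b = K8.al ^ 2 ∨ b = 1 + K8.al ∨ b = 1 + K8.al ^ 2 ∨
      b = K8.al + K8.al ^ 2 ∨ b = 1 + (K8.al + K8.al ^ 2) := by decide +kernel
    intro b
    rcases all b with rfl | rfl | rfl | rfl | rfl | rfl | rfl | rfl
    · exact h0
    · exact g1
    · exact g2
    · exact g3
    · exact hadd _ _ g1 g2
    · exact hadd _ _ g1 g3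
    · exact hadd _ _ g2 g3
    · exact hadd _ _ g1 (hadd _ _ g2 g3)
  have hzL : ∀ b, (R.u 0 b : K) ∈ closure ({s, w, f} : Set K) := fun b => (R.u 0 b).2
  have hp : ∀ i : ZMod 2, x * pw t i * x⁻¹ = pw t i * (R.u 0 (if i = 0 then 0 else 1 + K8.al) : K) := by
    intro i
    rcases zmod2 i with rfl | rfl
    · have h0 : (R.u 0 0 : K) = 1 := congrArg Subtype.val R.u_zero
      rw [if_pos rfl, h0, pw_zero, mul_one, mul_one, mul_inv_cancel]
    · rw [if_neg (by decide), pw_one, g4, mul_inv_cancel_right, mul_assoc, z_add]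
  have hq : ∀ i : ZMod 2, x * pw (d * t * d⁻¹) i * x⁻¹ =
      pw (d * t * d⁻¹) i * (R.u 0 (if i = 0 then 0 else K8.al + K8.al ^ 2) : K) := by
    intro i
    rcases zmod2 i with rfl | rfl
    · have h0 : (R.u 0 0 : K) = 1 := congrArg Subtype.val R.u_zero
      rw [if_pos rfl, h0, pw_zero, mul_one, mul_one, mul_inv_cancel]
    · rw [if_neg (by decide), pw_one, g5, mul_inv_cancel_right, mul_assoc, z_add]
  have hv : ∀ a, x * vv t d a * x⁻¹ = vv t d a * (R.u 0 ((1 + K8.al) * emb a) : K) := by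
    intro a
    have e : ∀ a : A4, (if a.1 = 0 then 0 else 1 + K8.al) + (if a.2 = 0 then 0 else K8.al + K8.al ^ 2) =
      (1 + K8.al) * emb a := by decide +kernel
    have h1 : x * vv t d a * x⁻¹ = (x * pw t a.1 * x⁻¹) * (x * pw (d * t * d⁻¹) a.2 * x⁻¹) := by
      unfold vv; group
    rw [h1, hp, hq, ← e a, ← z_add]
    unfold vv
    have h2 := pw_comm (h.t2L (hzL (if a.1 = 0 then 0 else 1 + K8.al))) a.2
    calc pw t a.1 * (R.u 0 (if a.1 = 0 then 0 else 1 + K8.al) : K) *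
          (pw (d * t * d⁻¹) a.2 * (R.u 0 (if a.2 = 0 then 0 else K8.al + K8.al ^ 2) : K))
        = pw t a.1 * ((R.u 0 (if a.1 = 0 then 0 else 1 + K8.al) : K) * pw (d * t * d⁻¹) a.2) *
          (R.u 0 (if a.2 = 0 then 0 else K8.al + K8.al ^ 2) : K) := by simp only [mul_assoc]
      _ = _ := by rw [← h2]; simp only [mul_assoc]
  have h1al : (1 + K8.al : K8) ≠ 0 := by decide +kernel
  have hk : (c * (1 + K8.al)⁻¹) ^ 2 ≠ 0 := pow_ne_zero _ (mul_ne_zero hc (inv_ne_zero h1al))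
  set k : K8ˣ := Units.mk0 _ hk with hkd
  have hkv : (k : K8) = (c * (1 + K8.al)⁻¹) ^ 2 := rfl
  refine ⟨(R.d k : K) * x * (R.d k : K)⁻¹, fun b => ?_, fun a => ?_⟩
  · have h1 := d_conj R k⁻¹ b
    have h2 : (R.d k⁻¹ : K) = (R.d k : K)⁻¹ := by
      rw [← R.d_inv]; rfl
    rw [h2, inv_inv] at h1
    calc (R.d k : K) * x * (R.d k : K)⁻¹ * (R.u 0 b : K)
        = (R.d k : K) * (x * ((R.d k : K)⁻¹ * (R.u 0 b : K) * (R.d k : K))) * (R.d k : K)⁻¹ := by group
      _ = (R.d k : K) * (((R.d k : K)⁻¹ * (R.u 0 b : K) * (R.d k : K)) * x) * (R.d k : K)⁻¹ := by rw [h1, hz]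
      _ = _ := by group
  · have h1 := h.vv_L a (R.d k).2
    have e : ∀ c e : K8, (1 + K8.al) * e * ((c * (1 + K8.al)⁻¹) ^ 2) ^ 4 = c * e := by decide +kernel
    calc (R.d k : K) * x * (R.d k : K)⁻¹ * vv t d a * ((R.d k : K) * x * (R.d k : K)⁻¹)⁻¹
        = (R.d k : K) * (x * ((R.d k : K)⁻¹ * (vv t d a * (R.d k : K))) * x⁻¹) * (R.d k : K)⁻¹ := by group
      _ = (R.d k : K) * (x * vv t d a * x⁻¹) * (R.d k : K)⁻¹ := by rw [h1, inv_mul_cancel_left]
      _ = (R.d k : K) * (vv t d a * (R.u 0 ((1 + K8.al) * emb a) : K)) * (R.d k : K)⁻¹ := by rw [hv]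
      _ = ((R.d k : K) * vv t d a) * (R.u 0 ((1 + K8.al) * emb a) : K) * (R.d k : K)⁻¹ := by simp only [mul_assoc]
      _ = vv t d a * ((R.d k : K) * (R.u 0 ((1 + K8.al) * emb a) : K) * (R.d k : K)⁻¹) := by
          rw [← h1]; simp only [mul_assoc]
      _ = _ := by rw [d_conj, hkv, e]

/-! ### the centralisers -/

include R in
theorem Lets.notin (h : Lets t s w f d y) (a : A4) (ha : vv t d a ∈ closure ({s, w, f} : Set K)) : a = 0 := by
  by_contra hne
  apply h.vv_ne hne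
  have h1 : (⟨vv t d a, ha⟩ : ↥(closure ({s, w, f} : Set K))) = 1 :=
    RuRed.CtxSz.center_trivial R fun l => Subtype.ext (h.vv_L a l.2)
  exact congrArg Subtype.val h1

include R in
theorem Lets.inj (h : Lets t s w f d y) {a b : A4} {l m : K} (hl : l ∈ closure ({s, w, f} : Set K))
    (hm : m ∈ closure ({s, w, f} : Set K)) (e : vv t d a * l = vv t d b * m) : a = b ∧ l = m := by
  have haa : vv t d b * vv t d b = 1 := by
    rw [← h.vv_add]
    have h0 : ∀ b : A4, b + b = 0 := by decide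
    rw [h0, vv_zero]
  have h1 : vv t d (b + a) = m * l⁻¹ := by
    rw [h.vv_add, eq_mul_inv_iff_mul_eq, mul_assoc, e, ← mul_assoc, haa, one_mul]
  have h2 := h.notin R (b + a) (by rw [h1]; exact mul_mem hm (inv_mem hl))
  have h3 : ∀ a b : A4, b + a = 0 → a = b := by decide
  have h4 := h3 a b h2
  subst h4
  exact ⟨rfl, mul_left_cancel e⟩

theorem Lets.conj_vl (h : Lets t s w f d y) (hs : (R.u 1 1 : K) = s) (hf : (R.d k0 : K) = f) {a : A4} (ha : a ≠ 0)
    (l : ↥(closure ({s, w, f} : Set K))) (hl : l * l = 1) : ∃ g : K, g⁻¹ * t * g = vv t d a * l := by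
  have : Finite K := h.finite
  obtain ⟨g0, hg0⟩ := h.vv_conj ha
  by_cases hl1 : l = 1
  · exact ⟨g0, by rw [hl1, hg0]; exact (mul_one _).symm⟩
  obtain ⟨m, hm⟩ := RuB.Count.exists_conj R hl hl1
  obtain ⟨x, hx, hxv⟩ := h.grow R hs hf (emb a)⁻¹
  have he : emb a ≠ 0 := fun h1 => ha (emb_eq_zero.1 h1)
  have h1 := hxv a
  rw [inv_mul_cancel₀ he] at h1
  have h2 := h.vv_L a m.2
  have h3 : (m : K) * (R.u 0 1 : K) * (m : K)⁻¹ = (l : K) := congrArg Subtype.val hm
  refine ⟨g0 * (m * x)⁻¹, ?_⟩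
  calc (g0 * (m * x : K)⁻¹)⁻¹ * t * (g0 * (m * x : K)⁻¹) = m * (x * (g0⁻¹ * t * g0) * x⁻¹) * (m : K)⁻¹ := by group
    _ = m * (vv t d a * (R.u 0 1 : K)) * (m : K)⁻¹ := by rw [hg0, h1]
    _ = (m * vv t d a) * (R.u 0 1 : K) * (m : K)⁻¹ := by simp only [mul_assoc]
    _ = vv t d a * (m * (R.u 0 1 : K) * (m : K)⁻¹) := by rw [← h2]; simp only [mul_assoc]
    _ = _ := by rw [h3]

theorem Lets.vv_mem_H (a : A4) : vv t d a ∈ closure ({t, s, w, f, d} : Set K) := by
  have ht : t ∈ closure ({t, s, w, f, d} : Set K) := subset_closure (by simp)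
  have hd : d ∈ closure ({t, s, w, f, d} : Set K) := subset_closure (by simp)
  have key : ∀ (x : K) (i : ZMod 2), x ∈ closure ({t, s, w, f, d} : Set K) →
      pw x i ∈ closure ({t, s, w, f, d} : Set K) := by
    intro x i hx
    rcases zmod2 i with rfl | rfl
    · exact one_mem _
    · exact hx
  exact mul_mem (key _ _ ht) (key _ _ (mul_mem (mul_mem hd ht) (inv_mem hd)))

theorem Lets.card_cent (h : Lets t s w f d y) (hs : (R.u 1 1 : K) = s) (hf : (R.d k0 : K) = f) :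
    Nat.card (centralizer ({t} : Set K)) ≤ 116480 := by
  have : Finite K := h.finite
  let c : {a : A4 // a ≠ 0} × {l : ↥(closure ({s, w, f} : Set K)) // l * l = 1} → K := fun p =>
    vv t d p.1.1 * ((p.2.1 : ↥(closure ({s, w, f} : Set K))) : K)
  have h1 := h.card_mul c (fun p q e => by
      obtain ⟨e1, e2⟩ := h.inj R p.2.1.2 q.2.1.2 e
      exact Prod.ext (Subtype.ext e1) (Subtype.ext (Subtype.ext e2)))
    (fun p => mul_mem (Lets.vv_mem_H p.1.1) (L_le_H p.2.1.2))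
    (fun p => h.conj_vl R hs hf p.1.2 p.2.1 p.2.2)
  have h3 : Nat.card {a : A4 // a ≠ 0} = 3 := by
    rw [Nat.card_eq_fintype_card]; decide
  rw [Nat.card_prod, h3] at h1
  have h4 := card_inv R
  have h5 : Nat.card (centralizer ({t} : Set K)) * (3 * 456) ≤ 456 * 349440 :=
    (Nat.mul_le_mul_left _ (Nat.mul_le_mul_left _ h4)).trans h1
  omega

theorem Lets.cent_t (h : Lets t s w f d y) (hs : (R.u 1 1 : K) = s) (hf : (R.d k0 : K) = f) {g : K}
    (hg : g * t = t * g) : ∃ b, ∃ l ∈ closure ({s, w, f} : Set K), g = vv t d b * l := by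
  have : Finite K := h.finite
  have htt : ∀ b : A4, vv t d b * t = t * vv t d b := by
    intro b
    have h1 := h.vv_add b (1, 0)
    have h2 := h.vv_add (1, 0) b
    rw [vv_one0] at h1 h2
    rw [← h1, ← h2, add_comm]
  let φ : A4 × ↥(closure ({s, w, f} : Set K)) → centralizer ({t} : Set K) := fun p =>
    ⟨vv t d p.1 * (p.2 : K), mem_centralizer_singleton_iff.2 (by
      rw [mul_assoc, ← h.tL p.2.2, ← mul_assoc, htt, mul_assoc])⟩
  have hinj : Function.Injective φ := by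
    intro p q e
    obtain ⟨e1, e2⟩ := h.inj R p.2.2 q.2.2 (congrArg Subtype.val e)
    exact Prod.ext e1 (Subtype.ext e2)
  have hcard : Nat.card (A4 × ↥(closure ({s, w, f} : Set K))) = 116480 := by
    have h4 : Nat.card A4 = 4 := by rw [Nat.card_eq_fintype_card]; decide
    rw [Nat.card_prod, h.card_L, h4]
  have hbij : Function.Bijective φ := by
    rw [Nat.bijective_iff_injective_and_card]
    refine ⟨hinj, le_antisymm (Nat.card_le_card_of_injective φ hinj) ?_⟩
    rw [hcard]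
    exact h.card_cent R hs hf
  obtain ⟨⟨b, l⟩, hbl⟩ := hbij.2 ⟨g, mem_centralizer_singleton_iff.2 hg⟩
  exact ⟨b, l, l.2, (congrArg Subtype.val hbl).symm⟩

theorem Lets.cent (h : Lets t s w f d y) (hs : (R.u 1 1 : K) = s) (hf : (R.d k0 : K) = f) (a : A4) (ha : a ≠ 0)
    (g : K) (hg : g * vv t d a = vv t d a * g) : ∃ b, ∃ l ∈ closure ({s, w, f} : Set K), g = vv t d b * l := by
  have key : ∀ a : A4, (∀ g : K, g * vv t d a = vv t d a * g →
        ∃ b, ∃ l ∈ closure ({s, w, f} : Set K), g = vv t d b * l) →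
      ∀ g : K, g * vv t d (rot a) = vv t d (rot a) * g →
        ∃ b, ∃ l ∈ closure ({s, w, f} : Set K), g = vv t d b * l := by
    intro a hP g hg
    rw [← h.vv_rot] at hg
    obtain ⟨b, l, hl, e⟩ := hP (d⁻¹ * g * d) (by
      calc d⁻¹ * g * d * vv t d a = d⁻¹ * (g * (d * vv t d a * d⁻¹)) * d := by group
        _ = d⁻¹ * ((d * vv t d a * d⁻¹) * g) * d := by rw [hg]
        _ = _ := by group)
    refine ⟨rot b, d * l * d⁻¹, h.d_L hl, ?_⟩
    rw [← h.vv_rot]
    calc g = d * (d⁻¹ * g * d) * d⁻¹ := by group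
      _ = _ := by rw [e]; group
  have cases : ∀ a : A4, a ≠ 0 → a = (1, 0) ∨ a = rot (1, 0) ∨ a = rot (rot (1, 0)) := by decide
  have h0 : ∀ g : K, g * vv t d (1, 0) = vv t d (1, 0) * g →
      ∃ b, ∃ l ∈ closure ({s, w, f} : Set K), g = vv t d b * l := by
    intro g hg
    rw [vv_one0] at hg
    exact h.cent_t R hs hf hg
  rcases cases a ha with rfl | rfl | rfl
  · exact h0 g hg
  · exact key _ h0 g hg
  · exact key _ (key _ h0) g hg

end grow

/-- **the core** with its letters -/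
theorem Lets.exists_core (h : Lets t s w f d y) : ∃ C : Core K, Ru127.Sg.Rel C ∧
    C.L = closure ({s, w, f} : Set K) ∧ (∀ a, C.v a = vv t d a) ∧ C.U 1 1 = s ∧ (C.R.w : K) = w ∧ C.dk k0 = f := by
  obtain ⟨R, hs, hw, hf, hR⟩ := SzL.exists_rel h.rel8 h.card_L
  let C : Core K :=
    { L := closure ({s, w, f} : Set K)
      R := R
      v := vv t d
      v_add := h.vv_add
      v_comm := fun a l hl => h.vv_L a hl
      v_notin := h.notin R
      cent := fun a ha g hg => h.cent R hs hf a ha g hg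
      grow := fun c => h.grow R hs hf c }
  refine ⟨C, Ru127.Bridge.rel_of ?_, rfl, fun _ => rfl, hs, hw, hf⟩
  exact congrArg Subtype.val hR

/-- **every group isomorphic to the Rudvalis group has a core** -/
theorem exists_core {K : Type*} [Group K] (h : Cfsg.Spor.IsoRu K) : ∃ C : Core K, Ru127.Sg.Rel C := by
  obtain ⟨t, s, w, f, d, y, hL⟩ := exists_lets h
  obtain ⟨C, hC, _⟩ := hL.exists_core
  exact ⟨C, hC⟩

end Cfsg.Agent.KFacts.Ru
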