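import Cfsg.Agent.KFacts.Ru.Lets
import Cfsg.Agent.RuRed.SzRelMore

/-!
# The centraliser of `t` in the Rudvalis group: the upper bound

`H = ⟨t, s, w, f, d⟩` has order 349440 and index 417600; `t` fixes at most 456 cosets of `H`. If `m` pairs
`(g, g⁻¹ t g)` with different second components in `H` are known, `|C(t)| * m ≤ 456 * 349440`.
-/

set_option autoImplicit false
set_option maxRecDepth 100000
set_option linter.constructorNameAsVariable false

namespace Cfsg.Agent.KFacts.Ru

open Subgroup Cfsg.Agent.SporRec.TCUpperCert Cfsg.Agent.RuD Cfsg.Agent.RuD.Rels Cfsg.Agent.RuD.IdxDef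
open Cfsg.Agent.Lib.PermNet Cfsg.Agent.RuD.IdxNet Cfsg.Agent.RuD.IdxRel Cfsg.Agent.RuD.IdxRelX

variable {K : Type*} [Group K] {t s w f d y : K}

theorem Lets.finite (h : Lets t s w f d y) : Finite K := Nat.finite_of_card_ne_zero (by rw [h.card]; norm_num)

theorem Lets.card_H (h : Lets t s w f d y) : Nat.card (closure ({t, s, w, f, d} : Set K)) = 349440 ∧
    (closure ({t, s, w, f, d} : Set K)).index = 417600 := by
  have h1 := (HBound.card_H h.rel.toRuRels).1
  have h2 := (IdxFin.index_le h.rel).1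
  rw [h.gen, relIndex_top_right] at h2
  have h3 := (closure ({t, s, w, f, d} : Set K)).index_mul_card
  rw [h.card] at h3
  constructor
  · by_contra hne
    have h4 : Nat.card (closure ({t, s, w, f, d} : Set K)) ≤ 349439 := by omega
    have h5 := Nat.mul_le_mul h2 h4
    omega
  · by_contra hne
    have h4 : (closure ({t, s, w, f, d} : Set K)).index ≤ 417599 := by omega
    have h5 := Nat.mul_le_mul h4 h1
    omega

theorem Lets.rel8 (h : Lets t s w f d y) : SzL.Rel8 s w f := SzL.rel8_of h.rel.toRuRels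

theorem L_le_H : closure ({s, w, f} : Set K) ≤ closure ({t, s, w, f, d} : Set K) :=
  closure_mono (by intro x hx; rcases hx with rfl | rfl | rfl <;> simp)

theorem Lets.card_L (h : Lets t s w f d y) : Nat.card (closure ({s, w, f} : Set K)) = 29120 := by
  have h1 := (SzL.card_le h.rel8).1
  have h2 := (HBound.index_H h.rel.toRuRels).1
  have h3 := relIndex_mul_relIndex _ _ _ (bot_le : ⊥ ≤ closure ({s, w, f} : Set K)) (L_le_H (t := t) (d := d))
  rw [relIndex_bot_left, relIndex_bot_left, h.card_H.1] at h3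
  by_contra hne
  have h4 : Nat.card (closure ({s, w, f} : Set K)) ≤ 29119 := by omega
  have h5 := Nat.mul_le_mul h4 h2
  omega

/-! ### fixed points -/

/-- the fixed cosets are among 456 -/
theorem Lets.card_fix (h : Lets t s w f d y) :
    Nat.card {q : K ⧸ closure ({t, s, w, f, d} : Set K) // t • q = q} ≤ 456 := by
  have : Finite K := h.finite
  set H := closure ({t, s, w, f, d} : Set K) with hH
  obtain ⟨F, hF0, hF⟩ := IdxFin.valid.exists_label (X := K ⧸ H) (xg t s w f d y) (ev_rels h.rel)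
    ((1 : K) : K ⧸ H) (fun a ha => by
      show ((xg t s w f d y a * 1 : K) : K ⧸ H) = ((1 : K) : K ⧸ H)
      rw [QuotientGroup.eq]
      simpa using H.inv_mem (xg_mem_H t s w f d y a ha))
  have hcl := IdxFin.valid.inv_closed hF
  rw [closure_xg, h.gen] at hcl
  let φ : Fin 417600 → K ⧸ H := fun i => F i
  have hsurj : Function.Surjective φ := by
    intro q
    obtain ⟨g, rfl⟩ := QuotientGroup.mk_surjective q
    obtain ⟨j, hj, e⟩ := hcl g (mem_top g) _ (show IdxDef.C.root < IdxDef.C.n from (by decide : (412160 : ℕ) < 417600))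
    refine ⟨⟨j, hj⟩, ?_⟩
    show F j = _
    rw [← e, hF0]
    show ((g * 1 : K) : K ⧸ H) = _
    rw [mul_one]
  have hbij : Function.Bijective φ := by
    rw [Nat.bijective_iff_surjective_and_card]
    refine ⟨hsurj, ?_⟩
    rw [Nat.card_eq_fintype_card, Fintype.card_fin]
    exact h.card_H.2.symm
  -- the letter `t`
  have ht2 : t * t = 1 := h.rel.t2
  have hxt : xg t s w f d y .t = t := by
    show (lv (gl t s w f d y) 0)⁻¹ = t
    have : lv (gl t s w f d y) 0 = t := rfl
    rw [this]
    exact inv_eq_of_mul_eq_one_left ht2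
  have hpt : ∀ i < 417600, t • F i = F (netT.perm i) := by
    intro i hi
    have h1 := hF .t i hi
    rw [hxt] at h1
    exact h1
  have hlt : ∀ i, netT.perm i < 417600 ↔ i < 417600 := fun i => IdxFin.valid.hn .t i
  let ψ : {q : K ⧸ H // t • q = q} → FixT.fixS := fun q =>
    ⟨((Equiv.ofBijective φ hbij).symm q.1 : Fin 417600), by
      set i := (Equiv.ofBijective φ hbij).symm q.1 with hi
      have h1 : φ i = q.1 := (Equiv.ofBijective φ hbij).apply_symm_apply q.1
      have h2 := q.2
      rw [← h1] at h2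
      have h3 : F (netT.perm i) = F i := by rw [← hpt i i.2]; exact h2
      have h4 : (⟨netT.perm i, (hlt i).2 i.2⟩ : Fin 417600) = i := hbij.1 h3
      exact FixT.fix_mem i.2 (congrArg Fin.val h4)⟩
  have hψ : Function.Injective ψ := by
    intro a b hab
    apply Subtype.ext
    have h1 : ((Equiv.ofBijective φ hbij).symm a.1 : ℕ) = ((Equiv.ofBijective φ hbij).symm b.1 : ℕ) :=
      congrArg (fun x : FixT.fixS => (x : ℕ)) hab
    exact (Equiv.ofBijective φ hbij).symm.injective (Fin.ext h1)
  refine (Nat.card_le_card_of_injective ψ hψ).trans ?_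
  rw [Nat.card_eq_fintype_card, Fintype.card_coe]
  exact FixT.card_fixS

/-- the elements conjugating `t` into `H` -/
theorem Lets.card_P (h : Lets t s w f d y) :
    Nat.card {g : K // g⁻¹ * t * g ∈ closure ({t, s, w, f, d} : Set K)} ≤ 456 * 349440 := by
  have : Finite K := h.finite
  set H := closure ({t, s, w, f, d} : Set K) with hH
  have hout : ∀ g : K, ((g : K ⧸ H).out)⁻¹ * g ∈ H := fun g => by
    rw [← QuotientGroup.eq, QuotientGroup.out_eq']
  let φ : {g : K // g⁻¹ * t * g ∈ H} → {q : K ⧸ H // t • q = q} × H := fun g =>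
    (⟨(g.1 : K ⧸ H), by
      show ((t * g.1 : K) : K ⧸ H) = (g.1 : K ⧸ H)
      rw [eq_comm, QuotientGroup.eq, ← mul_assoc]
      exact g.2⟩, ⟨((g.1 : K ⧸ H).out)⁻¹ * g.1, hout g.1⟩)
  have hφ : Function.Injective φ := by
    intro a b hab
    have h1 : (a.1 : K ⧸ H) = (b.1 : K ⧸ H) := congrArg (fun x => x.1.1) hab
    have h2 : ((a.1 : K ⧸ H).out)⁻¹ * a.1 = ((b.1 : K ⧸ H).out)⁻¹ * b.1 := congrArg (fun x => (x.2 : K)) hab
    rw [h1] at h2
    exact Subtype.ext (mul_left_cancel h2)
  refine (Nat.card_le_card_of_injective φ hφ).trans ?_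
  rw [Nat.card_prod, h.card_H.1]
  exact Nat.mul_le_mul_right _ h.card_fix

/-- **the bound** -/
theorem Lets.card_mul (h : Lets t s w f d y) {ι : Type*} (c : ι → K) (hinj : Function.Injective c)
    (hc : ∀ i, c i ∈ closure ({t, s, w, f, d} : Set K)) (hconj : ∀ i, ∃ g : K, g⁻¹ * t * g = c i) :
    Nat.card (centralizer ({t} : Set K)) * Nat.card ι ≤ 456 * 349440 := by
  have : Finite K := h.finite
  choose g hg using hconj
  refine le_trans ?_ h.card_P
  rw [← Nat.card_prod]
  refine Nat.card_le_card_of_injective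
    (fun p : centralizer ({t} : Set K) × ι => (⟨(p.1 : K) * g p.2, ?_⟩ :
      {g : K // g⁻¹ * t * g ∈ closure ({t, s, w, f, d} : Set K)})) ?_
  · have h1 := mem_centralizer_singleton_iff.1 p.1.2
    have h2 : ((p.1 : K) * g p.2)⁻¹ * t * ((p.1 : K) * g p.2) = c p.2 := by
      rw [← hg p.2]
      calc ((p.1 : K) * g p.2)⁻¹ * t * ((p.1 : K) * g p.2) = (g p.2)⁻¹ * ((p.1 : K)⁻¹ * (t * (p.1 : K))) * g p.2 := by
            group
        _ = (g p.2)⁻¹ * ((p.1 : K)⁻¹ * ((p.1 : K) * t)) * g p.2 := by rw [h1]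
        _ = _ := by group
    rw [h2]
    exact hc _
  · rintro ⟨a, i⟩ ⟨b, j⟩ hab
    have h0 : (a : K) * g i = (b : K) * g j := congrArg Subtype.val hab
    have key : ∀ (a : centralizer ({t} : Set K)) (i : ι), ((a : K) * g i)⁻¹ * t * ((a : K) * g i) = c i := by
      intro a i
      have h1 := mem_centralizer_singleton_iff.1 a.2
      rw [← hg i]
      calc ((a : K) * g i)⁻¹ * t * ((a : K) * g i) = (g i)⁻¹ * ((a : K)⁻¹ * (t * (a : K))) * g i := by
            group
        _ = (g i)⁻¹ * ((a : K)⁻¹ * ((a : K) * t)) * g i := by rw [h1]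
        _ = _ := by group
    have h2 : c i = c j := by rw [← key a i, ← key b j, h0]
    have h3 := hinj h2
    subst h3
    have h4 : (a : K) = b := mul_right_cancel h0
    rw [Subtype.ext h4]

/-! ### involutions of `Sz(8)` -/

open Cfsg.Agent.ThreePrime Cfsg.Agent.RuB in
theorem card_inv {J : Type*} [Group J] [Finite J] (R : SzRel.Rel J K8) : 456 ≤ Nat.card {l : J // l * l = 1} := by
  classical
  -- the involutions
  have h455 : 455 ≤ Nat.card {l : J // l * l = 1 ∧ l ≠ 1} := by
    let f : J → {l : J // l * l = 1 ∧ l ≠ 1} := fun m => ⟨m * R.u 0 1 * m⁻¹, by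
      calc m * R.u 0 1 * m⁻¹ * (m * R.u 0 1 * m⁻¹) = m * (R.u 0 1 * R.u 0 1) * m⁻¹ := by group
        _ = 1 := by rw [SzL.zsq]; group, fun h1 => by
      have h2 : R.u 0 1 = 1 := by
        calc R.u 0 1 = m⁻¹ * (m * R.u 0 1 * m⁻¹) * m := by group
          _ = 1 := by rw [h1]; group
      rw [← R.u_zero] at h2
      exact one_ne_zero (R.u_inj h2).2⟩
    have hfib : ∀ x, Nat.card {m // f m = x} ≤ 64 := by
      intro x
      by_cases hne : Nonempty {m // f m = x}
      · obtain ⟨m0, hm0⟩ := hne
        have h64 : Nat.card R.T = 64 := by rw [R.card_T, K8.natCard]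
        rw [← h64]
        refine Nat.card_le_card_of_injective (fun m : {m // f m = x} => (⟨m0⁻¹ * m.1, ?_⟩ : R.T)) ?_
        · have h1 : m.1 * R.u 0 1 * (m.1)⁻¹ = m0 * R.u 0 1 * m0⁻¹ := by
            have := m.2.trans hm0.symm
            exact congrArg Subtype.val this
          apply RuB.AutFix.mem_T_of_comm R one_ne_zero
          calc (m0⁻¹ * m.1) * R.u 0 1 = m0⁻¹ * (m.1 * R.u 0 1 * (m.1)⁻¹) * m.1 := by group
            _ = m0⁻¹ * (m0 * R.u 0 1 * m0⁻¹) * m.1 := by rw [h1]
            _ = _ := by group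
        · intro a b hab
          have h1 : m0⁻¹ * a.1 = m0⁻¹ * b.1 := congrArg Subtype.val hab
          exact Subtype.ext (mul_left_cancel h1)
      · rw [not_nonempty_iff] at hne
        rw [Nat.card_of_isEmpty]
        omega
    have h1 := Nat.card_congr (Equiv.sigmaFiberEquiv f)
    have : Fintype {l : J // l * l = 1 ∧ l ≠ 1} := Fintype.ofFinite _
    rw [Nat.card_sigma, RuB.Count.card_J R] at h1
    have h2 : ∑ a : {l : J // l * l = 1 ∧ l ≠ 1}, Nat.card {m // f m = a} ≤
        Fintype.card {l : J // l * l = 1 ∧ l ≠ 1} * 64 := by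
      rw [← smul_eq_mul, ← Finset.card_univ]
      exact Finset.sum_le_card_nsmul _ _ _ fun a _ => hfib a
    rw [Nat.card_eq_fintype_card]
    omega
  let g : Option {l : J // l * l = 1 ∧ l ≠ 1} → {l : J // l * l = 1} := fun o =>
    o.elim ⟨1, one_mul 1⟩ fun l => ⟨l.1, l.2.1⟩
  have hg : Function.Injective g := by
    intro a b hab
    rcases a with _ | a <;> rcases b with _ | b
    · rfl
    · exact absurd (congrArg Subtype.val hab).symm b.2.2
    · exact absurd (congrArg Subtype.val hab) a.2.2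
    · have h1 : (g (some a)).1 = (g (some b)).1 := congrArg Subtype.val hab
      have h2 : a.1 = b.1 := h1
      rw [Subtype.ext h2]
  have h1 := Nat.card_le_card_of_injective g hg
  rw [Finite.card_option] at h1
  omega

end Cfsg.Agent.KFacts.Ru
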