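import Cfsg.Agent.KFacts.Ru.EndWords
import Cfsg.Agent.KFacts.Ru.Cents

/-!
# ODD half, D8, K = Ru: all facts `RuEnd.Facts` hold in the model `RuOrder.H`
-/

set_option autoImplicit false
set_option maxRecDepth 100000
set_option exponentiation.threshold 5000

namespace Cfsg.Agent.KFacts.Ru.EndFacts

open Cfsg.Agent.SporadicB Cfsg.Agent.RuD.Letters Cfsg.Agent.SporRec.TCUpperCert Cfsg.Agent.SporRec.R3.Kernel
open Cfsg.Agent.KFacts.Ru.ConjWord Cfsg.Agent.KFacts.Ru.EndWords Cfsg.Agent.KFacts.Ru.Cents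
open Cfsg.Agent.KFacts.Ru.CentEng Cfsg.Agent.OddHalf.D8.Phi.RuEnd

/-- the words of `as` commute with the words of `bs` -/
def comL (as bs : List (List ℕ)) : List (List ℕ) := as.flatMap fun a => bs.map fun b => eqr (a ++ b) (b ++ a)

theorem comm_of {as bs : List (List ℕ)} (h : chkRel (comL as bs) = true) {a b : List ℕ} (ha : a ∈ as) (hb : b ∈ bs) :
    (wprod ml a : RuOrder.H) * wprod ml b = wprod ml b * wprod ml a := by
  have h1 := eq_of (rel_of_chk h _ (List.mem_flatMap.2 ⟨a, ha, List.mem_map.2 ⟨b, hb, rfl⟩⟩))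
  rwa [wprod_append, wprod_append] at h1

/-! ### (A) -/

theorem comA : chkRel (comL csA [zw, qw]) = true := by decide +kernel
theorem comA' : chkRel (comL [[], zw, qw, zw ++ qw] csA) = true := by decide +kernel
theorem ndA : ([[], zw, qw, zw ++ qw].map fun z => evalK z 329).Nodup := by decide +kernel

theorem cenq (k : RuOrder.H)
    (h : ∀ c : RuOrder.H, c * hw zw = hw zw * c → c * hw qw = hw qw * c → c * k = k * c) :
    k = 1 ∨ k = hw zw ∨ k = hw qw ∨ k = hw zw * hw qw := by
  have hk : k ∈ Cen csA := fun w hw' =>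
    (h _ (comm_of comA hw' (by simp)) (comm_of comA hw' (by simp))).symm
  obtain ⟨z, hz, rfl⟩ := mem_of_comm cardA (zs := [[], zw, qw, zw ++ qw]) (by simp)
    (fun z hz w hw' => comm_of comA' hz hw') (b := 329) (by norm_num) ndA hk
  simp only [List.mem_cons, List.not_mem_nil, or_false] at hz
  rcases hz with rfl | rfl | rfl | rfl
  · exact Or.inl rfl
  · exact Or.inr (Or.inl rfl)
  · exact Or.inr (Or.inr (Or.inl rfl))
  · exact Or.inr (Or.inr (Or.inr (hw_append _ _)))

/-! ### (B) -/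

/-- the eight elements -/
def zsB : List (List ℕ) := [[], zw, q2w, zw ++ q2w, yw, zw ++ yw, q2w ++ yw, zw ++ q2w ++ yw]

theorem comB : chkRel (comL csB [zw, q2w]) = true := by decide +kernel
theorem comB' : chkRel (comL zsB csB) = true := by decide +kernel
theorem ndB : (zsB.map fun z => evalK z 226).Nodup := by decide +kernel

theorem cenq' (k : RuOrder.H)
    (h : ∀ c : RuOrder.H, c * hw zw = hw zw * c → c * hw q2w = hw q2w * c → c * k = k * c) :
    ∃ m : RuOrder.H, (m = 1 ∨ m = hw zw ∨ m = hw q2w ∨ m = hw zw * hw q2w) ∧ (k = m ∨ k = m * hw yw) := by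
  have hk : k ∈ Cen csB := fun w hw' =>
    (h _ (comm_of comB hw' (by simp)) (comm_of comB hw' (by simp))).symm
  obtain ⟨z, hz, rfl⟩ := mem_of_comm cardB (zs := zsB) (by simp [zsB])
    (fun z hz w hw' => comm_of comB' hz hw') (b := 226) (by norm_num) ndB hk
  simp only [zsB, List.mem_cons, List.not_mem_nil, or_false] at hz
  rcases hz with rfl | rfl | rfl | rfl | rfl | rfl | rfl | rfl
  · exact ⟨1, Or.inl rfl, Or.inl rfl⟩
  · exact ⟨_, Or.inr (Or.inl rfl), Or.inl rfl⟩
  · exact ⟨_, Or.inr (Or.inr (Or.inl rfl)), Or.inl rfl⟩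
  · exact ⟨_, Or.inr (Or.inr (Or.inr rfl)), Or.inl (hw_append _ _)⟩
  · exact ⟨1, Or.inl rfl, Or.inr (one_mul _).symm⟩
  · exact ⟨_, Or.inr (Or.inl rfl), Or.inr (hw_append _ _)⟩
  · exact ⟨_, Or.inr (Or.inr (Or.inl rfl)), Or.inr (hw_append _ _)⟩
  · refine ⟨_, Or.inr (Or.inr (Or.inr rfl)), Or.inr ?_⟩
    rw [← hw_append, ← hw_append]
    rfl

/-! ### (C) -/

theorem comC : chkRel (comL (csC.drop 2) [zw, ww]) = true := by decide +kernel
theorem comC' : chkRel (comL [[], xw] csC) = true := by decide +kernel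
theorem ndC : ([[], xw].map fun z => evalK z 1763).Nodup := by decide +kernel

theorem cenw (k : RuOrder.H) (_ : k * k = 1) (h1 : k * hw zw = hw zw * k) (h2 : k * hw ww = hw ww * k)
    (h : ∀ c : RuOrder.H, c * hw zw = hw zw * c → c * hw ww = hw ww * c → c * k = k * c) :
    k = 1 ∨ k = hw zw * hw ww * (hw zw * hw ww) := by
  have hk : k ∈ Cen csC := by
    intro w hw'
    have e : csC = zw :: ww :: csC.drop 2 := rfl
    rw [e, List.mem_cons, List.mem_cons] at hw'
    rcases hw' with rfl | rfl | hw'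
    · exact h1
    · exact h2
    · exact (h _ (comm_of comC hw' (by simp)) (comm_of comC hw' (by simp))).symm
  obtain ⟨z, hz, rfl⟩ := mem_of_comm cardC (zs := [[], xw]) (by simp)
    (fun z hz w hw' => comm_of comC' hz hw') (b := 1763) (by norm_num) ndC hk
  simp only [List.mem_cons, List.not_mem_nil, or_false] at hz
  rcases hz with rfl | rfl
  · exact Or.inl rfl
  · refine Or.inr ?_
    rw [← hw_append, ← hw_append]
    rfl

/-! ### the centre -/

theorem cen (k : RuOrder.H) (h : ∀ c, k * c = c * k) : k = 1 := by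
  have h0 : ∀ g : RuOrder.H, g * k * g⁻¹ = k := fun g => by rw [← h g, mul_inv_cancel_right]
  have hz : hw zw * hw qw = hw qw * hw zw := by rw [← hw_append, ← hw_append]; exact eqt chk_qz
  have r1 := cjt chk_r1
  have r2 := (cjt chk_r2).trans (hw_append _ _)
  rcases cenq k (fun c _ _ => (h c).symm) with e | e | e | e
  · exact e
  · exfalso
    rw [← e, h0 (hw rw_)] at r1
    exact ne_zq (e.symm.trans r1)
  · exfalso
    rw [← e, h0 (hw rw_)] at r2
    exact ne_z1 (mul_eq_right.1 r2.symm)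
  · exfalso
    -- `g q g⁻¹ = z q = k` central
    have h1 : hw qw = hw zw * hw qw := by
      calc hw qw = (hw rw_)⁻¹ * (hw rw_ * hw qw * (hw rw_)⁻¹) * hw rw_ := by group
        _ = (hw rw_)⁻¹ * k * hw rw_ := by rw [r2, e]
        _ = k := by
          have := h0 (hw rw_)⁻¹
          rwa [inv_inv] at this
        _ = _ := e
    exact ne_z1 (mul_eq_right.1 h1.symm)

/-- **all facts on the Rudvalis group used in the odd half** -/
theorem facts_model : Facts (⊤ : Subgroup RuOrder.H) D (hw zw) (hw qw) (hw rw_) (hw v1w) (hw q2w) (hw r2w) (hw yw)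
    (hw y2w) (hw v2w) (hw ww) (hw sw) (hw ww) (hw u3w) (hw u4w) :=
  facts cenq cenq' cenw cen

end Cfsg.Agent.KFacts.Ru.EndFacts
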