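import Cfsg.Agent.KFacts.Ru.ConjWord
import Cfsg.Agent.OddHalf.D8.Phi.RuEnd

/-!
# ODD half, D8, K = Ru: the words of `RuEnd.Facts` on the model `RuOrder.H`

All fields of `RuEnd.Facts` except the three centralisers `cenq`, `cenq'`, `cenw`; words by helper879.
-/

set_option autoImplicit false
set_option maxRecDepth 100000
set_option exponentiation.threshold 5000

namespace Cfsg.Agent.KFacts.Ru.EndWords

open Cfsg.Agent.SporadicB Cfsg.Agent.RuD.Letters Cfsg.Agent.SporRec.TCUpperCert Cfsg.Agent.SporRec.R3.Kernel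
open Cfsg.Agent.KFacts.Ru.ConjWord Cfsg.Agent.OddHalf.D8.Phi Cfsg.Agent.OddHalf.D8.Phi.RuEnd

/-- `g W g⁻¹` -/
def byw (g : List ℕ) : List ℕ := g ++ [2] ++ iw g

/-- the value of a word -/
def hw (u : List ℕ) : RuOrder.H := wprod ml u

theorem hw_append (u v : List ℕ) : hw (u ++ v) = hw u * hw v := wprod_append _ _ _

theorem hw_iw (u : List ℕ) : hw (iw u) = (hw u)⁻¹ := wprod_iw u

/-! ### words -/

/-- `z` -/
def zw : List ℕ := [2]
/-- conjugating word of `q` -/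
def qg : List ℕ := [7, 5, 3, 8, 0, 5, 3]
/-- `q` -/
def qw : List ℕ := byw qg
/-- `ρ` -/
def rw_ : List ℕ := [5, 0, 7, 7, 6, 3, 5, 3, 0, 8, 6, 3, 1]
/-- `v₁` -/
def v1w : List ℕ := byw [6, 4, 5, 7, 1]
def e1w : List ℕ := [7, 5, 7, 5, 1, 7, 6, 2, 1, 3, 1, 7, 5]
def e2w : List ℕ := [7, 5, 3, 5, 1, 2, 6, 3, 4, 0, 5, 1, 1, 7]
def e3w : List ℕ := [8, 0, 5, 0, 4, 1, 2, 1, 1]
/-- conjugating word of `q'` -/
def q2g : List ℕ := [6, 3, 5, 3, 1]
/-- `q'` -/
def q2w : List ℕ := byw q2g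
/-- `ρ'` -/
def r2w : List ℕ := [0, 1, 2, 1, 3, 5, 0, 4, 7, 1, 0]
/-- `y` -/
def yw : List ℕ := byw [6, 3, 1]
/-- `y'` -/
def y2w : List ℕ := byw [6, 3, 3, 1]
/-- `v₂` -/
def v2w : List ℕ := byw [6, 7, 5, 7, 1]
def f1w : List ℕ := [3, 6, 6, 5, 3, 5, 4, 7, 0, 5, 3, 1, 1]
def f2w : List ℕ := [6, 3, 5, 3, 5, 7, 2, 1, 7, 2, 1]
def f3w : List ℕ := [6, 2, 8, 5, 0, 3, 1, 7, 4, 5, 2, 1]
/-- conjugating word of `w` -/
def wg : List ℕ := [3, 5, 3, 5, 7]
/-- `w` -/
def ww : List ℕ := byw wg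
def lzw : List ℕ := [6, 2, 7, 1, 2, 7, 5, 0, 8, 1]
def lww : List ℕ := [0, 3, 1, 2, 7, 6, 7, 7, 6, 5, 3, 6, 3, 5, 4]
/-- `s` -/
def sw : List ℕ := byw [4, 3, 6, 5, 7, 5, 3]
def psw : List ℕ := [6, 2, 6, 7, 6, 3, 2, 1]
def wsw : List ℕ := [2, 6, 4, 3, 5, 1, 7, 5, 4, 7, 0]
def nzw : List ℕ := [0, 6, 2, 5, 7, 6, 3, 8, 0, 5, 2, 1]
def nww : List ℕ := [6, 8, 7, 5, 0, 8, 3, 5, 7, 6, 2, 6, 0]
/-- `u₃` -/
def u3w : List ℕ := byw [5, 7, 2, 6, 5, 7, 5, 3]
/-- `u₄` -/
def u4w : List ℕ := byw [4, 7, 5, 7, 6, 7, 5, 7]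
def c13w : List ℕ := [6, 2, 5, 8, 1, 7, 6, 3, 2, 1]
def c14w : List ℕ := [0, 6, 2, 1, 4, 7, 6, 3, 2, 1]
def c23w : List ℕ := [3, 5, 3, 5, 7, 6, 4, 7, 1, 2, 6, 3, 0, 4, 1]
def c24w : List ℕ := [3, 5, 3, 5, 7, 6, 5, 2, 1, 7, 6, 3, 5, 2, 1]
def c34w : List ℕ := [5, 1, 7, 8, 0, 5, 3, 6, 2, 6, 5, 7, 6, 4]

/-- `(z w)²` -/
def xw : List ℕ := zw ++ ww ++ (zw ++ ww)
/-- `(z w s)²` -/
def nw : List ℕ := zw ++ (ww ++ sw) ++ (zw ++ (ww ++ sw))

/-! ### equalities -/

theorem chk_qz : chkRel [eqr (zw ++ qw) (qw ++ zw)] = true := by decide +kernel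
theorem chk_r1 : chkRel [cj rw_ zw qw] = true := by decide +kernel
theorem chk_r2 : chkRel [cj rw_ qw (zw ++ qw)] = true := by decide +kernel
theorem chk_q2z : chkRel [eqr (zw ++ q2w) (q2w ++ zw)] = true := by decide +kernel
theorem chk_s1 : chkRel [cj r2w zw q2w] = true := by decide +kernel
theorem chk_s2 : chkRel [cj r2w q2w (zw ++ q2w)] = true := by decide +kernel
theorem chk_yy : chkRel [eqr (yw ++ yw) []] = true := by decide +kernel
theorem chk_yz : chkRel [eqr (yw ++ zw) (zw ++ yw)] = true := by decide +kernel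
theorem chk_yq : chkRel [eqr (yw ++ q2w) (q2w ++ yw)] = true := by decide +kernel
theorem chk_ry : chkRel [cj r2w yw yw] = true := by decide +kernel
theorem chk_f3y : chkRel [cj f3w yw y2w] = true := by decide +kernel

theorem chk_e1 : chkRel [cj e1w zw (zw ++ qw), cj e1w qw v1w] = true := by decide +kernel
theorem chk_e2 : chkRel [cj e2w zw qw, cj e2w qw v1w] = true := by decide +kernel
theorem chk_e3 : chkRel [cj e3w zw zw, cj e3w qw (qw ++ v1w)] = true := by decide +kernel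
theorem chk_f1 : chkRel [cj f1w zw (zw ++ q2w), cj f1w qw v2w] = true := by decide +kernel
theorem chk_f2 : chkRel [cj f2w zw q2w, cj f2w qw v2w] = true := by decide +kernel
theorem chk_f3 : chkRel [cj f3w zw zw, cj f3w q2w (q2w ++ v2w)] = true := by decide +kernel
theorem chk_lz : chkRel [cj lzw zw zw, cj lzw qw xw] = true := by decide +kernel
theorem chk_lw : chkRel [cj lww zw ww, cj lww qw xw] = true := by decide +kernel
theorem chk_ps : chkRel [cj psw zw zw, cj psw ww sw] = true := by decide +kernel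
theorem chk_ws : chkRel [cj wsw zw ww, cj wsw qw sw] = true := by decide +kernel
theorem chk_nz : chkRel [cj nzw zw zw, cj nzw q2w nw] = true := by decide +kernel
theorem chk_nw : chkRel [cj nww zw (ww ++ sw), cj nww q2w nw] = true := by decide +kernel
theorem chk_c13 : chkRel [cj c13w zw zw, cj c13w ww u3w] = true := by decide +kernel
theorem chk_c14 : chkRel [cj c14w zw zw, cj c14w ww u4w] = true := by decide +kernel
theorem chk_c23 : chkRel [cj c23w zw ww, cj c23w ww u3w] = true := by decide +kernel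
theorem chk_c24 : chkRel [cj c24w zw ww, cj c24w ww u4w] = true := by decide +kernel
theorem chk_c34 : chkRel [cj c34w zw u3w, cj c34w ww u4w] = true := by decide +kernel

theorem pc {g p q p' q' : List ℕ} (h : chkRel [cj g p p', cj g q q'] = true) :
    PC (⊤ : Subgroup RuOrder.H) (hw p) (hw q) (hw p') (hw q') :=
  ⟨hw g, Subgroup.mem_top _, pc_of h⟩

theorem eqt {p q : List ℕ} (h : chkRel [eqr p q] = true) : hw p = hw q := eq_of (rel_of_chk h _ (by simp))

theorem cjt {g p q : List ℕ} (h : chkRel [cj g p q] = true) : hw g * hw p * (hw g)⁻¹ = hw q :=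
  conj_of (rel_of_chk h _ (by simp))

/-! ### inequalities -/

theorem ne_z1 : hw zw ≠ 1 := ne_of (q := []) 0 (by decide +kernel)
theorem ne_zq : hw zw ≠ hw qw := ne_of 0 (by decide +kernel)
theorem ne_v1z : hw v1w ≠ hw zw := ne_of 0 (by decide +kernel)
theorem ne_zq2 : hw zw ≠ hw q2w := ne_of 0 (by decide +kernel)
theorem ne_yy : hw yw ≠ hw y2w := ne_of 0 (by decide +kernel)
theorem ne_v2y : hw v2w ≠ hw (yw ++ y2w) := ne_of 0 (by decide +kernel)
theorem ne_kill : hw (zw ++ sw ++ (zw ++ sw) ++ ww) ≠ hw (ww ++ (zw ++ sw ++ (zw ++ sw))) :=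
  ne_of 0 (by decide +kernel)

/-! ### generation -/

/-- expansion of a word in `z, w, u₃, u₄` -/
def ex (u : List ℕ) : List ℕ := u.flatMap fun a => [zw, ww, u3w, u4w].getD a []

/-- the letters as words in `z, w, u₃, u₄` -/
def gl : List (List ℕ) := [
  [0, 1, 0, 1, 2, 3, 1, 3, 0, 1, 2, 1, 2, 0, 3, 1, 0, 1, 2, 3, 1, 0, 3, 0, 1, 0, 2],
  [0, 3, 2, 1, 0, 1, 2, 3, 1, 2, 3, 1, 3, 0, 2, 1, 3, 0, 3, 2, 3, 1],
  [0],
  [0, 3, 2, 0, 2, 3, 0, 2, 1, 0, 3, 2, 3, 0, 1, 2, 0, 3, 2, 0, 2, 3],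
  [1, 0, 1, 2, 3, 2, 3, 1, 2, 0, 3, 1, 3, 0, 2, 1, 2, 3, 2, 0, 3, 0],
  [0, 2, 0, 3, 2, 3, 1, 2, 0, 2, 3, 1, 2, 1, 0, 3, 2, 0, 1, 3, 0, 1, 3, 1, 0, 1, 2]]

theorem chk_g0 : chkRel [eqr [0] (ex (gl.getD 0 []))] = true := by decide +kernel
theorem chk_g1 : chkRel [eqr [1] (ex (gl.getD 1 []))] = true := by decide +kernel
theorem chk_g2 : chkRel [eqr [2] (ex (gl.getD 2 []))] = true := by decide +kernel
theorem chk_g3 : chkRel [eqr [3] (ex (gl.getD 3 []))] = true := by decide +kernel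
theorem chk_g4 : chkRel [eqr [4] (ex (gl.getD 4 []))] = true := by decide +kernel
theorem chk_g5 : chkRel [eqr [5] (ex (gl.getD 5 []))] = true := by decide +kernel

/-- the group generated by the four involutions -/
def C : Subgroup RuOrder.H := Subgroup.closure ({hw zw, hw ww, hw u3w, hw u4w} : Set RuOrder.H)

theorem hw_ex (u : List ℕ) : hw (ex u) ∈ C := by
  induction u with
  | nil => exact one_mem _
  | cons a u ih =>
    have e : ex (a :: u) = [zw, ww, u3w, u4w].getD a [] ++ ex u := rfl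
    rw [e, hw_append]
    refine mul_mem ?_ ih
    rcases lt_or_ge a 4 with h | h
    · apply Subgroup.subset_closure
      interval_cases a
      · exact Or.inl rfl
      · exact Or.inr (Or.inl rfl)
      · exact Or.inr (Or.inr (Or.inl rfl))
      · exact Or.inr (Or.inr (Or.inr rfl))
    · rw [List.getD_eq_default _ _ h]
      exact one_mem _

theorem letter_mem {a : ℕ} (h : chkRel [eqr [a] (ex (gl.getD a []))] = true) : lv ml a ∈ C := by
  have h1 : hw [a] = hw (ex (gl.getD a [])) := eqt h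
  have h2 : hw [a] = lv ml a := by
    rw [hw, wprod_cons, wprod_nil, mul_one]
  rw [← h2, h1]
  exact hw_ex _

theorem closure_eq : C = ⊤ := by
  rw [eq_top_iff, ← closure_ml, Subgroup.closure_le]
  have h0 : lv ml 0 ∈ C := letter_mem chk_g0
  have h1 : lv ml 1 ∈ C := letter_mem chk_g1
  have h2 : lv ml 2 ∈ C := letter_mem chk_g2
  have h3 : lv ml 3 ∈ C := letter_mem chk_g3
  have h4 : lv ml 4 ∈ C := letter_mem chk_g4
  have h5 : lv ml 5 ∈ C := letter_mem chk_g5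
  intro x hx
  simp only [ml, List.mem_cons, List.not_mem_nil, or_false, Set.mem_ofPred_eq] at hx
  rcases hx with rfl | rfl | rfl | rfl | rfl | rfl | rfl | rfl | rfl
  · exact h0
  · exact h1
  · exact h2
  · exact h3
  · exact h4
  · exact h5
  · exact inv_mem h1
  · exact inv_mem h3
  · exact inv_mem h4

/-! ### the structure -/

/-- the class of the involution `W` -/
def D : Set RuOrder.H := {v | ∃ k : RuOrder.H, v = k * W * k⁻¹}

theorem hw_two : hw [2] = W := (wprod_cons ml 2 []).trans (by rw [wprod_nil, mul_one]; rfl)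

theorem byw_mem (g : List ℕ) : hw (byw g) ∈ D := by
  refine ⟨hw g, ?_⟩
  rw [byw, hw_append, hw_append, hw_iw, hw_two]

theorem zD : hw zw ∈ D := ⟨1, by
  rw [one_mul, inv_one, mul_one]
  exact hw_two⟩

/-- **the facts on the model, from the three centralisers** -/
theorem facts
    (cenq : ∀ k : RuOrder.H, (∀ c : RuOrder.H, c * hw zw = hw zw * c → c * hw qw = hw qw * c → c * k = k * c) →
      k = 1 ∨ k = hw zw ∨ k = hw qw ∨ k = hw zw * hw qw)
    (cenq' : ∀ k : RuOrder.H, (∀ c : RuOrder.H, c * hw zw = hw zw * c → c * hw q2w = hw q2w * c → c * k = k * c) →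
      ∃ m : RuOrder.H, (m = 1 ∨ m = hw zw ∨ m = hw q2w ∨ m = hw zw * hw q2w) ∧ (k = m ∨ k = m * hw yw))
    (cenw : ∀ k : RuOrder.H, k * k = 1 → k * hw zw = hw zw * k → k * hw ww = hw ww * k →
      (∀ c : RuOrder.H, c * hw zw = hw zw * c → c * hw ww = hw ww * c → c * k = k * c) →
      k = 1 ∨ k = hw zw * hw ww * (hw zw * hw ww))
    (cen : ∀ k : RuOrder.H, (∀ c, k * c = c * k) → k = 1) :
    Facts (⊤ : Subgroup RuOrder.H) D (hw zw) (hw qw) (hw rw_) (hw v1w) (hw q2w) (hw r2w) (hw yw) (hw y2w) (hw v2w)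
      (hw ww) (hw sw) (hw ww) (hw u3w) (hw u4w) where
  zD := zD
  qD := byw_mem _
  qD' := byw_mem _
  wD := byw_mem _
  z1 := ne_z1
  qz := by rw [← hw_append, ← hw_append]; exact eqt chk_qz
  qnz := ne_zq
  ρK := Subgroup.mem_top _
  ρ1 := cjt chk_r1
  ρ2 := (cjt chk_r2).trans (hw_append _ _)
  cenq := fun k _ hk => cenq k fun c => hk c (Subgroup.mem_top _)
  e1 := by rw [← hw_append]; exact pc chk_e1
  e2 := pc chk_e2
  e3 := by rw [← hw_append]; exact pc chk_e3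
  v₁z := ne_v1z
  qz' := by rw [← hw_append, ← hw_append]; exact eqt chk_q2z
  qnz' := ne_zq2
  ρK' := Subgroup.mem_top _
  ρ1' := cjt chk_s1
  ρ2' := (cjt chk_s2).trans (hw_append _ _)
  yy := by rw [← hw_append]; exact eqt (q := []) chk_yy
  yz := by rw [← hw_append, ← hw_append]; exact eqt chk_yz
  yq' := by rw [← hw_append, ← hw_append]; exact eqt chk_yq
  ρy := cjt chk_ry
  cenq' := fun k _ hk => cenq' k fun c => hk c (Subgroup.mem_top _)
  f1 := by rw [← hw_append]; exact pc chk_f1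
  f2 := pc chk_f2
  f3 := by
    rw [← hw_append]
    exact ⟨hw f3w, Subgroup.mem_top _, (pc_of chk_f3).1, (pc_of chk_f3).2, cjt chk_f3y⟩
  yy' := ne_yy
  v₂y := by rw [← hw_append]; exact ne_v2y
  lz := by rw [← hw_append, ← hw_append]; exact pc chk_lz
  lw := by rw [← hw_append, ← hw_append]; exact pc chk_lw
  cenw := fun k _ h1 h2 h3 hk => cenw k h1 h2 h3 fun c => hk c (Subgroup.mem_top _)
  ps := pc chk_ps
  ws := pc chk_ws
  nz := by rw [← hw_append, ← hw_append, ← hw_append]; exact pc chk_nz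
  nw := by rw [← hw_append, ← hw_append, ← hw_append]; exact pc chk_nw
  kill := by
    rw [← hw_append, ← hw_append, ← hw_append, ← hw_append]
    exact ne_kill
  c12 := ⟨1, Subgroup.mem_top _, by group, by group⟩
  c13 := pc chk_c13
  c14 := pc chk_c14
  c23 := pc chk_c23
  c24 := pc chk_c24
  c34 := pc chk_c34
  gen := closure_eq
  cen := fun k _ hk => cen k fun c => hk c (Subgroup.mem_top _)

end Cfsg.Agent.KFacts.Ru.EndWords
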