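import Cfsg.Agent.RuD.IdxFin

/-!
# The fixed points of `t` on the 417600 cosets

The network of `t` fixes at most 456 of the points `0, …, 417599`.
-/

set_option autoImplicit false
set_option maxRecDepth 100000
set_option exponentiation.threshold 1000000
set_option Elab.async false

namespace Cfsg.Agent.KFacts.Ru.FixT

open Cfsg.Agent.Lib.PermNet Cfsg.Agent.RuD.IdxNet Cfsg.Agent.RuD.IdxLib Cfsg.Agent.RuD.IdxDef

/-- the mask of the numbers with bit `k` set (only used through its values) -/
noncomputable def pl (k : ℕ) : ℕ :=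
  Nat.mul (Nat.pow 2 (Nat.pow 2 k)) (Nat.div (Nat.sub (Nat.pow 2 524288) 1) (Nat.add (Nat.pow 2 (Nat.pow 2 k)) 1))

/-- points moved by the network, as seen by the masks -/
noncomputable def diff (L : Net) (ks : List ℕ) : ℕ :=
  List.rec (motive := fun _ => ℕ) 0 (fun k _ ih => seq (pl k) fun P => Nat.lor (Nat.xor (L.app P) P) ih) ks

theorem diff_spec {N : ℕ} {L : Net} (hL : L.ok N = true) (ks : List ℕ) (i : ℕ)
    (h : (diff L ks).testBit i = true) : L.perm i ≠ i := by
  induction ks with
  | nil =>
    have : (0 : ℕ).testBit i = true := h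
    simp at this
  | cons k ks ih =>
    have e0 : diff L (k :: ks) = seq (pl k) (fun P => Nat.lor (Nat.xor (L.app P) P) (diff L ks)) := rfl
    have e : diff L (k :: ks) = ((L.app (pl k)) ^^^ (pl k)) ||| diff L ks := by
      rw [e0, seq_eq]; rfl
    rw [e, Nat.testBit_or, Bool.or_eq_true] at h
    rcases h with h | h
    · intro hf
      rw [Nat.testBit_xor, testBit_app hL, hf, Bool.xor_self] at h
      exact absurd h (by simp)
    · exact ih h

/-- the mask of the interval `[a, a + b)` -/
noncomputable def iv (a b : ℕ) : ℕ := Nat.shiftLeft (Nat.sub (Nat.pow 2 b) 1) a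

theorem iv_spec {a b i : ℕ} (h : (iv a b).testBit i = true) : a ≤ i ∧ i < a + b := by
  have h' : ((2 ^ b - 1) <<< a).testBit i = true := h
  rw [Nat.testBit_shiftLeft, Bool.and_eq_true, decide_eq_true_eq, Nat.testBit_two_pow_sub_one,
    decide_eq_true_eq] at h'
  omega

noncomputable def fixM : ℕ := Nat.lor (iv 412160 1) (Nat.lor (iv 412665 7) (iv 414016 448))

theorem chk : full (Nat.lor (diff netT [0, 1, 2, 3, 4, 5, 6, 7, 8, 9, 10, 11, 12, 13, 14, 15, 16, 17, 18]) fixM)
    = true := by decide +kernel

/-- the fixed points -/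
def fixS : Finset ℕ := Finset.Ico 412160 412161 ∪ (Finset.Ico 412665 412672 ∪ Finset.Ico 414016 414464)

theorem card_fixS : fixS.card ≤ 456 := by
  refine (Finset.card_union_le _ _).trans ?_
  have h := Finset.card_union_le (Finset.Ico 412665 412672) (Finset.Ico 414016 414464)
  rw [Nat.card_Ico, Nat.card_Ico] at h
  rw [Nat.card_Ico]
  omega

theorem fix_mem {i : ℕ} (hi : i < 417600) (hf : netT.perm i = i) : i ∈ fixS := by
  have h := RuD.IdxFin.full_spec' chk i hi
  have e : ∀ a b : ℕ, Nat.lor a b = a ||| b := fun _ _ => rfl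
  rw [e, Nat.testBit_or, Bool.or_eq_true] at h
  rcases h with h | h
  · exact absurd hf (diff_spec (RuD.IdxFin.ok_net .t) _ i h)
  · unfold fixM at h
    rw [e, e, Nat.testBit_or, Bool.or_eq_true, Nat.testBit_or, Bool.or_eq_true] at h
    unfold fixS
    rw [Finset.mem_union, Finset.mem_union, Finset.mem_Ico, Finset.mem_Ico, Finset.mem_Ico]
    rcases h with h | h | h
    · left; have := iv_spec h; omega
    · right; left; have := iv_spec h; omega
    · right; right; have := iv_spec h; omega

end Cfsg.Agent.KFacts.Ru.FixT
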