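import Cfsg.Agent.Ru127.Xi

/-!
# Involutions in the Rudvalis configuration, part 1: the five members of `Σ(z)`

`LocalData D 𝒵 R`, `|Σ(z)| = 5`: the union of the members of `Σ(z)` is closed under products; an involution normalising
`Y ∈ 𝒵` and not centralising it centralises another member of `𝒵`.
-/

set_option autoImplicit false

namespace Cfsg.Agent.KFacts.Ru.InvA

open Subgroup Cfsg.Agent.Ru127.Form Cfsg.Agent.Ru127.Basic Cfsg.Agent.Ru127.NorD Cfsg.Agent.Ru127.Count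
  Cfsg.Agent.Ru127.Five Cfsg.Agent.Ru127.Xi

variable {W F : Type} [AddCommGroup W] [AddCommGroup F]
variable {G : Type*} [Group G]
variable {D : Set G} {R : RuForm W F} {𝒵 : Set (Subgroup G)}

/-- a set with eight elements is not covered by seven -/
theorem exists_notMem {Y : Subgroup G} (hY : Nat.card Y = 8) {s : Finset G} (hs : s.card ≤ 7) :
    ∃ u ∈ Y, u ∉ s := by
  classical
  by_contra hcon
  push Not at hcon
  have h1 : Nat.card Y ≤ Nat.card s := Nat.card_le_card_of_injective (fun u : Y => (⟨u.1, hcon u.1 u.2⟩ : s))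
    (fun a b h => Subtype.ext (Subtype.mk.inj h))
  rw [hY, Nat.card_eq_fintype_card, Fintype.card_coe] at h1
  omega

/-- a subgroup of a group of order 8 with five elements is everything -/
theorem eq_of_five {Y P : Subgroup G} (hY : Nat.card Y = 8) (hP : P ≤ Y) {a b c d e : G} (ha : a ∈ P) (hb : b ∈ P)
    (hc : c ∈ P) (hd : d ∈ P) (he : e ∈ P) (hn : [a, b, c, d, e].Nodup) : P = Y := by
  classical
  by_contra hne
  have h4 := card_prop_le Y hY P hP hne
  have hfY : Finite Y := Nat.finite_of_card_ne_zero (by rw [hY]; norm_num)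
  have hfin : Finite P := Finite.of_injective _ (inclusion_injective hP)
  have hc5 : ([a, b, c, d, e].toFinset).card = 5 := by
    rw [List.toFinset_card_of_nodup hn]; rfl
  have h1 : Nat.card ([a, b, c, d, e].toFinset) ≤ Nat.card P := by
    refine Nat.card_le_card_of_injective (fun u => (⟨u.1, ?_⟩ : P)) (fun u v h => Subtype.ext (Subtype.mk.inj h))
    have := u.2
    rw [List.mem_toFinset] at this
    simp only [List.mem_cons, List.not_mem_nil, or_false] at this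
    rcases this with h | h | h | h | h <;> rw [h] <;> assumption
  rw [Nat.card_eq_fintype_card, Fintype.card_coe, hc5] at h1
  omega

section
variable (L : LocalData D 𝒵 R) [Finite G]
include L

/-- the good vectors with respect to `f` come from members of `Σ` -/
theorem exists_of_J3 {z : G} (hz1 : z ≠ 1) (h5 : Nat.card (Sig 𝒵 z) = 5) {c : Subgroup G} (hc : c ∈ 𝒵)
    (hzc : z ∈ c) {π : G → W} {ζ : F → G} (cc : IsCoord D c R π ζ) {fz : F} (hfz : ζ fz = z) {x : G}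
    (hx : x ∈ centralizer (c : Set G)) (hxJ : π x ∈ J3 R fz) : ∃ b ∈ 𝒵, z ∈ b ∧ b ≠ c ∧ x ∈ b := by
  classical
  let _ : Fintype (Sig 𝒵 z) := Fintype.ofFinite _
  have hfz0 : fz ≠ 0 := by
    rintro rfl
    rw [ζ_zero cc] at hfz
    exact hz1 hfz.symm
  let S' := {b : Sig 𝒵 z // b ≠ ⟨c, hc, hzc⟩}
  have hS' : Nat.card S' = 4 := by
    have : Nat.card S' = Nat.card (Sig 𝒵 z) - 1 := by
      rw [Nat.card_eq_fintype_card, Nat.card_eq_fintype_card, Fintype.card_subtype_compl]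
      simp
    rw [this, h5]
  let _ : Fintype S' := Fintype.ofFinite _
  have h6 : ∀ b : S', Nat.card {j : G // j ∈ b.1.1 ∧ j ≠ 1 ∧ j ≠ z} = 6 := by
    intro b
    have h8 := card_mem L b.1.2.1
    have : Nat.card {j : G // j ∈ b.1.1 ∧ j ≠ 1 ∧ j ≠ z} = ((b.1.1 : Set G) \ {1, z}).ncard := by
      apply Nat.card_congr
      refine Equiv.subtypeEquivRight (fun x => ?_)
      simp only [Set.mem_sdiff, SetLike.mem_coe, Set.mem_insert_iff, Set.mem_singleton_iff, not_or]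
    rw [this, Set.ncard_sdiff]
    · have h1 : (b.1.1 : Set G).ncard = 8 := h8
      rw [h1, Set.ncard_pair hz1.symm]
    · intro x hx
      rcases hx with rfl | hx
      · exact b.1.1.one_mem
      · rw [Set.mem_singleton_iff] at hx
        rw [hx]; exact b.1.2.2
  have hsig : Nat.card (Σ b : S', {j : G // j ∈ b.1.1 ∧ j ≠ 1 ∧ j ≠ z}) = Nat.card S' * 6 := by
    rw [Nat.card_sigma, Finset.sum_congr rfl (fun b _ => h6 b), Finset.sum_const, smul_eq_mul,
      Finset.card_univ, Nat.card_eq_fintype_card]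
  have hne : ∀ b : S', b.1.1 ≠ c := fun b h => b.2 (Subtype.ext h)
  let f : (Σ b : S', {j : G // j ∈ b.1.1 ∧ j ≠ 1 ∧ j ≠ z}) →
      {x : G // x ∈ centralizer (c : Set G) ∧ π x ∈ J3 R fz} := fun p => ⟨p.2.1,
    le_cent_of_ne L hz1 p.1.1.2.1 p.1.1.2.2 hc hzc (hne _) p.2.2.1,
    mem_J3 L hz1 p.1.1.2.1 p.1.1.2.2 hc hzc (hne _) cc hfz p.2.2.1 p.2.2.2.1 p.2.2.2.2⟩
  have hinj : Function.Injective f := by
    rintro ⟨b, j⟩ ⟨b', j'⟩ h
    simp only [f, Subtype.mk.injEq] at h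
    have hbb : b = b' := by
      by_contra hbb
      have hbb' : b.1.1 ≠ b'.1.1 := fun h' => hbb (Subtype.ext (Subtype.ext h'))
      have h1 : j.1 ∈ b'.1.1 := by rw [h]; exact j'.2.1
      rcases inf_eq L hz1 b.1.2.1 b.1.2.2 b'.1.2.1 b'.1.2.2 hbb' j.2.1 h1 with h | h
      · exact j.2.2.1 h
      · exact j.2.2.2 h
    subst hbb
    congr 1
    exact Subtype.ext h
  have hle : Nat.card {x : G // x ∈ centralizer (c : Set G) ∧ π x ∈ J3 R fz} ≤
      Nat.card (Σ b : S', {j : G // j ∈ b.1.1 ∧ j ≠ 1 ∧ j ≠ z}) := by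
    rw [hsig, hS', cardPre cc]
    have h3 : Nat.card (J3 R fz) ≤ 3 := R.q2 fz hfz0
    omega
  obtain ⟨⟨b, j⟩, hbj⟩ := (hinj.bijective_of_nat_card_le hle).2 ⟨x, hx, hxJ⟩
  refine ⟨b.1.1, b.1.2.1, b.1.2.2, hne b, ?_⟩
  have h1 : j.1 = x := congrArg Subtype.val hbj
  rw [← h1]
  exact j.2.1

/-- the union of the members of `Σ` is closed under products -/
theorem exists_mul {z : G} (hz1 : z ≠ 1) (h5 : Nat.card (Sig 𝒵 z) = 5) {b c : Subgroup G} (hb : b ∈ 𝒵)
    (hzb : z ∈ b) (hc : c ∈ 𝒵) (hzc : z ∈ c) {u v : G} (hu : u ∈ b) (hv : v ∈ c) :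
    ∃ a ∈ 𝒵, z ∈ a ∧ u * v ∈ a := by
  by_cases hbc : b = c
  · subst hbc
    exact ⟨b, hb, hzb, mul_mem hu hv⟩
  by_cases hu1 : u = 1
  · exact ⟨c, hc, hzc, by rw [hu1, one_mul]; exact hv⟩
  by_cases huz : u = z
  · exact ⟨c, hc, hzc, by rw [huz]; exact mul_mem hzc hv⟩
  obtain ⟨π, ζ, cc⟩ := L.coord c hc
  obtain ⟨fz, hfz⟩ := (cc.ζ_range z).1 hzc
  have huc := le_cent_of_ne L hz1 hb hzb hc hzc hbc hu
  have hvc := cc.le_cent hv
  have h1 : π (u * v) = π u := by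
    rw [cc.π_mul u huc v hvc, π_Y cc hv, add_zero]
  obtain ⟨a, ha, hza, -, h2⟩ := exists_of_J3 L hz1 h5 hc hzc cc hfz (mul_mem huc hvc)
    (by rw [h1]; exact mem_J3 L hz1 hb hzb hc hzc hbc cc hfz hu hu1 huz)
  exact ⟨a, ha, hza, h2⟩

/-- equality of two members of `Σ` -/
theorem eq_of_mem {z : G} (hz1 : z ≠ 1) {b c : Subgroup G} (hb : b ∈ 𝒵) (hzb : z ∈ b) (hc : c ∈ 𝒵) (hzc : z ∈ c)
    {u : G} (hub : u ∈ b) (huc : u ∈ c) (hu1 : u ≠ 1) (huz : u ≠ z) : b = c := by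
  by_contra h
  rcases inf_eq L hz1 hb hzb hc hzc h hub huc with h | h
  · exact hu1 h
  · exact huz h

omit [Finite G] in
/-- an involution normalising `Y` and not centralising it acts as a transvection -/
theorem transvection {Y : Subgroup G} (hY : Y ∈ 𝒵) {j : G} (hj : j ∈ nor Y) (hjj : j * j = 1)
    (hjY : j ∉ centralizer (Y : Set G)) : ∃ z ∈ Y, z ≠ 1 ∧ Commute j z ∧
      (∀ y ∈ Y, j * y * j⁻¹ = y ∨ j * y * j⁻¹ = y * z) ∧ ∃ y ∈ Y, j * y * j⁻¹ = y * z := by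
  have hji : j⁻¹ = j := inv_eq_of_mul_eq_one_right hjj
  have hcomm : ∀ x ∈ Y, ∀ y ∈ Y, x * y = y * x := fun x hx y hy => comm_mem L hY hx hy
  have hsq : ∀ x ∈ Y, x * x = 1 := fun x hx => sq_mem L hY hx
  have hcj : ∀ y ∈ Y, j * y * j⁻¹ ∈ Y := fun y hy => conj_mem_of_mem_nor hj hy
  have hfin : Finite Y := Nat.finite_of_card_ne_zero (by rw [card_mem L hY]; norm_num)
  let f : Y →* Y :=
    { toFun := fun y => ⟨y * (j * y * j⁻¹), mul_mem y.2 (hcj y y.2)⟩
      map_one' := Subtype.ext (by simp)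
      map_mul' := by
        rintro ⟨x, hx⟩ ⟨y, hy⟩
        apply Subtype.ext
        show x * y * (j * (x * y) * j⁻¹) = x * (j * x * j⁻¹) * (y * (j * y * j⁻¹))
        have h1 := hcomm (j * x * j⁻¹) (hcj x hx) y hy
        calc x * y * (j * (x * y) * j⁻¹) = x * (y * (j * x * j⁻¹)) * (j * y * j⁻¹) := by group
          _ = x * (j * x * j⁻¹ * y) * (j * y * j⁻¹) := by rw [h1]
          _ = _ := by group }
  have hf : ∀ y : Y, (f y : G) = y * (j * y * j⁻¹) := fun _ => rfl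
  have hff : f.range ≤ f.ker := by
    rintro _ ⟨y, rfl⟩
    rw [MonoidHom.mem_ker]
    apply Subtype.ext
    rw [hf, hf, OneMemClass.coe_one]
    have h1 : j * (y * (j * y * j⁻¹)) * j⁻¹ = (y : G) * (j * y * j⁻¹) := by
      calc j * (y * (j * y * j⁻¹)) * j⁻¹ = (j * y * j⁻¹) * ((j * j) * y * (j * j)⁻¹) := by group
        _ = (j * y * j⁻¹) * y := by rw [hjj]; group
        _ = y * (j * y * j⁻¹) := hcomm _ (hcj y y.2) _ y.2
    rw [h1]
    exact hsq _ (mul_mem y.2 (hcj y y.2))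
  have hc1 : Nat.card f.ker * Nat.card f.range = 8 := by
    rw [← card_mem L hY, ← Subgroup.index_ker, mul_comm]
    exact Subgroup.index_mul_card _
  have hc2 : Nat.card f.range ≤ Nat.card f.ker :=
    Nat.card_le_card_of_injective _ (inclusion_injective hff)
  have hc3 : Nat.card f.range ≤ 2 := by
    by_contra h
    push Not at h
    have := Nat.mul_le_mul (h.trans_le hc2) h
    omega
  obtain ⟨y0, hy0, hne⟩ : ∃ y0 ∈ Y, j * y0 * j⁻¹ ≠ y0 := by
    by_contra h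
    push Not at h
    apply hjY
    rw [mem_centralizer_iff]
    intro y hy
    have h1 := h y hy
    calc y * j = (j * y * j⁻¹) * j := by rw [h1]
      _ = j * y := by group
  have hz1 : y0 * (j * y0 * j⁻¹) ≠ 1 := by
    intro h
    apply hne
    have h1 := hsq y0 hy0
    exact mul_left_cancel (h.trans h1.symm)
  have hcov : ∀ y ∈ Y, y * (j * y * j⁻¹) = 1 ∨ y * (j * y * j⁻¹) = y0 * (j * y0 * j⁻¹) := by
    intro y hy
    by_contra h
    push Not at h
    have h3 : 3 ≤ Nat.card f.range := by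
      classical
      let s : Finset f.range := {1, ⟨f ⟨y, hy⟩, ⟨y, hy⟩, rfl⟩, ⟨f ⟨y0, hy0⟩, ⟨y0, hy0⟩, rfl⟩}
      have hs : s.card = 3 := by
        rw [Finset.card_eq_three]
        refine ⟨_, _, _, ?_, ?_, ?_, rfl⟩
        · intro h'
          exact h.1 (congrArg (fun t : f.range => ((t : Y) : G)) h').symm
        · intro h'
          exact hz1 (congrArg (fun t : f.range => ((t : Y) : G)) h').symm
        · intro h'
          exact h.2 (congrArg (fun t : f.range => ((t : Y) : G)) h')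
      have : Fintype f.range := Fintype.ofFinite _
      rw [Nat.card_eq_fintype_card, ← hs]
      exact Finset.card_le_univ s
    omega
  have hconj : ∀ y ∈ Y, j * y * j⁻¹ = y * (y * (j * y * j⁻¹)) := by
    intro y hy
    have h1 := hsq y hy
    calc j * y * j⁻¹ = (y * y) * (j * y * j⁻¹) := by rw [h1, one_mul]
      _ = _ := by group
  refine ⟨y0 * (j * y0 * j⁻¹), mul_mem hy0 (hcj y0 hy0), hz1, ?_, ?_, y0, hy0, hconj y0 hy0⟩
  · show j * (y0 * (j * y0 * j⁻¹)) = y0 * (j * y0 * j⁻¹) * j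
    calc j * (y0 * (j * y0 * j⁻¹)) = (j * y0 * j⁻¹) * ((j * j) * y0) * (j⁻¹ * j⁻¹) * j := by group
      _ = (j * y0 * j⁻¹) * y0 * j := by
          have : j⁻¹ * j⁻¹ = 1 := by rw [← mul_inv_rev, hjj, inv_one]
          rw [hjj, this, one_mul, mul_one]
      _ = _ := by rw [hcomm _ (hcj y0 hy0) _ hy0]
  · intro y hy
    rcases hcov y hy with h | h
    · left
      rw [hconj y hy, h, mul_one]
    · right
      rw [← h]
      exact hconj y hy

/-- a fixed member of `Σ` -/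
theorem fix_of_mem {z : G} (hz1 : z ≠ 1) {j : G} (hjz : Commute j z) {b : Subgroup G} (hb : b ∈ 𝒵) (hzb : z ∈ b)
    {w : G} (hw : w ∈ b) (hw1 : w ≠ 1) (hwz : w ≠ z) (hjw : j * w * j⁻¹ = w ∨ j * w * j⁻¹ = w * z) : cj j b = b := by
  have h1 : j * w * j⁻¹ ∈ cj j b := by
    rw [mem_cj]
    have : j⁻¹ * (j * w * j⁻¹) * j = w := by group
    rwa [this]
  have hz2 := sq_mem L hb hzb
  have h2 : j * w * j⁻¹ ∈ b := by
    rcases hjw with h | h
    · rwa [h]
    · rw [h]; exact mul_mem hw hzb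
  refine eq_of_mem L hz1 (L.Z_conj b hb j) (mem_cj_of_commute hjz hzb) hb hzb h1 h2 ?_ ?_
  · intro h
    apply hw1
    calc w = j⁻¹ * (j * w * j⁻¹) * j := by group
      _ = 1 := by rw [h]; group
  · intro h
    apply hwz
    calc w = j⁻¹ * (j * w * j⁻¹) * j := by group
      _ = j⁻¹ * (z * j) := by rw [h]; group
      _ = z := by rw [← hjz.eq]; group

omit L [Finite G] in
/-- six members are too many -/
theorem no_six {z : G} (h5 : Nat.card (Sig 𝒵 z) = 5) (a : Fin 6 → Sig 𝒵 z) : ¬ Function.Injective a := by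
  intro h
  have hfin : Finite (Sig 𝒵 z) := Nat.finite_of_card_ne_zero (by rw [h5]; norm_num)
  have h1 := Nat.card_le_card_of_injective a h
  rw [h5, Nat.card_eq_fintype_card, Fintype.card_fin] at h1
  omega

/-- every member of `Σ(z)` is normalised by `j` -/
theorem fix_all {z : G} (hz1 : z ≠ 1) (h5 : Nat.card (Sig 𝒵 z) = 5) {Y0 : Subgroup G} (hY0 : Y0 ∈ 𝒵) (hz0 : z ∈ Y0)
    {j : G} (hjj : j * j = 1) (hjz : Commute j z) (htr : ∀ y ∈ Y0, j * y * j⁻¹ = y ∨ j * y * j⁻¹ = y * z)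
    (hex : ∃ y ∈ Y0, j * y * j⁻¹ = y * z) {Y : Subgroup G} (hY : Y ∈ 𝒵) (hzY : z ∈ Y) : cj j Y = Y := by
  classical
  by_contra hne
  have hzz : z * z = 1 := sq_mem L hY0 hz0
  have hji : j⁻¹ = j := inv_eq_of_mul_eq_one_right hjj
  have hfix0 : cj j Y0 = Y0 := by
    obtain ⟨u, hu, hus⟩ := exists_notMem (card_mem L hY0) (s := {1, z}) (by
      have := Finset.card_le_two (a := (1 : G)) (b := z)
      omega)
    simp only [Finset.mem_insert, Finset.mem_singleton, not_or] at hus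
    exact fix_of_mem L hz1 hjz hY0 hz0 hu hus.1 hus.2 (htr u hu)
  have hY0Y : Y ≠ Y0 := fun h => hne (by rw [h]; exact hfix0)
  set Y' := cj j Y with hY'
  have hY'Z : Y' ∈ 𝒵 := L.Z_conj Y hY j
  have hzY' : z ∈ Y' := mem_cj_of_commute hjz hzY
  have hY'Y0 : Y' ≠ Y0 := by
    intro h
    apply hne
    have h1 : cj j Y' = Y := by rw [hY', ← cj_mul, hjj, cj_one]
    rw [h, hfix0] at h1
    rw [h, h1]
  have hcj : ∀ u ∈ Y, j * u * j⁻¹ ∈ Y' := by
    intro u hu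
    rw [hY', mem_cj]
    have : j⁻¹ * (j * u * j⁻¹) * j = u := by group
    rwa [this]
  have hinf : ∀ u, u ∈ Y → u ∈ Y' → u = 1 ∨ u = z := fun u h1 h2 =>
    inf_eq L hz1 hY hzY hY'Z hzY' (Ne.symm hne) h1 h2
  have hcomm : ∀ u ∈ Y, ∀ v ∈ Y', u * v = v * u := by
    intro u hu v hv
    exact ((mem_centralizer_iff.1 (le_cent_of_ne L hz1 hY hzY hY'Z hzY' (Ne.symm hne) hu)) v hv).symm
  -- the products `w u = u u^j`
  have hwfix : ∀ u ∈ Y, j * (u * (j * u * j⁻¹)) * j⁻¹ = u * (j * u * j⁻¹) := by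
    intro u hu
    have h1 := hcomm u hu _ (hcj u hu)
    calc j * (u * (j * u * j⁻¹)) * j⁻¹ = (j * u * j⁻¹) * ((j * j) * u * (j * j)⁻¹) := by group
      _ = (j * u * j⁻¹) * u := by rw [hjj]; group
      _ = _ := h1.symm
  have hwY : ∀ u ∈ Y, u * (j * u * j⁻¹) ∈ Y → u = 1 ∨ u = z := by
    intro u hu hw
    have h1 : j * u * j⁻¹ ∈ Y := by
      have := mul_mem (inv_mem hu) hw
      rwa [inv_mul_cancel_left] at this
    rcases hinf _ h1 (hcj u hu) with h | h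
    · left
      calc u = j⁻¹ * (j * u * j⁻¹) * j := by group
        _ = 1 := by rw [h]; group
    · right
      calc u = j⁻¹ * (j * u * j⁻¹) * j := by group
        _ = j⁻¹ * (z * j) := by rw [h]; group
        _ = z := by rw [← hjz.eq]; group
  have hwY' : ∀ u ∈ Y, u * (j * u * j⁻¹) ∈ Y' → u = 1 ∨ u = z := by
    intro u hu hw
    have h1 : u ∈ Y' := by
      have := mul_mem hw (inv_mem (hcj u hu))
      rwa [mul_inv_cancel_right] at this
    exact hinf u hu h1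
  have hw1 : ∀ u ∈ Y, u ≠ 1 → u ≠ z → u * (j * u * j⁻¹) ≠ 1 ∧ u * (j * u * j⁻¹) ≠ z := by
    intro u hu hu1 huz
    refine ⟨fun h => ?_, fun h => ?_⟩
    · rcases hwY u hu (by rw [h]; exact one_mem _) with h | h
      · exact hu1 h
      · exact huz h
    · rcases hwY u hu (by rw [h]; exact hzY) with h | h
      · exact hu1 h
      · exact huz h
  have hwY0 : ∀ u ∈ Y, u ≠ 1 → u ≠ z → u * (j * u * j⁻¹) ∈ Y0 := by
    intro u hu hu1 huz
    obtain ⟨hwne, hwnz⟩ := hw1 u hu hu1 huz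
    obtain ⟨A, hA, hzA, hwA⟩ := exists_mul L hz1 h5 hY hzY hY'Z hzY' hu (hcj u hu)
    set w := u * (j * u * j⁻¹) with hw
    by_contra hw0
    have hjw : j * w * j⁻¹ = w := hwfix u hu
    have hA0 : A ≠ Y0 := fun h => hw0 (by rw [← h]; exact hwA)
    have hAY : A ≠ Y := by
      intro h
      rcases hwY u hu (by rw [← h]; exact hwA) with h | h
      · exact hu1 h
      · exact huz h
    have hAY' : A ≠ Y' := by
      intro h
      rcases hwY' u hu (by rw [← h]; exact hwA) with h | h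
      · exact hu1 h
      · exact huz h
    -- the fifth member
    have hfive : ∀ y ∈ Y0, y ≠ 1 → y ≠ z → ∃ B ∈ 𝒵, z ∈ B ∧ y * w ∈ B ∧ B ≠ Y0 ∧ B ≠ A ∧ B ≠ Y ∧ B ≠ Y' := by
      intro y hy hy1 hyz
      obtain ⟨B, hB, hzB, hyB⟩ := exists_mul L hz1 h5 hY0 hz0 hA hzA hy hwA
      have hB0 : B ≠ Y0 := by
        intro h
        apply hw0
        rw [h] at hyB
        have := mul_mem (inv_mem hy) hyB
        rwa [inv_mul_cancel_left] at this
      have hBA : B ≠ A := by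
        intro h
        rw [h] at hyB
        have h1 : y ∈ A := by
          have := mul_mem hyB (inv_mem hwA)
          rwa [mul_inv_cancel_right] at this
        exact hA0 (eq_of_mem L hz1 hA hzA hY0 hz0 h1 hy hy1 hyz)
      have hyw1 : y * w ≠ 1 := by
        intro h
        apply hw0
        have h1 : w = y⁻¹ := (inv_eq_of_mul_eq_one_right h).symm
        rw [h1]; exact inv_mem hy
      have hywz : y * w ≠ z := by
        intro h
        apply hw0
        have h1 : w = y⁻¹ * z := by rw [← h]; group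
        rw [h1]; exact mul_mem (inv_mem hy) hz0
      have hBfix : cj j B = B := by
        refine fix_of_mem L hz1 hjz hB hzB hyB hyw1 hywz ?_
        have h1 : j * (y * w) * j⁻¹ = (j * y * j⁻¹) * (j * w * j⁻¹) := by group
        rw [h1, hjw]
        rcases htr y hy with h | h
        · left; rw [h]
        · right
          rw [h, mul_assoc, mul_assoc]
          have h2 : z * w = w * z := (comm_mem L hA hzA hwA).eq
          rw [h2]
      have hBY : B ≠ Y := by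
        intro h
        apply hne
        rw [← h, ← hBfix, hY', h]
      have hBY' : B ≠ Y' := by
        intro h
        apply hne
        have h1 : cj j Y' = Y := by rw [hY', ← cj_mul, hjj, cj_one]
        rw [h] at hBfix
        rw [hBfix] at h1
        exact h1
      exact ⟨B, hB, hzB, hyB, hB0, hBA, hBY, hBY'⟩
    obtain ⟨y1, hy1, hy1s⟩ := exists_notMem (card_mem L hY0) (s := {1, z}) (by
      have := Finset.card_le_two (a := (1 : G)) (b := z)
      omega)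
    simp only [Finset.mem_insert, Finset.mem_singleton, not_or] at hy1s
    obtain ⟨y2, hy2, hy2s⟩ := exists_notMem (card_mem L hY0) (s := {1, z, y1, y1 * z}) (by
      have := Finset.card_le_four (a := (1 : G)) (b := z) (c := y1) (d := y1 * z)
      omega)
    simp only [Finset.mem_insert, Finset.mem_singleton, not_or] at hy2s
    obtain ⟨B1, hB1, hzB1, hm1, a1, a2, a3, a4⟩ := hfive y1 hy1 hy1s.1 hy1s.2
    obtain ⟨B2, hB2, hzB2, hm2, b1, b2, b3, b4⟩ := hfive y2 hy2 hy2s.1 hy2s.2.1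
    have hBB : B1 = B2 := by
      by_contra hBB
      refine no_six h5 ![⟨Y0, hY0, hz0⟩, ⟨A, hA, hzA⟩, ⟨Y, hY, hzY⟩, ⟨Y', hY'Z, hzY'⟩, ⟨B1, hB1, hzB1⟩,
        ⟨B2, hB2, hzB2⟩] ?_
      have e : ∀ i k : Fin 6, i < k → (![⟨Y0, hY0, hz0⟩, ⟨A, hA, hzA⟩, ⟨Y, hY, hzY⟩, ⟨Y', hY'Z, hzY'⟩, ⟨B1, hB1, hzB1⟩,
        ⟨B2, hB2, hzB2⟩] : Fin 6 → Sig 𝒵 z) i ≠ ![⟨Y0, hY0, hz0⟩, ⟨A, hA, hzA⟩, ⟨Y, hY, hzY⟩, ⟨Y', hY'Z, hzY'⟩,
        ⟨B1, hB1, hzB1⟩, ⟨B2, hB2, hzB2⟩] k := by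
        intro i k hik
        fin_cases i <;> fin_cases k <;> first
          | exact absurd hik (by decide)
          | (intro h'
             have h'' := congrArg Subtype.val h'
             simp at h''
             first
               | exact hA0 h''.symm
               | exact hY0Y h''.symm
               | exact hY'Y0 h''.symm
               | exact a1 h''.symm
               | exact b1 h''.symm
               | exact hAY h''
               | exact hAY' h''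
               | exact a2 h''.symm
               | exact b2 h''.symm
               | exact hne h''.symm
               | exact a3 h''.symm
               | exact b3 h''.symm
               | exact a4 h''.symm
               | exact b4 h''.symm
               | exact hBB h'')
      intro i k hik
      rcases lt_trichotomy i k with h | h | h
      · exact absurd hik (e i k h)
      · exact h
      · exact absurd hik.symm (e k i h)
    subst hBB
    have h1 : y1 * y2⁻¹ ∈ B1 := by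
      have := mul_mem hm1 (inv_mem hm2)
      have e : y1 * w * (y2 * w)⁻¹ = y1 * y2⁻¹ := by group
      rwa [e] at this
    have h2 : y1 * y2⁻¹ ∈ Y0 := mul_mem hy1 (inv_mem hy2)
    have hy2i : y2⁻¹ = y2 := inv_eq_of_mul_eq_one_right (sq_mem L hY0 hy2)
    rcases inf_eq L hz1 hB1 hzB1 hY0 hz0 a1 h1 h2 with h | h
    · apply hy2s.2.2.1
      exact (mul_inv_eq_one.1 h).symm
    · apply hy2s.2.2.2
      have h3 : y1 = z * y2 := by rw [← h]; group
      rw [h3, (comm_mem L hY0 hz0 hy2).eq, mul_assoc, hzz, mul_one]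
  -- the end
  obtain ⟨u1, hu1, hu1s⟩ := exists_notMem (card_mem L hY) (s := {1, z}) (by
    have := Finset.card_le_two (a := (1 : G)) (b := z)
    omega)
  simp only [Finset.mem_insert, Finset.mem_singleton, not_or] at hu1s
  obtain ⟨u2, hu2, hu2s⟩ := exists_notMem (card_mem L hY) (s := {1, z, u1, u1 * z}) (by
    have := Finset.card_le_four (a := (1 : G)) (b := z) (c := u1) (d := u1 * z)
    omega)
  simp only [Finset.mem_insert, Finset.mem_singleton, not_or] at hu2s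
  have hu3 : u1 * u2 ∈ Y := mul_mem hu1 hu2
  have hsq : ∀ x ∈ Y, x * x = 1 := fun x hx => sq_mem L hY hx
  have h31 : u1 * u2 ≠ 1 := by
    intro h
    apply hu2s.2.2.1
    exact mul_left_cancel (h.trans (hsq u1 hu1).symm)
  have h3z : u1 * u2 ≠ z := by
    intro h
    apply hu2s.2.2.2
    calc u2 = (u1 * u1) * u2 := by rw [hsq u1 hu1, one_mul]
      _ = u1 * (u1 * u2) := by group
      _ = u1 * z := by rw [h]
  have hw3 : (u1 * (j * u1 * j⁻¹)) * (u2 * (j * u2 * j⁻¹)) = (u1 * u2) * (j * (u1 * u2) * j⁻¹) := by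
    have h1 := hcomm u2 hu2 _ (hcj u1 hu1)
    calc (u1 * (j * u1 * j⁻¹)) * (u2 * (j * u2 * j⁻¹)) = u1 * ((j * u1 * j⁻¹) * u2) * (j * u2 * j⁻¹) := by group
      _ = u1 * (u2 * (j * u1 * j⁻¹)) * (j * u2 * j⁻¹) := by rw [h1]
      _ = _ := by group
  obtain ⟨hw11, hw1z⟩ := hw1 u1 hu1 hu1s.1 hu1s.2
  obtain ⟨hw21, hw2z⟩ := hw1 u2 hu2 hu2s.1 hu2s.2.1
  obtain ⟨hw31, hw3z⟩ := hw1 _ hu3 h31 h3z
  have m1 := hwY0 u1 hu1 hu1s.1 hu1s.2
  have m2 := hwY0 u2 hu2 hu2s.1 hu2s.2.1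
  have m3 := hwY0 _ hu3 h31 h3z
  have f1 := hwfix u1 hu1
  have f2 := hwfix u2 hu2
  rw [← hw3] at hw31 hw3z m3
  set w1 := u1 * (j * u1 * j⁻¹) with hw1'
  set w2 := u2 * (j * u2 * j⁻¹) with hw2'
  let P : Subgroup G := Y0 ⊓ centralizer {j}
  have hPm : ∀ x ∈ Y0, j * x * j⁻¹ = x → x ∈ P := by
    intro x hx h
    refine ⟨hx, mem_centralizer_singleton_iff.2 ?_⟩
    calc x * j = (j * x * j⁻¹) * j := by rw [h]
      _ = j * x := by group
  have hz' : j * z * j⁻¹ = z := by rw [hjz.eq]; group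
  have hP1 : w1 ∈ P := hPm w1 m1 f1
  have hP2 : w2 ∈ P := hPm w2 m2 f2
  have hPz : z ∈ P := hPm z hz0 hz'
  have hw1sq : w1 * w1 = 1 := sq_mem L hY0 m1
  have hPY : P = Y0 := by
    refine eq_of_five (card_mem L hY0) inf_le_left (one_mem P) hPz hP1 hP2 (mul_mem hP1 hP2) ?_
    simp only [List.nodup_cons, List.mem_cons, List.not_mem_nil, or_false, not_or, not_false_eq_true,
      List.nodup_nil, and_true]
    refine ⟨⟨fun h => hz1 h.symm, fun h => hw11 h.symm, fun h => hw21 h.symm, fun h => hw31 h.symm⟩,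
      ⟨fun h => hw1z h.symm, fun h => hw2z h.symm, fun h => hw3z h.symm⟩, ⟨?_, ?_⟩, ?_⟩
    · intro h
      apply hw31
      rw [← h]; exact hw1sq
    · intro h
      apply hw21
      have : w1 * 1 = w1 * w2 := by rw [mul_one]; exact h
      exact (mul_left_cancel this).symm
    · intro h
      apply hw11
      have : 1 * w2 = w1 * w2 := by rw [one_mul]; exact h
      exact (mul_right_cancel this).symm
  obtain ⟨y, hy, hyz⟩ := hex
  have h1 : y ∈ P := by rw [hPY]; exact hy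
  have h2 := mem_centralizer_singleton_iff.1 h1.2
  have h3 : j * y * j⁻¹ = y := by rw [← h2]; group
  rw [h3] at hyz
  exact hz1 (left_eq_mul.1 hyz)

/-- `j` acts on every member of `Σ(z)` as on `Y0` -/
theorem act_all {z : G} (hz1 : z ≠ 1) (h5 : Nat.card (Sig 𝒵 z) = 5) {Y0 : Subgroup G} (hY0 : Y0 ∈ 𝒵) (hz0 : z ∈ Y0)
    {j : G} (hjj : j * j = 1) (hjz : Commute j z) (htr : ∀ y ∈ Y0, j * y * j⁻¹ = y ∨ j * y * j⁻¹ = y * z)
    (hex : ∃ y ∈ Y0, j * y * j⁻¹ = y * z) {Y : Subgroup G} (hY : Y ∈ 𝒵) (hzY : z ∈ Y) {u : G} (hu : u ∈ Y) :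
    j * u * j⁻¹ = u ∨ j * u * j⁻¹ = u * z := by
  classical
  by_cases hY0Y : Y = Y0
  · rw [hY0Y] at hu
    exact htr u hu
  have hzz : z * z = 1 := sq_mem L hY0 hz0
  obtain ⟨y, hy, hys⟩ := exists_notMem (card_mem L hY0) (s := {1, z}) (by
    have := Finset.card_le_two (a := (1 : G)) (b := z)
    omega)
  simp only [Finset.mem_insert, Finset.mem_singleton, not_or] at hys
  obtain ⟨B, hB, hzB, huB⟩ := exists_mul L hz1 h5 hY hzY hY0 hz0 hu hy
  have hBY : B ≠ Y := by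
    intro h
    rw [h] at huB
    have h1 : y ∈ Y := by
      have := mul_mem (inv_mem hu) huB
      rwa [inv_mul_cancel_left] at this
    exact hY0Y (eq_of_mem L hz1 hY hzY hY0 hz0 h1 hy hys.1 hys.2)
  have hfB := fix_all L hz1 h5 hY0 hz0 hjj hjz htr hex hB hzB
  have hfY := fix_all L hz1 h5 hY0 hz0 hjj hjz htr hex hY hzY
  have h1 : j * (u * y) * j⁻¹ ∈ B := conj_mem_of_mem_nor (mem_nor.2 hfB) huB
  have h2 : j * u * j⁻¹ ∈ Y := conj_mem_of_mem_nor (mem_nor.2 hfY) hu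
  have hyc := mem_centralizer_iff.1 (le_cent_of_ne L hz1 hY0 hz0 hY hzY (fun h => hY0Y h.symm) hy)
  have h3 : ∃ e, (e = 1 ∨ e = z) ∧ j * y * j⁻¹ = y * e := by
    rcases htr y hy with h | h
    · exact ⟨1, Or.inl rfl, by rw [h, mul_one]⟩
    · exact ⟨z, Or.inr rfl, h⟩
  obtain ⟨e, he, hye⟩ := h3
  have hee : e ∈ B ∧ e ∈ Y := by
    rcases he with rfl | rfl
    · exact ⟨one_mem _, one_mem _⟩
    · exact ⟨hzB, hzY⟩
  have h4 : u⁻¹ * (j * u * j⁻¹) ∈ B := by
    have h5 : (u * y)⁻¹ * (j * (u * y) * j⁻¹) * e⁻¹ ∈ B := mul_mem (mul_mem (inv_mem huB) h1) (inv_mem hee.1)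
    have h6 : (u * y)⁻¹ * (j * (u * y) * j⁻¹) * e⁻¹ = u⁻¹ * (j * u * j⁻¹) := by
      have e1 : (u * y)⁻¹ * (j * (u * y) * j⁻¹) * e⁻¹ = y⁻¹ * (u⁻¹ * (j * u * j⁻¹)) * (j * y * j⁻¹) * e⁻¹ := by group
      rw [e1, hye]
      have e2 := hyc (u⁻¹ * (j * u * j⁻¹)) (mul_mem (inv_mem hu) h2)
      calc y⁻¹ * (u⁻¹ * (j * u * j⁻¹)) * (y * e) * e⁻¹ = y⁻¹ * ((u⁻¹ * (j * u * j⁻¹)) * y) := by group
        _ = y⁻¹ * (y * (u⁻¹ * (j * u * j⁻¹))) := by rw [e2]
        _ = _ := by group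
    rwa [h6] at h5
  rcases inf_eq L hz1 hB hzB hY hzY hBY h4 (mul_mem (inv_mem hu) h2) with h | h
  · left
    exact (inv_mul_eq_one.1 h).symm
  · right
    calc j * u * j⁻¹ = u * (u⁻¹ * (j * u * j⁻¹)) := by group
      _ = u * z := by rw [h]

omit [Finite G] in
/-- two fixed elements, independent modulo `z`, in one member -/
theorem cent_of_two {z : G} (hz1 : z ≠ 1) {A : Subgroup G} (hA : A ∈ 𝒵) (hzA : z ∈ A) {j : G} (hjz : Commute j z)
    {p q : G} (hp : p ∈ A) (hq : q ∈ A) (hjp : Commute j p) (hjq : Commute j q) (hp1 : p ≠ 1) (hpz : p ≠ z)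
    (hq1 : q ≠ 1) (hqz : q ≠ z) (hpq1 : p * q ≠ 1) (hpqz : p * q ≠ z) : j ∈ centralizer (A : Set G) := by
  have hP : A ⊓ centralizer {j} = A := by
    have m : ∀ x ∈ A, Commute j x → x ∈ A ⊓ centralizer {j} := fun x hx h =>
      ⟨hx, mem_centralizer_singleton_iff.2 h.eq.symm⟩
    refine eq_of_five (card_mem L hA) inf_le_left (one_mem _) (m z hzA hjz) (m p hp hjp) (m q hq hjq)
      (mul_mem (m p hp hjp) (m q hq hjq)) ?_
    simp only [List.nodup_cons, List.mem_cons, List.not_mem_nil, or_false, not_or, not_false_eq_true,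
      List.nodup_nil, and_true]
    refine ⟨⟨hz1.symm, hp1.symm, hq1.symm, hpq1.symm⟩, ⟨hpz.symm, hqz.symm, hpqz.symm⟩, ⟨?_, ?_⟩, ?_⟩
    · intro h
      apply hpq1
      rw [← h]
      exact sq_mem L hA hp
    · intro h
      exact hq1 (left_eq_mul.1 h)
    · intro h
      exact hp1 (right_eq_mul.1 h)
  rw [mem_centralizer_iff]
  intro x hx
  have : x ∈ A ⊓ centralizer {j} := by rw [hP]; exact hx
  exact mem_centralizer_singleton_iff.1 this.2

omit [Finite G] in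
/-- a fixed element outside `⟨z⟩` -/
theorem exists_fixed_nz {z : G} {Y : Subgroup G} (hY : Y ∈ 𝒵) (hzY : z ∈ Y) {j g : G}
    (hact : ∀ u ∈ Y, j * u * j⁻¹ = u ∨ j * u * j⁻¹ = u * z) (hg : g ∈ Y) (hgz : j * g * j⁻¹ = g * z) :
    ∃ f ∈ Y, f ≠ 1 ∧ f ≠ z ∧ j * f * j⁻¹ = f := by
  classical
  have hgg := sq_mem L hY hg
  have hzz := sq_mem L hY hzY
  obtain ⟨y, hy, hys⟩ := exists_notMem (card_mem L hY) (s := {1, z, g, g * z}) (by
    have := Finset.card_le_four (a := (1 : G)) (b := z) (c := g) (d := g * z)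
    omega)
  simp only [Finset.mem_insert, Finset.mem_singleton, not_or] at hys
  rcases hact y hy with h | h
  · exact ⟨y, hy, hys.1, hys.2.1, h⟩
  · refine ⟨g * y, mul_mem hg hy, fun h' => hys.2.2.1 ?_, fun h' => hys.2.2.2 ?_, ?_⟩
    · exact mul_left_cancel (h'.trans hgg.symm)
    · calc y = (g * g) * y := by rw [hgg, one_mul]
        _ = g * (g * y) := by group
        _ = g * z := by rw [h']
    · calc j * (g * y) * j⁻¹ = (j * g * j⁻¹) * (j * y * j⁻¹) := by group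
        _ = g * z * (y * z) := by rw [hgz, h]
        _ = g * (z * y) * z := by group
        _ = g * (y * z) * z := by rw [(comm_mem L hY hzY hy).eq]
        _ = g * y * (z * z) := by group
        _ = g * y := by rw [hzz, mul_one]

/-- **an involution normalising a member of `𝒵` centralises a member of `𝒵`** -/
theorem exists_cent {z : G} (hz1 : z ≠ 1) (h5 : Nat.card (Sig 𝒵 z) = 5) {Y0 : Subgroup G} (hY0 : Y0 ∈ 𝒵)
    (hz0 : z ∈ Y0) {j : G} (hjj : j * j = 1) (hjz : Commute j z)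
    (htr : ∀ y ∈ Y0, j * y * j⁻¹ = y ∨ j * y * j⁻¹ = y * z)
    (hex : ∃ y ∈ Y0, j * y * j⁻¹ = y * z) : ∃ Y ∈ 𝒵, j ∈ centralizer (Y : Set G) := by
  classical
  by_contra hcon
  push Not at hcon
  have hzz : z * z = 1 := sq_mem L hY0 hz0
  have act := fun (Y : Subgroup G) (hY : Y ∈ 𝒵) (hzY : z ∈ Y) (u : G) (hu : u ∈ Y) =>
    act_all L hz1 h5 hY0 hz0 hjj hjz htr hex hY hzY hu
  -- a second member
  obtain ⟨Y2, hY2, hz2, hne⟩ : ∃ Y2 ∈ 𝒵, z ∈ Y2 ∧ Y2 ≠ Y0 := by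
    by_contra h
    push Not at h
    have hss : Subsingleton (Sig 𝒵 z) := ⟨fun a b => Subtype.ext ((h a.1 a.2.1 a.2.2).trans (h b.1 b.2.1 b.2.2).symm)⟩
    have h1 : Nat.card (Sig 𝒵 z) ≤ 1 := Finite.card_le_one_iff_subsingleton.2 hss
    omega
  have hinf : ∀ x, x ∈ Y2 → x ∈ Y0 → x = 1 ∨ x = z := fun x h1 h2 => inf_eq L hz1 hY2 hz2 hY0 hz0 hne h1 h2
  have hcc : ∀ a ∈ Y0, ∀ b ∈ Y2, a * b = b * a := by
    intro a ha b hb
    exact (mem_centralizer_iff.1 (le_cent_of_ne L hz1 hY2 hz2 hY0 hz0 hne hb)) a ha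
  obtain ⟨g1, hg1, hg1z⟩ := hex
  obtain ⟨f1, hf1, hf11, hf1z, hf1j⟩ := exists_fixed_nz L hY0 hz0 (act Y0 hY0 hz0) hg1 hg1z
  obtain ⟨g2, hg2, hg2z⟩ : ∃ g2 ∈ Y2, j * g2 * j⁻¹ = g2 * z := by
    by_contra h
    push Not at h
    apply hcon Y2 hY2
    rw [mem_centralizer_iff]
    intro y hy
    rcases act Y2 hY2 hz2 y hy with h1 | h1
    · calc y * j = (j * y * j⁻¹) * j := by rw [h1]
        _ = j * y := by group
    · exact absurd h1 (h y hy)
  obtain ⟨f2, hf2, hf21, hf2z, hf2j⟩ := exists_fixed_nz L hY2 hz2 (act Y2 hY2 hz2) hg2 hg2z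
  have moved : ∀ x : G, j * x * j⁻¹ = x * z → x ≠ 1 ∧ x ≠ z := by
    intro x hx
    refine ⟨?_, ?_⟩
    · rintro rfl
      rw [mul_one, mul_inv_cancel, one_mul] at hx
      exact hz1 hx.symm
    · rintro rfl
      rw [hjz.eq, mul_inv_cancel_right, hzz] at hx
      exact hz1 hx
  -- products of two fixed or two moved elements
  have hcz : ∀ x ∈ Y2, x * z = z * x := fun x hx => (comm_mem L hY2 hx hz2).eq
  have fix_mul : ∀ a b : G, j * a * j⁻¹ = a → j * b * j⁻¹ = b → Commute j (a * b) := by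
    intro a b h1 h2
    show j * (a * b) = a * b * j
    calc j * (a * b) = (j * a * j⁻¹) * (j * b * j⁻¹) * j := by group
      _ = _ := by rw [h1, h2]
  have mov_mul : ∀ a, ∀ b ∈ Y2, j * a * j⁻¹ = a * z → j * b * j⁻¹ = b * z → Commute j (a * b) := by
    intro a b hb h1 h2
    show j * (a * b) = a * b * j
    calc j * (a * b) = (j * a * j⁻¹) * (j * b * j⁻¹) * j := by group
      _ = a * (z * b) * z * j := by rw [h1, h2]; group
      _ = a * (b * z) * z * j := by rw [hcz b hb]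
      _ = a * b * (z * z) * j := by group
      _ = _ := by rw [hzz, mul_one]
  have mf : ∀ Y ∈ 𝒵, z ∈ Y → ∀ a b : G, b ∈ Y → j * a * j⁻¹ = a * z → j * b * j⁻¹ = b →
      j * (a * b) * j⁻¹ = a * b * z := by
    intro Y hY hzY a b hb h1 h2
    calc j * (a * b) * j⁻¹ = (j * a * j⁻¹) * (j * b * j⁻¹) := by group
      _ = a * (z * b) := by rw [h1, h2]; group
      _ = a * (b * z) := by rw [(comm_mem L hY hzY hb).eq]
      _ = _ := by group
  have m11 := mf Y0 hY0 hz0 g1 f1 hf1 hg1z hf1j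
  have m22 := mf Y2 hY2 hz2 g2 f2 hf2 hg2z hf2j
  have nz1 : ∀ a ∈ Y0, ∀ b ∈ Y2, a ≠ 1 → a ≠ z → a * b ≠ 1 ∧ a * b ≠ z := by
    intro a ha b hb ha1 haz
    refine ⟨fun h => ?_, fun h => ?_⟩
    · rcases hinf a (by rw [eq_inv_of_mul_eq_one_left h]; exact inv_mem hb) ha with h | h
      · exact ha1 h
      · exact haz h
    · rcases hinf a (by rw [eq_mul_inv_of_mul_eq h]; exact mul_mem hz2 (inv_mem hb)) ha with h | h
      · exact ha1 h
      · exact haz h
  have nz2 : ∀ a ∈ Y0, ∀ b ∈ Y2, b ≠ 1 → b ≠ z → a * b ≠ 1 ∧ a * b ≠ z := by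
    intro a ha b hb ha1 haz
    refine ⟨fun h => ?_, fun h => ?_⟩
    · rcases hinf b hb (by rw [eq_inv_of_mul_eq_one_right h]; exact inv_mem ha) with h | h
      · exact ha1 h
      · exact haz h
    · rcases hinf b hb (by rw [eq_inv_mul_of_mul_eq h]; exact mul_mem (inv_mem ha) hz0) with h | h
      · exact ha1 h
      · exact haz h
  have hA0 : ∀ a ∈ Y0, ∀ b ∈ Y2, b ≠ 1 → b ≠ z → a * b ∉ Y0 := by
    intro a ha b hb hb1 hbz h
    have h1 : b ∈ Y0 := by
      have := mul_mem (inv_mem ha) h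
      rwa [inv_mul_cancel_left] at this
    rcases hinf b hb h1 with h | h
    · exact hb1 h
    · exact hbz h
  have hA2 : ∀ a ∈ Y0, ∀ b ∈ Y2, a ≠ 1 → a ≠ z → a * b ∉ Y2 := by
    intro a ha b hb hb1 hbz h
    have h1 : a ∈ Y2 := by
      have := mul_mem h (inv_mem hb)
      rwa [mul_inv_cancel_right] at this
    rcases hinf a h1 ha with h | h
    · exact hb1 h
    · exact hbz h
  have hAA : ∀ a ∈ Y0, ∀ b ∈ Y2, ∀ c ∈ Y0, ∀ d ∈ Y2, Commute j (a * b) → Commute j (c * d) → (a ≠ 1 ∧ a ≠ z) →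
      (c ≠ 1 ∧ c ≠ z) → ((a * c ≠ 1 ∧ a * c ≠ z) ∨ (b * d ≠ 1 ∧ b * d ≠ z)) → ∀ A ∈ 𝒵, z ∈ A → a * b ∈ A →
      c * d ∈ A → False := by
    intro a ha b hb c hc d hd h1 h2 h3 h4 h5 A hA hzA h6 h7
    have h8 := nz1 a ha b hb h3.1 h3.2
    have h9 := nz1 c hc d hd h4.1 h4.2
    have h10 : a * b * (c * d) = (a * c) * (b * d) := by
      calc a * b * (c * d) = a * (b * c) * d := by group
        _ = a * (c * b) * d := by rw [hcc c hc b hb]
        _ = _ := by group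
    have h11 : a * b * (c * d) ≠ 1 ∧ a * b * (c * d) ≠ z := by
      rw [h10]
      rcases h5 with h | h
      · exact nz1 _ (mul_mem ha hc) _ (mul_mem hb hd) h.1 h.2
      · exact nz2 _ (mul_mem ha hc) _ (mul_mem hb hd) h.1 h.2
    exact hcon A hA (cent_of_two L hz1 hA hzA hjz h6 h7 h1 h2 h8.1 h8.2 h9.1 h9.2 h11.1 h11.2)
  have n1 := moved g1 hg1z
  have n11 := moved _ m11
  have n2 := moved g2 hg2z
  have n22 := moved _ m22
  have c1 := fix_mul f1 f2 hf1j hf2j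
  have c2 := mov_mul g1 g2 hg2 hg1z hg2z
  have c3 := mov_mul (g1 * f1) g2 hg2 m11 hg2z
  have c4 := mov_mul g1 (g2 * f2) (mul_mem hg2 hf2) hg1z m22
  have hg11 := sq_mem L hY0 hg1
  have hg22 := sq_mem L hY2 hg2
  have hf12 := sq_mem L hY0 hf1
  have hfg : f1 * g1 = g1 * f1 := (comm_mem L hY0 hf1 hg1).eq
  obtain ⟨A1, hA1, hzA1, k1⟩ := exists_mul L hz1 h5 hY0 hz0 hY2 hz2 hf1 hf2
  obtain ⟨A2', hA2', hzA2, k2⟩ := exists_mul L hz1 h5 hY0 hz0 hY2 hz2 hg1 hg2
  obtain ⟨A3, hA3, hzA3, k3⟩ := exists_mul L hz1 h5 hY0 hz0 hY2 hz2 (mul_mem hg1 hf1) hg2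
  obtain ⟨A4, hA4, hzA4, k4⟩ := exists_mul L hz1 h5 hY0 hz0 hY2 hz2 hg1 (mul_mem hg2 hf2)
  have a10 : A1 ≠ Y0 := fun h => hA0 f1 hf1 f2 hf2 hf21 hf2z (h ▸ k1)
  have a20 : A2' ≠ Y0 := fun h => hA0 g1 hg1 g2 hg2 n2.1 n2.2 (h ▸ k2)
  have a30 : A3 ≠ Y0 := fun h => hA0 _ (mul_mem hg1 hf1) g2 hg2 n2.1 n2.2 (h ▸ k3)
  have a40 : A4 ≠ Y0 := fun h => hA0 g1 hg1 _ (mul_mem hg2 hf2) n22.1 n22.2 (h ▸ k4)
  have a12 : A1 ≠ Y2 := fun h => hA2 f1 hf1 f2 hf2 hf11 hf1z (h ▸ k1)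
  have a22 : A2' ≠ Y2 := fun h => hA2 g1 hg1 g2 hg2 n1.1 n1.2 (h ▸ k2)
  have a32 : A3 ≠ Y2 := fun h => hA2 _ (mul_mem hg1 hf1) g2 hg2 n11.1 n11.2 (h ▸ k3)
  have a42 : A4 ≠ Y2 := fun h => hA2 g1 hg1 _ (mul_mem hg2 hf2) n1.1 n1.2 (h ▸ k4)
  have b12 : A1 ≠ A2' := fun h => hAA f1 hf1 f2 hf2 g1 hg1 g2 hg2 c1 c2 ⟨hf11, hf1z⟩ n1
    (Or.inl (by rw [hfg]; exact n11)) A1 hA1 hzA1 k1 (h ▸ k2)
  have b13 : A1 ≠ A3 := fun h => hAA f1 hf1 f2 hf2 _ (mul_mem hg1 hf1) g2 hg2 c1 c3 ⟨hf11, hf1z⟩ n11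
    (Or.inl (by
      have : f1 * (g1 * f1) = g1 := by rw [← hfg, ← mul_assoc, hf12, one_mul]
      rw [this]; exact n1)) A1 hA1 hzA1 k1 (h ▸ k3)
  have b14 : A1 ≠ A4 := fun h => hAA f1 hf1 f2 hf2 g1 hg1 _ (mul_mem hg2 hf2) c1 c4 ⟨hf11, hf1z⟩ n1
    (Or.inl (by rw [hfg]; exact n11)) A1 hA1 hzA1 k1 (h ▸ k4)
  have b23 : A2' ≠ A3 := fun h => hAA g1 hg1 g2 hg2 _ (mul_mem hg1 hf1) g2 hg2 c2 c3 n1 n11
    (Or.inl (by rw [← mul_assoc, hg11, one_mul]; exact ⟨hf11, hf1z⟩)) A2' hA2' hzA2 k2 (h ▸ k3)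
  have b24 : A2' ≠ A4 := fun h => hAA g1 hg1 g2 hg2 g1 hg1 _ (mul_mem hg2 hf2) c2 c4 n1 n1
    (Or.inr (by rw [← mul_assoc, hg22, one_mul]; exact ⟨hf21, hf2z⟩)) A2' hA2' hzA2 k2 (h ▸ k4)
  have b34 : A3 ≠ A4 := fun h => hAA _ (mul_mem hg1 hf1) g2 hg2 g1 hg1 _ (mul_mem hg2 hf2) c3 c4 n11 n1
    (Or.inl (by
      have : g1 * f1 * g1 = f1 := by rw [mul_assoc, hfg, ← mul_assoc, hg11, one_mul]
      rw [this]; exact ⟨hf11, hf1z⟩)) A3 hA3 hzA3 k3 (h ▸ k4)
  refine no_six h5 ![⟨Y0, hY0, hz0⟩, ⟨Y2, hY2, hz2⟩, ⟨A1, hA1, hzA1⟩, ⟨A2', hA2', hzA2⟩, ⟨A3, hA3, hzA3⟩,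
    ⟨A4, hA4, hzA4⟩] ?_
  have e : ∀ i k : Fin 6, i < k → (![⟨Y0, hY0, hz0⟩, ⟨Y2, hY2, hz2⟩, ⟨A1, hA1, hzA1⟩, ⟨A2', hA2', hzA2⟩, ⟨A3, hA3, hzA3⟩,
    ⟨A4, hA4, hzA4⟩] : Fin 6 → Sig 𝒵 z) i ≠ ![⟨Y0, hY0, hz0⟩, ⟨Y2, hY2, hz2⟩, ⟨A1, hA1, hzA1⟩, ⟨A2', hA2', hzA2⟩,
    ⟨A3, hA3, hzA3⟩, ⟨A4, hA4, hzA4⟩] k := by
    intro i k hik
    fin_cases i <;> fin_cases k <;> first
      | exact absurd hik (by decide)
      | (intro h'
         have h'' := congrArg Subtype.val h'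
         simp at h''
         first
           | exact hne h''.symm
           | exact a10 h''.symm
           | exact a20 h''.symm
           | exact a30 h''.symm
           | exact a40 h''.symm
           | exact a12 h''.symm
           | exact a22 h''.symm
           | exact a32 h''.symm
           | exact a42 h''.symm
           | exact b12 h''
           | exact b13 h''
           | exact b14 h''
           | exact b23 h''
           | exact b24 h''
           | exact b34 h'')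
  intro i k hik
  rcases lt_trichotomy i k with h | h | h
  · exact absurd hik (e i k h)
  · exact h
  · exact absurd hik.symm (e k i h)

end

end Cfsg.Agent.KFacts.Ru.InvA
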