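import Cfsg.Agent.KFacts.Ru.InvA
import Cfsg.Agent.Ru127.Inst

/-!
# Involutions in the Rudvalis configuration, part 2: two classes

`LocalData D 𝒵 R`, `|Σ(z)| = 5` for all `z`, `|G|₂ = 2^14`: every involution is in `D` or in a member of `𝒵`.
-/

set_option autoImplicit false

namespace Cfsg.Agent.KFacts.Ru.InvB

open Subgroup Cfsg.Agent.Ru127.Form Cfsg.Agent.Ru127.Basic Cfsg.Agent.Ru127.NorD Cfsg.Agent.Ru127.Count
  Cfsg.Agent.Ru127.Five Cfsg.Agent.Ru127.Xi Cfsg.Agent.KFacts.Ru.InvA Cfsg.Agent.RuB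

section Form

open Cfsg.Agent.Ru127.Inst

def ckA : Bool := all256 fun j => qN j != 0 || j == 0 || inT j ||
  (List.range 8).any fun f => f != 0 && tL.all fun u => bN u j != 0 && bN u j != f

theorem ckA_true : ckA = true := by decide +kernel

/-- the singular vectors of the form `R8`: 0, the 24 vectors, 7 · 3 good vectors -/
theorem singular (w : W8) (hw : q8 w = 0) : w = 0 ∨ w ∈ R8.T ∨ ∃ f : K8, f ≠ 0 ∧ w ∈ J3 R8 f := by
  by_cases hw0 : w = 0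
  · exact Or.inl hw0
  by_cases hT : w ∈ R8.T
  · exact Or.inr (Or.inl hT)
  right; right
  have hT' : inT (code w) ≠ true := fun h => hT ((T_iff w).2 h)
  have h := all256_iff ckA_true (code_lt w)
  simp only [Bool.or_eq_true, bne_iff_ne, beq_iff_eq, List.any_eq_true, Bool.and_eq_true, List.all_eq_true] at h
  rcases h with ((h | h) | h) | ⟨f, hf, hf0, h⟩
  · exfalso; apply h; rw [← code_q, hw]; rfl
  · exact absurd (code_zero _ h) hw0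
  · exact absurd h hT'
  · rw [List.mem_range] at hf
    refine ⟨⟨⟨f, hf⟩⟩, fun h0 => hf0 (congrArg (fun t : K8 => t.val.val) h0), hw0, hw,
      fun h1 => hT ⟨hw0, h1⟩, ?_⟩
    intro u hu huT
    have h1 := h (code u) (mem_tL (code_lt u) ((T_iff u).1 huT))
    have h2 := code_b u w
    rcases hu with hu | hu
    · apply h1.1
      rw [← h2]
      show (b8 u w).val.val = 0
      have : b8 u w = 0 := hu
      rw [this]; rfl
    · apply h1.2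
      rw [← h2]
      have : b8 u w = ⟨⟨f, hf⟩⟩ := hu
      rw [this]

end Form

variable {W F : Type} [AddCommGroup W] [AddCommGroup F]
variable {G : Type*} [Group G]
variable {D : Set G} {R : RuForm W F} {𝒵 : Set (Subgroup G)}

/-- `|Σ|` is a class function -/
theorem card_sig_conj (hZ : ∀ Y ∈ 𝒵, ∀ g, cj g Y ∈ 𝒵) (g z : G) :
    Nat.card (Sig 𝒵 (g * z * g⁻¹)) = Nat.card (Sig 𝒵 z) := by
  symm
  refine Nat.card_congr
    { toFun := fun Y => ⟨cj g Y.1, hZ _ Y.2.1 g, by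
        rw [mem_cj]
        have : g⁻¹ * (g * z * g⁻¹) * g = z := by group
        rw [this]; exact Y.2.2⟩
      invFun := fun Y => ⟨cj g⁻¹ Y.1, hZ _ Y.2.1 _, by
        rw [mem_cj, inv_inv]; exact Y.2.2⟩
      left_inv := fun Y => Subtype.ext (cj_inv_cj g Y.1)
      right_inv := fun Y => Subtype.ext (cj_cj_inv g Y.1) }

/-- all pairs `z ∈ Y` are conjugate -/
theorem exists_conj (L : LocalData D 𝒵 R) {Y Y' : Subgroup G} (hY : Y ∈ 𝒵) (hY' : Y' ∈ 𝒵) {z z' : G} (hz : z ∈ Y)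
    (hz1 : z ≠ 1) (hz' : z' ∈ Y') (hz1' : z' ≠ 1) : ∃ g, cj g Y = Y' ∧ g * z * g⁻¹ = z' := by
  obtain ⟨g, hg⟩ := L.Z_trans Y hY Y' hY'
  have h1 : g * z * g⁻¹ ∈ Y' := by
    rw [← hg, mem_cj]
    have : g⁻¹ * (g * z * g⁻¹) * g = z := by group
    rwa [this]
  have h2 : g * z * g⁻¹ ≠ 1 := by
    intro h
    apply hz1
    calc z = g⁻¹ * (g * z * g⁻¹) * g := by group
      _ = 1 := by rw [h]; group
  obtain ⟨n, hn, hnz⟩ := L.norm_trans Y' hY' _ h1 _ hz' h2 hz1'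
  refine ⟨n * g, ?_, ?_⟩
  · rw [cj_mul, hg]; exact hn
  · rw [← hnz]; group

theorem card_sig_all (L : LocalData D 𝒵 R) {Y : Subgroup G} (hY : Y ∈ 𝒵) {z : G} (hz : z ∈ Y) (hz1 : z ≠ 1)
    (h5 : Nat.card (Sig 𝒵 z) = 5) {Y' : Subgroup G} (hY' : Y' ∈ 𝒵) {z' : G} (hz' : z' ∈ Y') (hz1' : z' ≠ 1) :
    Nat.card (Sig 𝒵 z') = 5 := by
  obtain ⟨g, -, hg⟩ := exists_conj L hY hY' hz hz1 hz' hz1'
  rw [← hg, card_sig_conj L.Z_conj, h5]

section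
variable (L : LocalData D 𝒵 R) [Finite G]
include L

/-- an involution of `C(Y)` -/
theorem invol_cent (hR : ∀ w : W, R.q w = 0 → w = 0 ∨ w ∈ R.T ∨ ∃ f : F, f ≠ 0 ∧ w ∈ J3 R f)
    (h5 : ∀ Y ∈ 𝒵, ∀ z ∈ Y, z ≠ 1 → Nat.card (Sig 𝒵 z) = 5) {Y : Subgroup G} (hY : Y ∈ 𝒵) {x : G}
    (hx : x ∈ centralizer (Y : Set G)) (hxx : x * x = 1) : x ∈ D ∨ ∃ Y' ∈ 𝒵, x ∈ Y' := by
  obtain ⟨π, ζ, c⟩ := L.coord Y hY
  rcases hR _ (q_of_sq c hx hxx) with h | h | ⟨f, hf, h⟩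
  · exact Or.inr ⟨Y, hY, (c.π_ker x hx).1 h⟩
  · exact Or.inl ((c.D_iff x hx).2 h)
  · have h1 : ζ f ≠ 1 := fun h => hf (ζ_inj_zero c h)
    obtain ⟨b, hb, -, -, hxb⟩ := exists_of_J3 L h1 (h5 Y hY _ (ζ_mem c f) h1) hY (ζ_mem c f) c rfl hx h
    exact Or.inr ⟨b, hb, hxb⟩

/-- an involution normalising `Y` -/
theorem invol_nor (hR : ∀ w : W, R.q w = 0 → w = 0 ∨ w ∈ R.T ∨ ∃ f : F, f ≠ 0 ∧ w ∈ J3 R f)
    (h5 : ∀ Y ∈ 𝒵, ∀ z ∈ Y, z ≠ 1 → Nat.card (Sig 𝒵 z) = 5) {Y : Subgroup G} (hY : Y ∈ 𝒵) {x : G}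
    (hx : x ∈ nor Y) (hxx : x * x = 1) : x ∈ D ∨ ∃ Y' ∈ 𝒵, x ∈ Y' := by
  by_cases hxY : x ∈ centralizer (Y : Set G)
  · exact invol_cent L hR h5 hY hxY hxx
  · obtain ⟨z, hz, hz1, hxz, htr, hex⟩ := transvection L hY hx hxx hxY
    obtain ⟨Y', hY', h⟩ := exists_cent L hz1 (h5 Y hY z hz hz1) hY hz hxx hxz htr hex
    exact invol_cent L hR h5 hY' h hxx

/-- **every involution is in `D` or in a member of `𝒵`** -/
theorem invol (hR : ∀ w : W, R.q w = 0 → w = 0 ∨ w ∈ R.T ∨ ∃ f : F, f ≠ 0 ∧ w ∈ J3 R f)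
    (h5 : ∀ Y ∈ 𝒵, ∀ z ∈ Y, z ≠ 1 → Nat.card (Sig 𝒵 z) = 5) (h2 : ¬ 2 ^ 15 ∣ Nat.card G) {Y : Subgroup G}
    (hY : Y ∈ 𝒵) {x : G} (hxx : x * x = 1) : x ∈ D ∨ ∃ Y' ∈ 𝒵, x ∈ Y' := by
  have : Fact (Nat.Prime 2) := ⟨Nat.prime_two⟩
  have hidx : ¬ 2 ∣ (nor Y).index := by
    rintro ⟨m, hm⟩
    apply h2
    have h3 := (nor Y).index_mul_card
    rw [hm, L.norm_card Y hY] at h3
    exact ⟨m * 21, by rw [← h3]; ring⟩
  have hp : IsPGroup 2 ↥(zpowers x) := Cfsg.Agent.Ru127.Total.isPGroup_zpowers_of_sq hxx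
  obtain ⟨q, hq⟩ := hp.nonempty_fixed_point_of_prime_not_dvd_card (G ⧸ nor Y) hidx
  obtain ⟨g, rfl⟩ := QuotientGroup.mk_surjective q
  have h1 : (⟨x, mem_zpowers x⟩ : zpowers x) • (g : G ⧸ nor Y) = g := hq _
  have h3 : ((x * g : G) : G ⧸ nor Y) = g := h1
  rw [eq_comm, QuotientGroup.eq, ← mul_assoc] at h3
  have h4 : (g⁻¹ * x * g) * (g⁻¹ * x * g) = 1 := by
    calc (g⁻¹ * x * g) * (g⁻¹ * x * g) = g⁻¹ * (x * x) * g := by group
      _ = 1 := by rw [hxx]; group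
  have h6 : g * (g⁻¹ * x * g) * g⁻¹ = x := by group
  rcases invol_nor L hR h5 hY h3 h4 with h | ⟨Y', hY', h⟩
  · left
    have := L.D_conj _ h g
    rwa [h6] at this
  · right
    refine ⟨cj g Y', L.Z_conj _ hY' g, ?_⟩
    rwa [mem_cj]

end

end Cfsg.Agent.KFacts.Ru.InvB
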