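import Cfsg.Agent.KFacts.Ru.InvB
import Cfsg.Agent.RuB.Final2

/-!
# Involutions in a group with `RuB.Core`, part 3

`exists_sylow` : a Sylow 2-subgroup `P` of order `2^14`, `Z(P) = {1, z}`;
`not_dvd` : `|G|₂ = 2^14`;
`invol_cases` : every involution is conjugate to `z = C.z 1` or to some `C.v a`, `a ≠ 0`.
-/

set_option autoImplicit false

namespace Cfsg.Agent.KFacts.Ru.InvC

open Cfsg.Agent.RuB Cfsg.Agent.RuB.Core Cfsg.Agent.RuB.Count Cfsg.Agent.RuB.NormQ
open Cfsg.Agent.RuB.NormZ Cfsg.Agent.Ru127.Sg Subgroup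
open Cfsg.Agent.Ru127.Form (nor mem_nor)
open Cfsg.Agent.Ru127.FixD (DV)

variable {G : Type*} [Group G] [Finite G]

/-- a Sylow 2-subgroup -/
theorem exists_sylow (C : Core G) : ∃ P : Sylow 2 G, Nat.card P = 2 ^ 14 ∧ (∀ x ∈ P, x * C.z 1 = C.z 1 * x) ∧
    (∀ x ∈ C.QQ, x ∈ P) ∧ (∀ x ∈ P, x ∈ nor (Zs C)) ∧
    ∀ a, (∀ x ∈ P, x * a = a * x) → a = 1 ∨ a = C.z 1 := by
  have : Fact (Nat.Prime 2) := ⟨Nat.prime_two⟩
  obtain ⟨K, hν, hμ, L, hcz⟩ := exists_localData C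
  have hz1 : C.z 1 ≠ 1 := fun h => one_ne_zero (C.z_eq_one h)
  let X0 : Subgroup G := nor (Zs C) ⊓ centralizer {C.z 1}
  have hX0 : Nat.card X0 = 2 ^ 14 * 3 := Cfsg.Agent.Ru127.Count.card_nor_cent L hz1 Local.Zs_mem_ZZ (z_mem_Zs 1)
  have hQX : C.QQ ≤ X0 := by
    intro x hx
    exact ⟨mem_nor_of_ind (r := id) (ind_one_iff.2 (fun b => zcomm hx b)),
      mem_centralizer_singleton_iff.2 (zcomm hx 1)⟩
  have hQp : IsPGroup 2 (C.QQ.subgroupOf X0) := by
    apply IsPGroup.of_card (n := 11)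
    rw [Nat.card_congr (subgroupOfEquivOfLe hQX).toEquiv, card_QQ K]
  obtain ⟨P0, hP0⟩ := hQp.exists_le_sylow
  let S : Subgroup G := (P0 : Subgroup X0).map X0.subtype
  have hScard : Nat.card S = 2 ^ 14 := by
    have h1 : Nat.card S = Nat.card P0 :=
      (Nat.card_congr ((P0 : Subgroup X0).equivMapOfInjective X0.subtype (subtype_injective _)).toEquiv).symm
    rw [h1, P0.card_eq_multiplicity, hX0]
    have h2 : (2 ^ 14 * 3).factorization 2 = 14 := by
      rw [Nat.factorization_mul (by norm_num) (by norm_num), Nat.Prime.factorization_pow Nat.prime_two]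
      simp only [Finsupp.coe_add, Pi.add_apply, Finsupp.single_eq_same]
      rw [Nat.factorization_eq_zero_of_not_dvd (by norm_num)]
    rw [h2]
  have hSX : S ≤ X0 := map_subtype_le _
  have hQS : C.QQ ≤ S := by
    intro x hx
    exact ⟨⟨x, hQX hx⟩, hP0 (mem_subgroupOf.2 hx), rfl⟩
  have hSz : ∀ x ∈ S, x * C.z 1 = C.z 1 * x := fun x hx => mem_centralizer_singleton_iff.1 (hSX hx).2
  -- its centre
  have hcen : ∀ a, (∀ x ∈ S, x * a = a * x) → a = 1 ∨ a = C.z 1 := by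
    intro a ha
    have huQ : a ∈ C.QQ := hcz _ (fun b => (ha _ (hQS (z_mem_QQ b))).symm)
    obtain ⟨e, he⟩ := eq_z_of_central huQ (fun y hy => (ha y (hQS hy)).symm)
    by_cases he0 : e = 0
    · left
      rw [he, he0, C.z_zero]
    by_cases he1 : e = 1
    · right
      rw [he, he1]
    · exfalso
      have h3 := Final2.card_le K hcz (S := S) (fun x hx => (hSX hx).1) hSz he0 he1 (by
        intro x hx
        rw [← he]
        exact ha x hx)
      rw [hScard] at h3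
      norm_num at h3
  -- its normaliser
  have hNS : normalizer (S : Set G) ≤ centralizer {C.z 1} := by
    intro g hg
    have hu : ∀ x ∈ S, x * (g * C.z 1 * g⁻¹) = (g * C.z 1 * g⁻¹) * x := by
      intro x hx
      have h1 : g⁻¹ * x * g ∈ S := by
        have := (mem_normalizer_iff.1 (inv_mem hg) x).1 hx
        rwa [inv_inv] at this
      have h2 := hSz _ h1
      calc x * (g * C.z 1 * g⁻¹) = g * ((g⁻¹ * x * g) * C.z 1) * g⁻¹ := by group
        _ = g * (C.z 1 * (g⁻¹ * x * g)) * g⁻¹ := by rw [h2]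
        _ = _ := by group
    rcases hcen _ hu with he | he
    · exfalso
      apply hz1
      calc C.z 1 = g⁻¹ * (g * C.z 1 * g⁻¹) * g := by group
        _ = 1 := by rw [he]; group
    · rw [mem_centralizer_singleton_iff]
      exact mul_inv_eq_iff_eq_mul.1 he
  -- Sylow in `G`
  have hSp : IsPGroup 2 S := IsPGroup.of_card hScard
  obtain ⟨P, hP⟩ := hSp.exists_le_sylow
  have hPS : (P : Subgroup G) = S := by
    refine Cfsg.Agent.Blocks.SylowIn.eq_of_normalizer_inf_le P.2 hP ?_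
    have h1 : IsPGroup 2 (normalizer (S : Set G) ⊓ P : Subgroup G) := P.2.to_le inf_le_right
    obtain ⟨n, hn⟩ := IsPGroup.iff_card.1 h1
    have h2 : Nat.card (normalizer (S : Set G) ⊓ P : Subgroup G) ∣ 2 ^ 14 * 15 := by
      have h3 := card_dvd_of_le (inf_le_left.trans hNS : (normalizer (S : Set G) ⊓ P : Subgroup G) ≤ _)
      rw [card_cent C] at h3
      exact h3
    have h3 : 2 ^ n ∣ 2 ^ 14 := by
      rw [hn] at h2
      exact (Nat.Coprime.pow_left n (by norm_num : Nat.Coprime 2 15)).dvd_of_dvd_mul_right h2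
    have h4 : S ≤ (normalizer (S : Set G) ⊓ P : Subgroup G) := le_inf le_normalizer hP
    have h5 : S = (normalizer (S : Set G) ⊓ P : Subgroup G) := by
      apply eq_of_le_of_card_ge h4
      rw [hn, hScard]
      exact Nat.le_of_dvd (by norm_num) h3
    exact h5.symm.le
  have hm : ∀ x, x ∈ P ↔ x ∈ S := by
    intro x
    rw [← hPS]
    rfl
  refine ⟨P, ?_, fun x hx => hSz x ((hm x).1 hx), fun x hx => (hm x).2 (hQS hx), fun x hx => (hSX ((hm x).1 hx)).1,
    fun a ha => hcen a (fun x hx => ha x ((hm x).2 hx))⟩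
  rw [← hScard, ← hPS]

/-- `|G|₂ = 2^14` -/
theorem not_dvd (C : Core G) : ¬ 2 ^ 15 ∣ Nat.card G := by
  have : Fact (Nat.Prime 2) := ⟨Nat.prime_two⟩
  obtain ⟨P, hP, -⟩ := exists_sylow C
  intro h
  have h1 := P.pow_dvd_card_of_pow_dvd_card h
  rw [hP] at h1
  norm_num at h1

/-- `|Σ(z)| = 5` -/
theorem card_sig (C : Core G) : ∀ Y ∈ Local.ZZ C, ∀ z ∈ Y, z ≠ 1 →
    Nat.card (Cfsg.Agent.Ru127.Count.Sig (Local.ZZ C) z) = 5 := by
  obtain ⟨K, hν, hμ, L, hcz⟩ := exists_localData C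
  have hz1 : C.z 1 ≠ 1 := fun h => one_ne_zero (C.z_eq_one h)
  intro Y hY z hz hz1'
  exact InvB.card_sig_all L Local.Zs_mem_ZZ (z_mem_Zs 1) hz1
    (Cfsg.Agent.Ru127.CardD.card_sig_eq L Local.Zs_mem_ZZ hcz) hY hz hz1'

/-- the involutions of the members of `𝒵` are conjugate to `z` -/
theorem zc_of_mem (C : Core G) {Y : Subgroup G} (hY : Y ∈ Local.ZZ C) {x : G} (hx : x ∈ Y) (hx1 : x ≠ 1) : ZC C x := by
  obtain ⟨K, hν, hμ, L, hcz⟩ := exists_localData C
  have hz1 : C.z 1 ≠ 1 := fun h => one_ne_zero (C.z_eq_one h)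
  obtain ⟨g, -, hg⟩ := InvB.exists_conj L Local.Zs_mem_ZZ hY (z_mem_Zs 1) hz1 hx hx1
  exact ⟨g, hg⟩

/-- **the involutions of a group with `Core`: two classes** -/
theorem invol_cases (C : Core G) {x : G} (hxx : x * x = 1) (hx1 : x ≠ 1) :
    (∃ g, g * C.z 1 * g⁻¹ = x) ∨ ∃ g a, a ≠ 0 ∧ g * C.v a * g⁻¹ = x := by
  obtain ⟨K, hν, hμ, L, hcz⟩ := exists_localData C
  rcases InvB.invol L InvB.singular (card_sig C) (not_dvd C) Local.Zs_mem_ZZ hxx with h | ⟨Y, hY, h⟩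
  · exact Or.inr h
  · exact Or.inl (zc_of_mem C hY h hx1)

/-- the same with a fixed `a` -/
theorem invol_cases' (C : Core G) {a : A4} (ha : a ≠ 0) {x : G} (hxx : x * x = 1) (hx1 : x ≠ 1) :
    (∃ g, g * C.z 1 * g⁻¹ = x) ∨ ∃ g, g * C.v a * g⁻¹ = x := by
  obtain ⟨K, hν, hμ, L, hcz⟩ := exists_localData C
  rcases InvB.invol L InvB.singular (card_sig C) (not_dvd C) Local.Zs_mem_ZZ hxx with h | ⟨Y, hY, h⟩
  · exact Or.inr (Cfsg.Agent.Ru127.CardD.DV_single L Local.Zs_mem_ZZ ha h)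
  · exact Or.inl (zc_of_mem C hY h hx1)

end Cfsg.Agent.KFacts.Ru.InvC
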