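import Cfsg.Agent.RuD.HBound
import Cfsg.Agent.RuRed.RelW
import Cfsg.Agent.RuRed.CtxSz
import Cfsg.Agent.RuE.Letters
import Cfsg.Agent.RuB.Count

/-!
# `⟨s, w, f⟩ ≅ Sz(8)` from the eight relations and the order

`Rel8 s w f`: the relations of `RuRels` between `s, w, f`. The group `⟨s, w, f⟩` has order at most `29120`; if the order
is `29120` there is a parametrisation `R : SzRel.Rel ⟨s, w, f⟩ K8` with `R.u 1 1 = s`, `R.w = w`, `R.d k0 = f` and `RelW R`.
-/

set_option autoImplicit false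
set_option maxRecDepth 100000

namespace Cfsg.Agent.KFacts.Ru.SzL

open Subgroup Cfsg.Agent.SporRec.TCUpperCert Cfsg.Agent.RuD Cfsg.Agent.RuB Cfsg.Agent.ThreePrime
open Cfsg.Agent.RuE.Letters (k0 k0_val k0_pow7)

variable {G : Type*} [Group G] {t s w f d y : G}

/-- the eight relations between `s, w, f` -/
structure Rel8 (s w f : G) : Prop where
  s4 : s * s * s * s = 1
  w2 : w * w = 1
  f7 : f * f * f * f * f * f * f = 1
  wf : w * f * w * f = 1
  ws : s⁻¹ * s⁻¹ * w * s * w * s⁻¹ * w = 1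
  h1 : f⁻¹ * f⁻¹ * f⁻¹ * s⁻¹ * f * f * s⁻¹ * f * s⁻¹ = 1
  h2 : f⁻¹ * s⁻¹ * s⁻¹ * f * s⁻¹ * f⁻¹ * s⁻¹ * s⁻¹ * f * s = 1
  h3 : f⁻¹ * s⁻¹ * f * s⁻¹ * s⁻¹ * f⁻¹ * s * f * s⁻¹ * s⁻¹ = 1

theorem rel8_of (h : Rels.RuRels t s w f d y) : Rel8 s w f :=
  ⟨h.s4, h.w2, h.f7, h.wf, h.ws, h.h1, h.h2, h.h3⟩

theorem index_B (h : Rel8 s w f) :
    (zpowers f).relIndex (closure {s, f}) ≤ 64 ∧ (zpowers f).relIndex (closure {s, f}) ≠ 0 := by
  obtain ⟨h0, h1, h2, h3, h4, h5, h6, h7⟩ := h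
  refine relIndex_le_of_valid [s, s⁻¹, f, f⁻¹] TCB.inv TCB.lab TCB.fxl TCB.rels TCB.valid TCB.tt_ok ?_ ?_ _ ?_ _ ?_
  · intro a ha
    change a < 4 at ha
    interval_cases a
    · exact mul_inv_cancel s
    · exact inv_mul_cancel s
    · exact mul_inv_cancel f
    · exact inv_mul_cancel f
  · simp only [TCB.rels, List.forall_mem_cons, List.not_mem_nil, false_imp_iff, implies_true, and_true, wprod, lv,
      List.map_cons, List.map_nil, List.prod_cons, List.prod_nil, mul_one, List.getD_cons_zero, List.getD_cons_succ]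
    simp only [mul_assoc] at *
    exact ⟨h0, h2, h5, h6, h7⟩
  · intro a ha
    simp only [TCB.fxl, List.mem_cons, List.not_mem_nil, or_false] at ha
    subst ha
    exact mem_zpowers f
  · intro x hx
    rcases hx with rfl | rfl
    · exact ⟨0, by norm_num, rfl⟩
    · exact ⟨2, by norm_num, rfl⟩

theorem index_L (h : Rel8 s w f) :
    (closure {s, f}).relIndex (closure {s, w, f}) ≤ 65 ∧ (closure {s, f}).relIndex (closure {s, w, f}) ≠ 0 := by
  obtain ⟨h0, h1, h2, h3, h4, h5, h6, h7⟩ := h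
  refine relIndex_le_of_valid [s, s⁻¹, w, f, f⁻¹] TCL.inv TCL.lab TCL.fxl TCL.rels TCL.valid TCL.tt_ok ?_ ?_ _ ?_ _ ?_
  · intro a ha
    change a < 5 at ha
    interval_cases a
    · exact mul_inv_cancel s
    · exact inv_mul_cancel s
    · exact h1
    · exact mul_inv_cancel f
    · exact inv_mul_cancel f
  · simp only [TCL.rels, List.forall_mem_cons, List.not_mem_nil, false_imp_iff, implies_true, and_true, wprod, lv,
      List.map_cons, List.map_nil, List.prod_cons, List.prod_nil, mul_one, List.getD_cons_zero, List.getD_cons_succ]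
    simp only [mul_assoc] at *
    exact ⟨h0, h1, h2, h3, h4, h5, h6, h7⟩
  · intro a ha
    simp only [TCL.fxl, List.mem_cons, List.not_mem_nil, or_false] at ha
    rcases ha with rfl | rfl
    · exact subset_closure (by simp [lv])
    · exact subset_closure (by simp [lv])
  · intro x hx
    rcases hx with rfl | rfl | rfl
    · exact ⟨0, by norm_num, rfl⟩
    · exact ⟨2, by norm_num, rfl⟩
    · exact ⟨3, by norm_num, rfl⟩

theorem card_f (h : Rel8 s w f) : Nat.card (zpowers f) ≤ 7 ∧ Nat.card (zpowers f) ≠ 0 := by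
  have h7 : f ^ 7 = 1 := by
    rw [← h.f7]; simp only [pow_succ, pow_zero, one_mul]
  have hd : orderOf f ∣ 7 := orderOf_dvd_of_pow_eq_one h7
  rw [Nat.card_zpowers]
  refine ⟨Nat.le_of_dvd (by norm_num) hd, fun h0 => ?_⟩
  rw [h0] at hd
  omega

/-- the bound -/
theorem card_le (h : Rel8 s w f) :
    Nat.card (closure ({s, w, f} : Set G)) ≤ 29120 ∧ Nat.card (closure ({s, w, f} : Set G)) ≠ 0 := by
  have hB := index_B h
  have hL := index_L h
  have hf := card_f h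
  have l1 : zpowers f ≤ closure {s, f} := by
    rw [zpowers_le]; exact subset_closure (by simp)
  have l2 : closure {s, f} ≤ closure {s, w, f} := closure_mono (by
    intro x hx; rcases hx with rfl | rfl <;> simp)
  have e1 := relIndex_mul_relIndex _ _ _ (bot_le : ⊥ ≤ zpowers f) l1
  have e2 := relIndex_mul_relIndex _ _ _ (bot_le : ⊥ ≤ closure {s, f}) l2
  rw [relIndex_bot_left, relIndex_bot_left] at e1 e2
  rw [← e2, ← e1]
  constructor
  · calc _ ≤ 7 * 64 * 65 := Nat.mul_le_mul (Nat.mul_le_mul hf.1 hB.1) hL.1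
      _ = 29120 := by norm_num
  · exact mul_ne_zero (mul_ne_zero hf.2 hB.2) hL.2

/-! ### the letters in `Sz(8)` -/

section sz

variable {J : Type*} [Group J] (R : SzRel.Rel J K8)

theorem umul (a b c e : K8) : R.u a b * R.u c e = R.u (a + c) (b + e + a * c ^ 4) := by
  have h := R.u_mul a b c e
  rw [K8.theta_eq R.θ R.sq] at h
  exact h

theorem dconj (k : K8ˣ) (a b : K8) : R.d k * R.u a b * (R.d k)⁻¹ = R.u (a * (k : K8) ^ 5) (b * (k : K8) ^ 4) := by
  have h : ∀ x : K8, x ≠ 0 → x ^ 2 * (x ^ 4)⁻¹ = x ^ 5 := by decide +kernel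
  rw [mul_inv_eq_iff_eq_mul, R.d_mul_u, K8.theta_eq R.θ R.sq, mul_assoc, h _ k.ne_zero]

theorem uinv : (R.u 1 1)⁻¹ = R.u 1 0 := by
  rw [inv_eq_iff_mul_eq_one, umul, ← R.u_zero]
  congr 1 <;> decide +kernel

theorem u_f (a b : K8) : R.u a b * R.d k0 = R.d k0 * R.u (K8.al * a) (K8.al ^ 5 * b) := by
  have h := dconj R k0 (K8.al * a) (K8.al ^ 5 * b)
  rw [mul_inv_eq_iff_eq_mul, k0_val] at h
  rw [h]
  have h1 : ∀ a : K8, K8.al * a * (K8.al ^ 4) ^ 5 = a := by decide +kernel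
  have h2 : ∀ a : K8, K8.al ^ 5 * a * (K8.al ^ 4) ^ 4 = a := by decide +kernel
  rw [h1, h2]

theorem f_u (a b : K8) : (R.d k0)⁻¹ * R.u a b * R.d k0 = R.u (K8.al * a) (K8.al ^ 5 * b) := by
  rw [mul_assoc, u_f, inv_mul_cancel_left]

theorem u_eq_one {a b : K8} (ha : a = 0) (hb : b = 0) : R.u a b = 1 := by
  rw [ha, hb, R.u_zero]

theorem dmul7 : R.d k0 * R.d k0 * R.d k0 * R.d k0 * R.d k0 * R.d k0 * R.d k0 = 1 := by
  have h : k0 * k0 * k0 * k0 * k0 * k0 * k0 = 1 := by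
    rw [← k0_pow7, pow_succ, pow_succ, pow_succ, pow_succ, pow_succ, pow_succ, pow_one]
  rw [R.d_mul, R.d_mul, R.d_mul, R.d_mul, R.d_mul, R.d_mul, h]
  exact R.d_one

theorem sq1 : R.u 1 0 * R.u 1 0 = R.u 0 1 := by
  rw [umul]
  congr 1 <;> decide +kernel

theorem sq2 : R.u 1 1 * R.u 1 1 = R.u 0 1 := by
  rw [umul]
  congr 1 <;> decide +kernel

theorem zsq : R.u 0 1 * R.u 0 1 = 1 := by
  rw [umul]
  exact u_eq_one R (by decide +kernel) (by decide +kernel)

/-- the relations hold in `Sz(8)` -/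
theorem rel8 (hw : RuRed.RelW R) : Rel8 (R.u 1 1) R.w (R.d k0) where
  s4 := by
    rw [sq2, mul_assoc, sq2, zsq]
  w2 := R.w_mul_w
  f7 := dmul7 R
  wf := by
    have h := R.w_mul_d k0
    rw [← R.d_inv] at h
    rw [h]
    calc (R.d k0)⁻¹ * R.w * R.w * R.d k0 = (R.d k0)⁻¹ * (R.w * R.w) * R.d k0 := by group
      _ = 1 := by rw [R.w_mul_w]; group
  ws := by
    have h1 : R.w * (R.u 1 0)⁻¹ * R.w * R.u 1 0 = R.u 0 1 * R.w := hw
    rw [← uinv, inv_inv] at h1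
    calc (R.u 1 1)⁻¹ * (R.u 1 1)⁻¹ * R.w * R.u 1 1 * R.w * (R.u 1 1)⁻¹ * R.w
        = ((R.u 1 1)⁻¹ * (R.u 1 1)⁻¹) * (R.w * R.u 1 1 * R.w * (R.u 1 1)⁻¹) * R.w := by group
      _ = (R.u 0 1 * R.u 0 1) * (R.w * R.w) := by rw [h1, uinv, sq1]; group
      _ = 1 := by rw [zsq, R.w_mul_w, one_mul]
  h1 := by
    rw [uinv]
    have h1 : R.u 1 0 * R.d k0 = R.d k0 * R.u (K8.al * 1) (K8.al ^ 5 * 0) := u_f R _ _
    calc (R.d k0)⁻¹ * (R.d k0)⁻¹ * (R.d k0)⁻¹ * R.u 1 0 * R.d k0 * R.d k0 * R.u 1 0 * R.d k0 * R.u 1 0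
        = (R.d k0)⁻¹ * (R.d k0)⁻¹ * (R.d k0)⁻¹ * (R.u 1 0 * R.d k0) * R.d k0 * (R.u 1 0 * R.d k0) * R.u 1 0 := by group
      _ = (R.d k0)⁻¹ * (R.d k0)⁻¹ * (R.u (K8.al * 1) (K8.al ^ 5 * 0) * R.d k0) * R.d k0 *
          R.u (K8.al * 1) (K8.al ^ 5 * 0) * R.u 1 0 := by
          rw [h1]; group
      _ = (R.d k0)⁻¹ * (R.u (K8.al * (K8.al * 1)) (K8.al ^ 5 * (K8.al ^ 5 * 0)) * R.d k0) *
          R.u (K8.al * 1) (K8.al ^ 5 * 0) * R.u 1 0 := by rw [u_f]; group
      _ = R.u (K8.al * (K8.al * (K8.al * 1))) (K8.al ^ 5 * (K8.al ^ 5 * (K8.al ^ 5 * 0))) *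
          R.u (K8.al * 1) (K8.al ^ 5 * 0) * R.u 1 0 := by rw [u_f]; group
      _ = 1 := by
          rw [umul, umul]
          exact u_eq_one R (by decide +kernel) (by decide +kernel)
  h2 := by
    rw [uinv]
    calc (R.d k0)⁻¹ * R.u 1 0 * R.u 1 0 * R.d k0 * R.u 1 0 * (R.d k0)⁻¹ * R.u 1 0 * R.u 1 0 * R.d k0 * R.u 1 1
        = ((R.d k0)⁻¹ * (R.u 1 0 * R.u 1 0) * R.d k0) * R.u 1 0 * ((R.d k0)⁻¹ * (R.u 1 0 * R.u 1 0) * R.d k0) *
          R.u 1 1 := by group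
      _ = 1 := by
          rw [umul, f_u, umul, umul, umul]
          exact u_eq_one R (by decide +kernel) (by decide +kernel)
  h3 := by
    rw [uinv]
    calc (R.d k0)⁻¹ * R.u 1 0 * R.d k0 * R.u 1 0 * R.u 1 0 * (R.d k0)⁻¹ * R.u 1 1 * R.d k0 * R.u 1 0 * R.u 1 0
        = ((R.d k0)⁻¹ * R.u 1 0 * R.d k0) * R.u 1 0 * R.u 1 0 * ((R.d k0)⁻¹ * R.u 1 1 * R.d k0) * R.u 1 0 *
          R.u 1 0 := by group
      _ = 1 := by
          rw [f_u, f_u, umul, umul, umul, umul, umul]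
          exact u_eq_one R (by decide +kernel) (by decide +kernel)

theorem k0_gen : ∀ x : K8, x ≠ 0 → ∃ n : Fin 7, (K8.al ^ 4) ^ (n : ℕ) = x := by decide +kernel

theorem d_pow (k : K8ˣ) (n : ℕ) : R.d k ^ n = R.d (k ^ n) := by
  induction n with
  | zero => rw [pow_zero, pow_zero, R.d_one]
  | succ n ih => rw [pow_succ, ih, R.d_mul, pow_succ]

theorem d_mem (k : K8ˣ) : R.d k ∈ closure ({R.u 1 1, R.w, R.d k0} : Set J) := by
  obtain ⟨n, hn⟩ := k0_gen (k : K8) k.ne_zero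
  have h : k = k0 ^ (n : ℕ) := by
    apply Units.ext
    rw [Units.val_pow_eq_pow_val, k0_val, hn]
  rw [h, ← d_pow]
  exact pow_mem (subset_closure (by simp)) _

theorem z_mem (b : K8) : R.u 0 b ∈ closure ({R.u 1 1, R.w, R.d k0} : Set J) := by
  by_cases hb : b = 0
  · rw [hb, R.u_zero]; exact one_mem _
  · have hs : R.u 0 1 ∈ closure ({R.u 1 1, R.w, R.d k0} : Set J) := by
      rw [← sq2]
      exact mul_mem (subset_closure (by simp)) (subset_closure (by simp))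
    have h2 : b ^ 2 ≠ 0 := pow_ne_zero _ hb
    have h := mul_mem (mul_mem (d_mem R (Units.mk0 (b ^ 2) h2)) hs) (inv_mem (d_mem R (Units.mk0 (b ^ 2) h2)))
    rw [dconj, Units.val_mk0] at h
    have e1 : ∀ b : K8, (0 : K8) * (b ^ 2) ^ 5 = 0 := by decide +kernel
    have e2 : ∀ b : K8, b ≠ 0 → (1 : K8) * (b ^ 2) ^ 4 = b := by decide +kernel
    rw [e1, e2 b hb] at h
    exact h

theorem u_mem (a b : K8) : R.u a b ∈ closure ({R.u 1 1, R.w, R.d k0} : Set J) := by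
  by_cases ha : a = 0
  · rw [ha]; exact z_mem R b
  · have h2 : a ^ 3 ≠ 0 := pow_ne_zero _ ha
    have hs : R.u 1 1 ∈ closure ({R.u 1 1, R.w, R.d k0} : Set J) := subset_closure (by simp)
    have h := mul_mem (mul_mem (d_mem R (Units.mk0 (a ^ 3) h2)) hs) (inv_mem (d_mem R (Units.mk0 (a ^ 3) h2)))
    rw [dconj, Units.val_mk0] at h
    have e1 : ∀ b : K8, b ≠ 0 → (1 : K8) * (b ^ 3) ^ 5 = b := by decide +kernel
    rw [e1 a ha] at h
    have h3 := mul_mem h (z_mem R (1 * (a ^ 3) ^ 4 + b))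
    rw [umul] at h3
    have e3 : ∀ a b : K8, 1 * (a ^ 3) ^ 4 + (1 * (a ^ 3) ^ 4 + b) + a * 0 ^ 4 = b := by decide +kernel
    rw [e3, add_zero] at h3
    exact h3

theorem closure_eq_top : closure ({R.u 1 1, R.w, R.d k0} : Set J) = ⊤ := by
  rw [eq_top_iff]
  intro g _
  have hw : R.w ∈ closure ({R.u 1 1, R.w, R.d k0} : Set J) := subset_closure (by simp)
  rcases R.bruhat g with ⟨a, b, k, h⟩ | ⟨a, b, c, e, k, h⟩
  · rw [h]
    exact mul_mem (u_mem R a b) (d_mem R k)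
  · rw [h]
    exact mul_mem (mul_mem (u_mem R a b) hw) (mul_mem (u_mem R c e) (d_mem R k))

end sz

/-! ### the isomorphism -/

/-- a closed group of pairs that is not larger than the two projections is the graph of an isomorphism -/
theorem exists_iso {G J : Type*} [Group G] [Group J] (A : Set (G × J)) (n : ℕ) (hJ : Nat.card J = n)
    (hG : Nat.card (closure (Prod.fst '' A)) = n) (hm : closure (Prod.snd '' A) = ⊤)
    (hfin : Nat.card (closure A) ≠ 0) (hcard : Nat.card (closure A) ≤ n) :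
    ∃ φ : closure (Prod.fst '' A) ≃* J, ∀ (x : G × J) (hx : x ∈ A),
      φ ⟨x.1, subset_closure ⟨x, hx, rfl⟩⟩ = x.2 := by
  set K : Subgroup (G × J) := closure A with hK
  have hKf : Finite K := Nat.finite_of_card_ne_zero hfin
  let p2 : K →* J := (MonoidHom.snd G J).comp K.subtype
  let p1 : K →* G := (MonoidHom.fst G J).comp K.subtype
  have hr2 : p2.range = ⊤ := by
    rw [MonoidHom.range_comp, Subgroup.range_subtype, hK, MonoidHom.map_closure, ← hm]
    rfl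
  have hr1 : p1.range = closure (Prod.fst '' A) := by
    rw [MonoidHom.range_comp, Subgroup.range_subtype, hK, MonoidHom.map_closure]
    rfl
  have hs2 : Function.Surjective p2 := MonoidHom.range_eq_top.1 hr2
  have hb2 : Function.Bijective p2 := by
    rw [Nat.bijective_iff_surjective_and_card]
    exact ⟨hs2, le_antisymm (hJ ▸ hcard) (Nat.card_le_card_of_surjective _ hs2)⟩
  have hKn : Nat.card K = n := by rw [Nat.card_congr (Equiv.ofBijective p2 hb2), hJ]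
  let e2 : K ≃* J := MulEquiv.ofBijective p2 hb2
  have hb1 : Function.Bijective p1.rangeRestrict := by
    rw [Nat.bijective_iff_surjective_and_card]
    refine ⟨p1.rangeRestrict_surjective, ?_⟩
    rw [hKn, hr1, hG]
  let e1 : K ≃* p1.range := MulEquiv.ofBijective p1.rangeRestrict hb1
  refine ⟨(MulEquiv.subgroupCongr hr1).symm.trans (e1.symm.trans e2), fun x hx => ?_⟩
  have hmem : x ∈ K := subset_closure hx
  have h1 : e1 ⟨x, hmem⟩ = (MulEquiv.subgroupCongr hr1).symm ⟨x.1, subset_closure ⟨x, hx, rfl⟩⟩ := Subtype.ext rfl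
  rw [MulEquiv.trans_apply, MulEquiv.trans_apply, ← h1, MulEquiv.symm_apply_apply]
  rfl

/-- the parametrisation of `Sz(8)` over `K8` with the relation of `w` -/
theorem exists_model : ∃ (J : Type) (_ : Group J) (R : SzRel.Rel J K8), RuRed.RelW R := by
  have hc : Fintype.card K8 = 2 ^ (2 * 1 + 1) := by rw [K8.card]; norm_num
  exact ⟨_, _, _, RuRed.RelW.ofGood (Cfsg.Agent.LieRecognition.SzMatrix.good hc)⟩

theorem prod_rel8 {M : Type*} [Group M] {s' w' f' : M} (h : Rel8 s w f) (h' : Rel8 s' w' f') :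
    Rel8 ((s, s') : G × M) (w, w') (f, f') := by
  obtain ⟨h0, h1, h2, h3, h4, h5, h6, h7⟩ := h
  obtain ⟨k0, k1, k2, k3, k4, k5, k6, k7⟩ := h'
  exact ⟨Prod.ext h0 k0, Prod.ext h1 k1, Prod.ext h2 k2, Prod.ext h3 k3, Prod.ext h4 k4, Prod.ext h5 k5,
    Prod.ext h6 k6, Prod.ext h7 k7⟩

/-- **the parametrisation of `⟨s, w, f⟩`** -/
theorem exists_rel (h : Rel8 s w f) (hc : Nat.card (closure ({s, w, f} : Set G)) = 29120) :
    ∃ R : SzRel.Rel ↥(closure ({s, w, f} : Set G)) K8, (R.u 1 1 : G) = s ∧ (R.w : G) = w ∧ (R.d k0 : G) = f ∧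
      RuRed.RelW R := by
  obtain ⟨J, iJ, R, hR⟩ := exists_model
  have h8 := rel8 R hR
  have hb := card_le (prod_rel8 h h8)
  have e1 : Prod.fst '' ({(s, R.u 1 1), (w, R.w), (f, R.d k0)} : Set (G × J)) = {s, w, f} := by
    simp only [Set.image_insert_eq, Set.image_singleton]
  have e2 : Prod.snd '' ({(s, R.u 1 1), (w, R.w), (f, R.d k0)} : Set (G × J)) = {R.u 1 1, R.w, R.d k0} := by
    simp only [Set.image_insert_eq, Set.image_singleton]
  obtain ⟨φ, hφ⟩ := exists_iso ({(s, R.u 1 1), (w, R.w), (f, R.d k0)} : Set (G × J)) 29120 (Count.card_J R)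
    (by rw [e1]; exact hc) (by rw [e2]; exact closure_eq_top R) hb.2 hb.1
  let ψ : closure ({s, w, f} : Set G) ≃* J := (MulEquiv.subgroupCongr (by rw [e1])).trans φ
  have hs : ψ ⟨s, subset_closure (by simp)⟩ = R.u 1 1 := hφ (s, R.u 1 1) (by simp)
  have hw : ψ ⟨w, subset_closure (by simp)⟩ = R.w := hφ (w, R.w) (by simp)
  have hf : ψ ⟨f, subset_closure (by simp)⟩ = R.d k0 := hφ (f, R.d k0) (by simp)
  refine ⟨R.map ψ.symm, ?_, ?_, ?_, hR.map ψ.symm⟩
  · show ((ψ.symm (R.u 1 1) : closure ({s, w, f} : Set G)) : G) = s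
    rw [← hs, MulEquiv.symm_apply_apply]
  · show ((ψ.symm R.w : closure ({s, w, f} : Set G)) : G) = w
    rw [← hw, MulEquiv.symm_apply_apply]
  · show ((ψ.symm (R.d k0) : closure ({s, w, f} : Set G)) : G) = f
    rw [← hf, MulEquiv.symm_apply_apply]

end Cfsg.Agent.KFacts.Ru.SzL
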