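import Cfsg.Agent.RuD.Model
import Cfsg.Agent.KFacts.Ru.SzL
import Cfsg.Agent.KFacts.Ru.FixT

/-!
# Letters of the Rudvalis group

`Lets K t s w f d y`: the letters satisfy the relations, generate `K`, `|K| = 145926144000`, and the growth relations hold.
-/

set_option autoImplicit false
set_option maxRecDepth 100000

namespace Cfsg.Agent.KFacts.Ru

open Subgroup Cfsg.Agent.SporRec.TCUpperCert Cfsg.Agent.RuD Cfsg.Agent.RuD.Rels

/-- letters of the Rudvalis group -/
structure Lets {K : Type*} [Group K] (t s w f d y : K) : Prop where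
  rel : RuRelsX t s w f d y
  gen : closure ({t, s, w, f, d, y} : Set K) = ⊤
  card : Nat.card K = 145926144000
  ne : t ≠ 1
  /-- `t` and `d t d⁻¹` commute -/
  tt : t * (d * t * d⁻¹) = d * t * d⁻¹ * t
  /-- `x = y z(α) y` centralises `z 1, z α, z α²` -/
  g1 : (y * (f * f * f * f * (s * s) * (f * f * f * f)⁻¹) * y) * (s * s) =
    (s * s) * (y * (f * f * f * f * (s * s) * (f * f * f * f)⁻¹) * y)
  g2 : (y * (f * f * f * f * (s * s) * (f * f * f * f)⁻¹) * y) * (f * f * f * f * (s * s) * (f * f * f * f)⁻¹) =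
    (f * f * f * f * (s * s) * (f * f * f * f)⁻¹) * (y * (f * f * f * f * (s * s) * (f * f * f * f)⁻¹) * y)
  g3 : (y * (f * f * f * f * (s * s) * (f * f * f * f)⁻¹) * y) * (f * (s * s) * f⁻¹) =
    (f * (s * s) * f⁻¹) * (y * (f * f * f * f * (s * s) * (f * f * f * f)⁻¹) * y)
  /-- `x t x⁻¹ = t z(1 + α)` -/
  g4 : (y * (f * f * f * f * (s * s) * (f * f * f * f)⁻¹) * y) * t =
    t * (s * s) * (f * f * f * f * (s * s) * (f * f * f * f)⁻¹) *
      (y * (f * f * f * f * (s * s) * (f * f * f * f)⁻¹) * y)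
  /-- `x t₂ x⁻¹ = t₂ z(α + α²)` -/
  g5 : (y * (f * f * f * f * (s * s) * (f * f * f * f)⁻¹) * y) * (d * t * d⁻¹) =
    (d * t * d⁻¹) * (f * f * f * f * (s * s) * (f * f * f * f)⁻¹) * (f * (s * s) * f⁻¹) *
      (y * (f * f * f * f * (s * s) * (f * f * f * f)⁻¹) * y)

theorem relsX_map {K M : Type*} [Group K] [Group M] (φ : K →* M) {t s w f d y : K} (h : RuRelsX t s w f d y) :
    RuRelsX (φ t) (φ s) (φ w) (φ f) (φ d) (φ y) := by
  obtain ⟨⟨h0, h1, h2, h3, h4, h5, h6, h7, h8, h9, h10, h11, h12, h13, h14, h15, h16, h17, h18, h19, h20, h21,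
    h22⟩, h23⟩ := h
  exact ⟨⟨by simpa only [map_mul, map_inv, map_one] using congrArg φ h0,
    by simpa only [map_mul, map_inv, map_one] using congrArg φ h1,
    by simpa only [map_mul, map_inv, map_one] using congrArg φ h2,
    by simpa only [map_mul, map_inv, map_one] using congrArg φ h3,
    by simpa only [map_mul, map_inv, map_one] using congrArg φ h4,
    by simpa only [map_mul, map_inv, map_one] using congrArg φ h5,
    by simpa only [map_mul, map_inv, map_one] using congrArg φ h6,
    by simpa only [map_mul, map_inv, map_one] using congrArg φ h7,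
    by simpa only [map_mul, map_inv, map_one] using congrArg φ h8,
    by simpa only [map_mul, map_inv, map_one] using congrArg φ h9,
    by simpa only [map_mul, map_inv, map_one] using congrArg φ h10,
    by simpa only [map_mul, map_inv, map_one] using congrArg φ h11,
    by simpa only [map_mul, map_inv, map_one] using congrArg φ h12,
    by simpa only [map_mul, map_inv, map_one] using congrArg φ h13,
    by simpa only [map_mul, map_inv, map_one] using congrArg φ h14,
    by simpa only [map_mul, map_inv, map_one] using congrArg φ h15,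
    by simpa only [map_mul, map_inv, map_one] using congrArg φ h16,
    by simpa only [map_mul, map_inv, map_one] using congrArg φ h17,
    by simpa only [map_mul, map_inv, map_one] using congrArg φ h18,
    by simpa only [map_mul, map_inv, map_one] using congrArg φ h19,
    by simpa only [map_mul, map_inv, map_one] using congrArg φ h20,
    by simpa only [map_mul, map_inv, map_one] using congrArg φ h21,
    by simpa only [map_mul, map_inv, map_one] using congrArg φ h22⟩,
    by simpa only [map_mul, map_inv, map_one] using congrArg φ h23⟩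

/-- transport along an isomorphism -/
theorem Lets.map {K M : Type*} [Group K] [Group M] (e : K ≃* M) {t s w f d y : K} (h : Lets t s w f d y) :
    Lets (e t) (e s) (e w) (e f) (e d) (e y) where
  rel := relsX_map e.toMonoidHom h.rel
  gen := by
    have h1 := congrArg (Subgroup.map e.toMonoidHom) h.gen
    rw [MonoidHom.map_closure, Subgroup.map_top_of_surjective _ e.surjective] at h1
    simp only [Set.image_insert_eq, Set.image_singleton] at h1
    exact h1
  card := by rw [← h.card]; exact (Nat.card_congr e.toEquiv).symm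
  ne := fun h1 => h.ne (e.injective (by rw [h1, map_one]))
  tt := by simpa only [map_mul, map_inv, map_one] using congrArg e h.tt
  g1 := by simpa only [map_mul, map_inv, map_one] using congrArg e h.g1
  g2 := by simpa only [map_mul, map_inv, map_one] using congrArg e h.g2
  g3 := by simpa only [map_mul, map_inv, map_one] using congrArg e h.g3
  g4 := by simpa only [map_mul, map_inv, map_one] using congrArg e h.g4
  g5 := by simpa only [map_mul, map_inv, map_one] using congrArg e h.g5

/-! ### the model -/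

section model

open Cfsg.Agent.RuD.Letters Cfsg.Agent.SporadicB Cfsg.Agent.SporRec.R3.Kernel

noncomputable def chkEq (u v : List ℕ) : Bool :=
  allL (fun b => Nat.beq (evalK u b) (evalK v b)) [0, 29, 580, 577]

theorem eq_of_chkEq {u v : List ℕ} (h : chkEq u v = true) : wprod ml u = (wprod ml v : RuOrder.H) := by
  have h1 := (allL_iff _ _).1 h
  apply eq_of_base
  intro b hb
  rw [evalK_eq, evalK_eq]
  simp only [List.mem_cons, List.not_mem_nil, or_false] at hb
  rcases hb with rfl | rfl | rfl | rfl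
  · exact Nat.eq_of_beq_eq_true (h1 0 (by simp))
  · exact Nat.eq_of_beq_eq_true (h1 29 (by simp))
  · exact Nat.eq_of_beq_eq_true (h1 580 (by simp))
  · exact Nat.eq_of_beq_eq_true (h1 577 (by simp))

theorem chk_tt : chkEq [0, 4, 0, 8] [4, 0, 8, 0] = true := by decide +kernel
theorem chk_g1 : chkEq [5, 3, 3, 3, 3, 1, 1, 7, 7, 7, 7, 5, 1, 1] [1, 1, 5, 3, 3, 3, 3, 1, 1, 7, 7, 7, 7, 5] = true := by
  decide +kernel
theorem chk_g2 : chkEq [5, 3, 3, 3, 3, 1, 1, 7, 7, 7, 7, 5, 3, 3, 3, 3, 1, 1, 7, 7, 7, 7]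
    [3, 3, 3, 3, 1, 1, 7, 7, 7, 7, 5, 3, 3, 3, 3, 1, 1, 7, 7, 7, 7, 5] = true := by
  decide +kernel
theorem chk_g3 : chkEq [5, 3, 3, 3, 3, 1, 1, 7, 7, 7, 7, 5, 3, 1, 1, 7]
    [3, 1, 1, 7, 5, 3, 3, 3, 3, 1, 1, 7, 7, 7, 7, 5] = true := by
  decide +kernel
theorem chk_g4 : chkEq [5, 3, 3, 3, 3, 1, 1, 7, 7, 7, 7, 5, 0]
    [0, 1, 1, 3, 3, 3, 3, 1, 1, 7, 7, 7, 7, 5, 3, 3, 3, 3, 1, 1, 7, 7, 7, 7, 5] = true := by
  decide +kernel
theorem chk_g5 : chkEq [5, 3, 3, 3, 3, 1, 1, 7, 7, 7, 7, 5, 4, 0, 8]
    [4, 0, 8, 3, 3, 3, 3, 1, 1, 7, 7, 7, 7, 3, 1, 1, 7, 5, 3, 3, 3, 3, 1, 1, 7, 7, 7, 7, 5] = true := by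
  decide +kernel

macro "wordeq " h:term : tactic => `(tactic| (
  have h0 := eq_of_chkEq $h
  simp only [wprod, lv, ml, List.map_cons, List.map_nil, List.prod_cons, List.prod_nil, mul_one,
    List.getD_cons_zero, List.getD_cons_succ] at h0
  simp only [mul_inv_rev, mul_assoc]
  exact h0))

theorem chk_ne : Nat.beq (evalK [0] 0) 0 = false := by decide +kernel

theorem T_ne : (T : RuOrder.H) ≠ 1 := by
  intro h
  have h1 := evalK_eq [0] RuOrder.b1
  have h2 : (wprod ml [0] : RuOrder.H) = T := mul_one T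
  rw [h2, h] at h1
  have h3 : evalK [0] 0 = 0 := h1.symm
  have h4 := chk_ne
  rw [h3] at h4
  exact absurd h4 (by decide)

theorem lets_model : Lets T S W F D Y where
  rel := Model.relsX_model
  gen := Model.closure_model
  card := RuOrder.card_H
  ne := T_ne
  tt := by wordeq chk_tt
  g1 := by wordeq chk_g1
  g2 := by wordeq chk_g2
  g3 := by wordeq chk_g3
  g4 := by wordeq chk_g4
  g5 := by wordeq chk_g5

end model

/-- letters in every group isomorphic to the Rudvalis group -/
theorem exists_lets {K : Type*} [Group K] (h : Cfsg.Spor.IsoRu K) : ∃ t s w f d y : K, Lets t s w f d y := by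
  obtain ⟨e⟩ := h
  let e' : Cfsg.Agent.SporadicB.RuOrder.H ≃* K := (e.trans Cfsg.Agent.RuLat.Main.equiv).symm
  exact ⟨_, _, _, _, _, _, lets_model.map e'⟩

end Cfsg.Agent.KFacts.Ru
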