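import Cfsg.Agent.OddHalf.D9.Ru.XR
import Cfsg.Agent.OddHalf.D9.Ru.XCover

/-!
# The group `B = C_X(E)` in the centraliser of a 2-central involution of the Rudvalis group

`X = RuOrder.H`, `z = S * S`, `P1 = C_X(z)^∞`, `R = O₂(P1)`, `E = [R, R]` (`OddHalf/D9/Ru/XR`). Here: `B = C_X(E) ≤ R` of
order `2^7`, `R = ⟨G 0, G 2, G 3, G 4⟩ B`, the pairing `R / B × E / z → {1, z}`.
-/

set_option autoImplicit false
set_option maxRecDepth 100000
set_option exponentiation.threshold 5000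

namespace Cfsg.Agent.KFacts.Ru.PackA

open Subgroup Cfsg.Agent.Lib Cfsg.Agent.SporadicB
open Cfsg.Agent.RuD.Letters Cfsg.Agent.SporRec.TCUpperCert Cfsg.Agent.SporRec.R3.Kernel
open Cfsg.Agent.OddHalf.D9.Ru.XDef Cfsg.Agent.OddHalf.D9.Ru.XData Cfsg.Agent.OddHalf.D9.Ru.XChk
open Cfsg.Agent.OddHalf.D9.Ru.XR
open scoped commutatorElement

/-! ### generic lemmas -/

section generic

variable {X : Type*} [Group X]

/-- `M ∪ g M` -/
def adj (N M R : Subgroup X) (g : X) (hNM : N ≤ M) (hMR : M ≤ R) (hg : g ∈ R)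
    (hsq : ∀ x ∈ R, x * x ∈ N) (hcm : ∀ x ∈ R, ∀ y ∈ R, ⁅x, y⁆ ∈ N) : Subgroup X where
  carrier := {x | x ∈ M ∨ g⁻¹ * x ∈ M}
  one_mem' := Or.inl (one_mem _)
  mul_mem' := by
    have key : ∀ m ∈ M, g⁻¹ * m * g ∈ M := by
      intro m hm
      have h := mul_mem (hNM (hcm g⁻¹ (inv_mem hg) m (hMR hm))) hm
      rw [commutatorElement_def] at h
      have e : g⁻¹ * m * g = g⁻¹ * m * (g⁻¹)⁻¹ * m⁻¹ * m := by group
      rwa [e]
    rintro x y (hx | hx) (hy | hy)
    · exact Or.inl (mul_mem hx hy)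
    · right
      have e : g⁻¹ * (x * y) = g⁻¹ * x * g * (g⁻¹ * y) := by group
      change g⁻¹ * (x * y) ∈ M
      rw [e]
      exact mul_mem (key x hx) hy
    · right
      change g⁻¹ * (x * y) ∈ M
      rw [← mul_assoc]
      exact mul_mem hx hy
    · left
      have e : x * y = (g * g) * (g⁻¹ * (g⁻¹ * x) * g) * (g⁻¹ * y) := by group
      change x * y ∈ M
      rw [e]
      exact mul_mem (mul_mem (hNM (hsq g hg)) (key _ hx)) hy
  inv_mem' := by
    have key : ∀ m ∈ M, g⁻¹ * m * g ∈ M := by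
      intro m hm
      have h := mul_mem (hNM (hcm g⁻¹ (inv_mem hg) m (hMR hm))) hm
      rw [commutatorElement_def] at h
      have e : g⁻¹ * m * g = g⁻¹ * m * (g⁻¹)⁻¹ * m⁻¹ * m := by group
      rwa [e]
    rintro x (hx | hx)
    · exact Or.inl (inv_mem hx)
    · right
      have e : g⁻¹ * x⁻¹ = (g⁻¹ * (g⁻¹ * x) * g)⁻¹ * (g * g)⁻¹ := by group
      change g⁻¹ * x⁻¹ ∈ M
      rw [e]
      exact mul_mem (inv_mem (key _ hx)) (inv_mem (hNM (hsq g hg)))

theorem mem_adj {N M R : Subgroup X} {g : X} (hNM : N ≤ M) (hMR : M ≤ R) (hg : g ∈ R)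
    (hsq : ∀ x ∈ R, x * x ∈ N) (hcm : ∀ x ∈ R, ∀ y ∈ R, ⁅x, y⁆ ∈ N) {x : X} :
    x ∈ adj N M R g hNM hMR hg hsq hcm ↔ x ∈ M ∨ g⁻¹ * x ∈ M := Iff.rfl

theorem adj_le {N M R : Subgroup X} {g : X} (hNM : N ≤ M) (hMR : M ≤ R) (hg : g ∈ R)
    (hsq : ∀ x ∈ R, x * x ∈ N) (hcm : ∀ x ∈ R, ∀ y ∈ R, ⁅x, y⁆ ∈ N) :
    adj N M R g hNM hMR hg hsq hcm ≤ R := by
  rintro x (hx | hx)
  · exact hMR hx
  · have := mul_mem hg (hMR hx)
    rwa [mul_inv_cancel_left] at this

theorem le_adj {N M R : Subgroup X} {g : X} (hNM : N ≤ M) (hMR : M ≤ R) (hg : g ∈ R)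
    (hsq : ∀ x ∈ R, x * x ∈ N) (hcm : ∀ x ∈ R, ∀ y ∈ R, ⁅x, y⁆ ∈ N) :
    M ≤ adj N M R g hNM hMR hg hsq hcm := fun _ hx => Or.inl hx

/-- normal form for `R = ⟨r₁, r₂, r₃, r₄⟩ B` -/
theorem nf4 {N B R : Subgroup X} (hNB : N ≤ B) (hBR : B ≤ R) {r1 r2 r3 r4 : X} (h1 : r1 ∈ R) (h2 : r2 ∈ R)
    (h3 : r3 ∈ R) (h4 : r4 ∈ R) (hsq : ∀ x ∈ R, x * x ∈ N) (hcm : ∀ x ∈ R, ∀ y ∈ R, ⁅x, y⁆ ∈ N)
    (hR : R ≤ closure ({r1, r2, r3, r4} ∪ (B : Set X))) : ∀ x ∈ R, ∃ c1 c2 c3 c4 : Bool, ∃ b ∈ B,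
      x = (bif c1 then r1 else 1) * (bif c2 then r2 else 1) * (bif c3 then r3 else 1) * (bif c4 then r4 else 1) * b := by
  intro x hx
  let M1 := adj N B R r4 hNB hBR h4 hsq hcm
  have l1 : B ≤ M1 := le_adj _ _ _ _ _
  have k1 : M1 ≤ R := adj_le _ _ _ _ _
  let M2 := adj N M1 R r3 (hNB.trans l1) k1 h3 hsq hcm
  have l2 : M1 ≤ M2 := le_adj _ _ _ _ _
  have k2 : M2 ≤ R := adj_le _ _ _ _ _
  let M3 := adj N M2 R r2 ((hNB.trans l1).trans l2) k2 h2 hsq hcm
  have l3 : M2 ≤ M3 := le_adj _ _ _ _ _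
  have k3 : M3 ≤ R := adj_le _ _ _ _ _
  let M4 := adj N M3 R r1 (((hNB.trans l1).trans l2).trans l3) k3 h1 hsq hcm
  have l4 : M3 ≤ M4 := le_adj _ _ _ _ _
  have g4 : ∀ {M : Subgroup X} (g : X), g⁻¹ * g ∈ M := fun {M} g => by rw [inv_mul_cancel]; exact one_mem _
  have hx4 : x ∈ M4 := by
    refine (closure_le _).2 ?_ (hR hx)
    rintro y (hy | hy)
    · simp only [Set.mem_insert_iff, Set.mem_singleton_iff] at hy
      rcases hy with rfl | rfl | rfl | rfl
      · exact Or.inr (g4 _)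
      · exact l4 (Or.inr (g4 _))
      · exact l4 (l3 (Or.inr (g4 _)))
      · exact l4 (l3 (l2 (Or.inr (g4 _))))
    · exact l4 (l3 (l2 (l1 hy)))
  have s4 : ∃ c1 : Bool, ∃ y ∈ M3, x = (bif c1 then r1 else 1) * y := by
    rcases hx4 with h | h
    · exact ⟨false, x, h, (one_mul _).symm⟩
    · exact ⟨true, _, h, (mul_inv_cancel_left _ _).symm⟩
  obtain ⟨c1, y1, hy1, e1⟩ := s4
  have s3 : ∃ c2 : Bool, ∃ y ∈ M2, y1 = (bif c2 then r2 else 1) * y := by
    rcases hy1 with h | h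
    · exact ⟨false, y1, h, (one_mul _).symm⟩
    · exact ⟨true, _, h, (mul_inv_cancel_left _ _).symm⟩
  obtain ⟨c2, y2, hy2, e2⟩ := s3
  have s2 : ∃ c3 : Bool, ∃ y ∈ M1, y2 = (bif c3 then r3 else 1) * y := by
    rcases hy2 with h | h
    · exact ⟨false, y2, h, (one_mul _).symm⟩
    · exact ⟨true, _, h, (mul_inv_cancel_left _ _).symm⟩
  obtain ⟨c3, y3, hy3, e3⟩ := s2
  have s1 : ∃ c4 : Bool, ∃ y ∈ B, y3 = (bif c4 then r4 else 1) * y := by
    rcases hy3 with h | h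
    · exact ⟨false, y3, h, (one_mul _).symm⟩
    · exact ⟨true, _, h, (mul_inv_cancel_left _ _).symm⟩
  obtain ⟨c4, y4, hy4, e4⟩ := s1
  exact ⟨c1, c2, c3, c4, y4, hy4, by rw [e1, e2, e3, e4]; simp only [mul_assoc]⟩

end generic

/-! ### kernel tests for inequality -/

theorem eqv_complete {u v : List ℕ} (h : (wprod ml u : RuOrder.H) = wprod ml v) : eqv u v = true := by
  rw [eqv, allL_iff]
  intro b hb
  have key : ∀ b : Fin 4060, evalK u b = evalK v b := by
    intro b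
    rw [← evalK_eq, ← evalK_eq, h]
  simp only [List.mem_cons, List.not_mem_nil, or_false] at hb
  rcases hb with rfl | rfl | rfl | rfl
  · rw [Nat.beq_eq]; exact key ⟨0, by norm_num⟩
  · rw [Nat.beq_eq]; exact key ⟨29, by norm_num⟩
  · rw [Nat.beq_eq]; exact key ⟨580, by norm_num⟩
  · rw [Nat.beq_eq]; exact key ⟨577, by norm_num⟩

theorem ne_of_eqv {u v : List ℕ} (h : eqv u v = false) : (wprod ml u : RuOrder.H) ≠ wprod ml v := fun e => by
  rw [eqv_complete e] at h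
  exact absurd h (by simp)

theorem ne_of_eqw {u v : List ℕ} (h : eqw u v = false) : V u ≠ V v := ne_of_eqv h

/-! ### the group `B` -/

/-- generators of `B` modulo `E` -/
noncomputable def B : Subgroup RuOrder.H := closure (gE ∪ {G [0, 1, 3], G [1, 4, 5]})

theorem S_eq : G [0, 1, 3, 6, 9, 10] = S := by
  have h := eqv_sound chk_S
  change G [0, 1, 3, 6, 9, 10] = wprod ml [1] at h
  rw [h, wprod_cons, wprod_nil, mul_one]
  rfl

theorem E_le_B : E ≤ B := by
  rw [E, closure_le]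
  intro x hx
  exact subset_closure (Or.inl hx)

theorem j1_mem : G [0, 1, 3] ∈ B := subset_closure (by simp)
theorem j2_mem : G [1, 4, 5] ∈ B := subset_closure (by simp)

theorem B_le_R : B ≤ R := by
  rw [B, closure_le]
  rintro x (hx | hx)
  · exact E_le_R (subset_closure hx)
  · simp only [Set.mem_insert_iff, Set.mem_singleton_iff] at hx
    rcases hx with rfl | rfl
    · exact G_mem_R (by decide)
    · exact G_mem_R (by decide)

/-- commuting with `E` -/
theorem chk_BE : ∀ j < 5, eqw (gg ([0, 1, 3] ++ [j + 6])) (gg ([j + 6] ++ [0, 1, 3])) = true ∧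
    eqw (gg ([1, 4, 5] ++ [j + 6])) (gg ([j + 6] ++ [1, 4, 5])) = true := by decide +kernel

theorem B_comm : ∀ b ∈ B, ∀ e ∈ E, b * e = e * b := by
  have key : B ≤ centralizer (gE : Set RuOrder.H) := by
    rw [B, closure_le]
    rintro x (hx | hx)
    · rw [SetLike.mem_coe, mem_centralizer_iff]
      rintro _ ⟨j, hj, rfl⟩
      exact E_comm _ (subset_closure ⟨j, hj, rfl⟩) _ (subset_closure hx)
    · rw [SetLike.mem_coe, mem_centralizer_iff]
      rintro _ ⟨j, hj, rfl⟩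
      have h := chk_BE j hj
      simp only [Set.mem_insert_iff, Set.mem_singleton_iff] at hx
      rcases hx with rfl | rfl
      · have h1 := eqw_sound h.1
        change G ([0, 1, 3] ++ [j + 6]) = G ([j + 6] ++ [0, 1, 3]) at h1
        rw [G_append, G_append] at h1
        exact h1.symm
      · have h1 := eqw_sound h.2
        change G ([1, 4, 5] ++ [j + 6]) = G ([j + 6] ++ [1, 4, 5]) at h1
        rw [G_append, G_append] at h1
        exact h1.symm
  intro b hb e he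
  have h2 : E ≤ centralizer {b} := by
    rw [E, closure_le]
    intro x hx
    rw [SetLike.mem_coe, mem_centralizer_singleton_iff]
    exact (mem_centralizer_iff.1 (key hb) x hx)
  exact (mem_centralizer_singleton_iff.1 (h2 he)).symm

/-- the generators modulo `B` -/
def rg : Set RuOrder.H := {x | x = G [0] ∨ x = G [2] ∨ x = G [3] ∨ x = G [4]}

/-- `G 0, G 2, G 3, G 4` generate `R` modulo `B` -/
theorem R_le (Q : Subgroup RuOrder.H) (hB : B ≤ Q) (m0 : G [0] ∈ Q) (m2 : G [2] ∈ Q) (m3 : G [3] ∈ Q)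
    (m4 : G [4] ∈ Q) : R ≤ Q := by
  have mE : ∀ j < 5, G [j + 6] ∈ Q := fun j hj => hB (E_le_B (subset_closure ⟨j, hj, rfl⟩))
  have m1 : G [1] ∈ Q := by
    have e : G [1] = (G [0])⁻¹ * G [0, 1, 3] * (G [3])⁻¹ := by
      rw [G_cons 0 [1, 3], G_cons 1 [3]]
      group
    rw [e]
    exact mul_mem (mul_mem (inv_mem m0) (hB j1_mem)) (inv_mem m3)
  rw [R, closure_le]
  rintro x ⟨i, hi, rfl⟩
  rcases lt_or_ge i 6 with h | h
  · interval_cases i
    · exact m0
    · exact m1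
    · exact m2
    · exact m3
    · exact m4
    · have e : G [5] = (G [4])⁻¹ * (G [1])⁻¹ * G [1, 4, 5] := by
        rw [G_cons 1 [4, 5], G_cons 4 [5]]
        group
      rw [e]
      exact mul_mem (mul_mem (inv_mem m4) (inv_mem m1)) (hB j2_mem)
  · obtain ⟨j, rfl⟩ : ∃ j, i = j + 6 := ⟨i - 6, by omega⟩
    exact mE j (by omega)

theorem R_nf : ∀ x ∈ R, ∃ c1 c2 c3 c4 : Bool, ∃ b ∈ B,
    x = (bif c1 then G [0] else 1) * (bif c2 then G [2] else 1) * (bif c3 then G [3] else 1) *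
      (bif c4 then G [4] else 1) * b :=
  nf4 E_le_B B_le_R (G_mem_R (l := [0]) (by decide)) (G_mem_R (l := [2]) (by decide))
    (G_mem_R (l := [3]) (by decide)) (G_mem_R (l := [4]) (by decide)) sq_R comm_R
    (R_le _ (fun b hb => subset_closure (Or.inr hb)) (subset_closure (Or.inl (by simp)))
      (subset_closure (Or.inl (by simp))) (subset_closure (Or.inl (by simp))) (subset_closure (Or.inl (by simp))))

/-! ### the elements of `E` as masks -/

/-- the element of `E` with the mask `m` -/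
noncomputable def em (m : ℕ) : RuOrder.H := G (msk m)

theorem em_eq_pr (m : ℕ) :
    em m = pr (m.testBit 0) (m.testBit 1) (m.testBit 2) (m.testBit 3) (m.testBit 4) := (pr_eq m).symm

theorem em_mem (m : ℕ) : em m ∈ E := by rw [em_eq_pr]; exact pr_mem _ _ _ _ _

theorem em_xor (m n : ℕ) : em (m ^^^ n) = em m * em n := by
  rw [em_eq_pr, em_eq_pr m, em_eq_pr n, pr_mul]
  simp only [Nat.testBit_xor]

theorem em_zero : em 0 = 1 := rfl

theorem em_z : em 26 = S * S := z_eq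

theorem exists_em : ∀ x ∈ E, ∃ m < 32, x = em m := exists_msk

theorem chk_inj : ∀ m < 32, m = 0 ∨ eqw (gg (msk m)) [] = false := by decide +kernel

theorem em_ne {m : ℕ} (hm : m < 32) (h : m ≠ 0) : em m ≠ 1 := by
  rcases chk_inj m hm with h1 | h1
  · exact absurd h1 h
  · intro e
    exact ne_of_eqw h1 e

theorem em_inj {m n : ℕ} (hm : m < 32) (hn : n < 32) (h : em m = em n) : m = n := by
  have h1 : em (m ^^^ n) = 1 := by rw [em_xor, h]; exact E_sq _ (em_mem n)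
  by_contra hne
  have hx : m ^^^ n < 32 := Nat.xor_lt_two_pow (n := 5) hm hn
  refine em_ne hx ?_ h1
  intro h2
  exact hne (Nat.xor_eq_zero_iff.1 h2)

/-! ### the action of the letters -/

/-- conjugation of the generators of `E` by the letters `T, s₁, D, Y, s₁⁻¹, D⁻¹` -/
def tb : List (List ℕ) := [[1, 2, 5, 16, 8], [1, 2, 5, 10, 18], [2, 3, 12, 4, 29], [4, 8, 1, 2, 16],
  [1, 2, 5, 10, 18], [3, 1, 8, 12, 23]]

/-- conjugation by `h` -/
def tbh : List ℕ := [24, 27, 29, 14, 15]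

/-- the linear map given by the images of the basis -/
def lin (l : List ℕ) (m : ℕ) : ℕ :=
  (bif m.testBit 0 then l.getD 0 0 else 0) ^^^ ((bif m.testBit 1 then l.getD 1 0 else 0) ^^^
    ((bif m.testBit 2 then l.getD 2 0 else 0) ^^^ ((bif m.testBit 3 then l.getD 3 0 else 0) ^^^
      (bif m.testBit 4 then l.getD 4 0 else 0))))

theorem em_lin (g : RuOrder.H) (l : List ℕ) (h : ∀ j < 5, g * G [j + 6] * g⁻¹ = em (l.getD j 0)) (m : ℕ) :
    g * em m * g⁻¹ = em (lin l m) := by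
  have key : ∀ (b : Bool) {j : ℕ} (_ : j < 5), g * G (bif b then [j + 6] else []) * g⁻¹ =
      em (bif b then l.getD j 0 else 0) := by
    intro b j hj
    cases b
    · rw [cond_false, cond_false, G_nil, em_zero]
      group
    · exact h j hj
  rw [em_eq_pr, lin, em_xor, em_xor, em_xor, em_xor, ← key _ (j := 0) (by norm_num), ← key _ (j := 1) (by norm_num),
    ← key _ (j := 2) (by norm_num), ← key _ (j := 3) (by norm_num), ← key _ (j := 4) (by norm_num), pr]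
  group

theorem chk_tb : ∀ g < 6, ∀ j < 5, eqw (g :: gg [j + 6]) (gg (msk ((tb.getD g []).getD j 0)) ++ [g]) = true := by
  decide +kernel

theorem chk_tbh : ∀ j < 5, eqv (Cfsg.Agent.OddHalf.D9.Ru.XCover.hw ++ (gg [j + 6]).flatMap ex)
    ((gg (msk (tbh.getD j 0))).flatMap ex ++ Cfsg.Agent.OddHalf.D9.Ru.XCover.hw) = true := by decide +kernel

theorem letter_em {g : ℕ} (hg : g < 6) (m : ℕ) : V [g] * em m * (V [g])⁻¹ = em (lin (tb.getD g []) m) := by
  refine em_lin _ _ (fun j hj => ?_) m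
  have h := eqw_sound (chk_tb g hg j hj)
  rw [V_cons, V_append] at h
  rw [mul_inv_eq_iff_eq_mul]
  exact h

theorem h_em (m : ℕ) : Cfsg.Agent.OddHalf.D9.Ru.XCover.h * em m * (Cfsg.Agent.OddHalf.D9.Ru.XCover.h)⁻¹ =
    em (lin tbh m) := by
  refine em_lin _ _ (fun j hj => ?_) m
  have h := eqv_sound (chk_tbh j hj)
  rw [wprod_append, wprod_append] at h
  rw [mul_inv_eq_iff_eq_mul]
  exact h

/-- the action of a word on masks -/
def acw (w : List ℕ) (m : ℕ) : ℕ := w.foldr (fun g x => lin (tb.getD g []) x) m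

theorem word_em {w : List ℕ} (hw : (w.all fun a => Nat.blt a 6) = true) (m : ℕ) :
    V w * em m * (V w)⁻¹ = em (acw w m) := by
  induction w with
  | nil => change 1 * em m * 1⁻¹ = em m; group
  | cons a w ih =>
    rw [List.all_cons, Bool.and_eq_true, Nat.blt_eq] at hw
    have e : V (a :: w) * em m * (V (a :: w))⁻¹ = V [a] * (V w * em m * (V w)⁻¹) * (V [a])⁻¹ := by
      rw [V_cons]; group
    rw [e, ih hw.2, letter_em hw.1]
    rfl

end Cfsg.Agent.KFacts.Ru.PackA
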