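import Cfsg.Agent.KFacts.Ru.PackA
import Cfsg.Agent.OddHalf.D9.Ru.XfRes
import Cfsg.Agent.OddHalf.D8.RuFam.Facts

/-!
# Packet P for the Rudvalis group: `Loc ⊤ (S * S) P1 R B E` on `RuOrder.H`
-/

set_option autoImplicit false
set_option maxRecDepth 100000
set_option exponentiation.threshold 5000

namespace Cfsg.Agent.KFacts.Ru.PackB

open Subgroup Cfsg.Agent.Lib Cfsg.Agent.SporadicB
open Cfsg.Agent.RuD.Letters Cfsg.Agent.SporRec.TCUpperCert Cfsg.Agent.SporRec.R3.Kernel
open Cfsg.Agent.OddHalf.D9.Ru.XDef Cfsg.Agent.OddHalf.D9.Ru.XData Cfsg.Agent.OddHalf.D9.Ru.XChk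
open Cfsg.Agent.OddHalf.D9.Ru.XR Cfsg.Agent.KFacts.Ru.PackA
open scoped commutatorElement

/-! ### commuting up to `z` -/

/-- `z` or `1` -/
noncomputable def zb (b : Bool) : RuOrder.H := bif b then S * S else 1

theorem zb_xor (a b : Bool) : zb (xor a b) = zb a * zb b := by
  cases a <;> cases b
  · exact (mul_one _).symm
  · exact (one_mul _).symm
  · exact (mul_one _).symm
  · exact zz.symm

theorem zb_comm {x : RuOrder.H} (hx : x ∈ P1) (b : Bool) : x * zb b = zb b * x := by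
  cases b
  · exact (mul_one x).trans (one_mul x).symm
  · exact z_comm x hx

/-- `x e = z^b e x` -/
def Tw (x e : RuOrder.H) (b : Bool) : Prop := x * e = zb b * e * x

theorem Tw.mul {x y e : RuOrder.H} {a b : Bool} (hx : x ∈ P1) (h1 : Tw x e a) (h2 : Tw y e b) :
    Tw (x * y) e (xor a b) := by
  unfold Tw at h1 h2 ⊢
  calc x * y * e = x * (zb b * e * y) := by rw [mul_assoc, h2]
    _ = x * zb b * e * y := by group
    _ = zb b * (x * e) * y := by rw [zb_comm hx]; group
    _ = zb b * zb a * e * (x * y) := by rw [h1]; group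
    _ = _ := by rw [zb_xor, zb_comm]; cases b <;> [exact one_mem _; exact mul_mem S_mem S_mem]

theorem Tw.bif {g e : RuOrder.H} {d : Bool} (h : Tw g e d) (c : Bool) : Tw (bif c then g else 1) e (c && d) := by
  cases c
  · unfold Tw
    change 1 * e = 1 * e * 1
    group
  · exact h

theorem Tw.of_comm {g e : RuOrder.H} (h : g * e = e * g) : Tw g e false := by
  unfold Tw
  rw [h]
  change e * g = 1 * e * g
  rw [one_mul]

theorem z1 : S * S ≠ (1 : RuOrder.H) := by
  rw [← em_z]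
  exact em_ne (by norm_num) (by norm_num)

theorem Tw.false_iff {x e : RuOrder.H} {b : Bool} (h : Tw x e b) : b = false ↔ x * e = e * x := by
  unfold Tw at h
  cases b
  · change x * e = 1 * e * x at h
    rw [one_mul] at h
    exact ⟨fun _ => h, fun _ => rfl⟩
  · refine ⟨fun h1 => absurd h1 (by simp), fun h1 => ?_⟩
    exfalso
    change x * e = S * S * e * x at h
    rw [h1, mul_assoc (S * S)] at h
    exact z1 (mul_eq_right.1 h.symm)

/-- the generators of `R` modulo `B` -/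
def rl : List ℕ := [0, 2, 3, 4]

/-- the masks of the dual elements -/
def dl : List ℕ := [8, 3, 4, 1]

theorem chk_dual : ∀ i < 4, ∀ j < 4, eqw (gg ([rl.getD i 0] ++ msk (dl.getD j 0)))
    (gg (zp (bif Nat.beq i j then 1 else 0) ++ (msk (dl.getD j 0) ++ [rl.getD i 0]))) = true := by decide +kernel

theorem G_zp (b : Bool) : G (zp (bif b then 1 else 0)) = zb b := by
  cases b
  · rfl
  · exact z_eq

theorem tw_dual {i j : ℕ} (hi : i < 4) (hj : j < 4) : Tw (G [rl.getD i 0]) (PackA.em (dl.getD j 0)) (Nat.beq i j) := by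
  have h := eqw_sound (chk_dual i hi j hj)
  change G ([rl.getD i 0] ++ msk (dl.getD j 0)) = G (zp (bif Nat.beq i j then 1 else 0) ++
    (msk (dl.getD j 0) ++ [rl.getD i 0])) at h
  rw [G_append, G_append, G_append, G_zp] at h
  unfold Tw
  rw [mul_assoc]
  exact h

theorem Gr_mem {i : ℕ} (hi : i < 4) : G [rl.getD i 0] ∈ R := by
  interval_cases i <;> exact G_mem_R (by decide)

/-- the pairing with the dual elements -/
theorem nf_tw {c1 c2 c3 c4 : Bool} {b : RuOrder.H} (hb : b ∈ B) {j : ℕ} (hj : j < 4) :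
    Tw ((bif c1 then G [0] else 1) * (bif c2 then G [2] else 1) * (bif c3 then G [3] else 1) *
      (bif c4 then G [4] else 1) * b) (PackA.em (dl.getD j 0)) ([c1, c2, c3, c4].getD j false) := by
  have hP : ∀ (c : Bool) {i : ℕ}, i < 4 → (bif c then G [rl.getD i 0] else 1) ∈ P1 := by
    intro c i hi
    cases c
    · exact one_mem _
    · exact OddHalf.D9.Ru.XR.R_le (Gr_mem hi)
  have t := fun (c : Bool) {i : ℕ} (hi : i < 4) => (tw_dual hi hj).bif c
  have h0 := hP c1 (i := 0) (by norm_num)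
  have h1 := hP c2 (i := 1) (by norm_num)
  have h2 := hP c3 (i := 2) (by norm_num)
  have h3 := hP c4 (i := 3) (by norm_num)
  have hbt : Tw b (PackA.em (dl.getD j 0)) false := Tw.of_comm (B_comm b hb _ (em_mem _))
  have key := Tw.mul (mul_mem (mul_mem (mul_mem h0 h1) h2) h3) (Tw.mul (mul_mem (mul_mem h0 h1) h2)
    (Tw.mul (mul_mem h0 h1) (Tw.mul h0 (t c1 (i := 0) (by norm_num)) (t c2 (i := 1) (by norm_num)))
      (t c3 (i := 2) (by norm_num))) (t c4 (i := 3) (by norm_num))) hbt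
  have e : (xor (xor (xor (xor (c1 && Nat.beq 0 j) (c2 && Nat.beq 1 j)) (c3 && Nat.beq 2 j)) (c4 && Nat.beq 3 j))
      false) = [c1, c2, c3, c4].getD j false := by
    interval_cases j <;> cases c1 <;> cases c2 <;> cases c3 <;> cases c4 <;> rfl
  rw [e] at key
  exact key

/-! ### `B = C(E)` -/

/-- an element of `R` commuting with the dual elements lies in `B` -/
theorem mem_B_of_R {r : RuOrder.H} (hr : r ∈ R) (h : ∀ j < 4, r * PackA.em (dl.getD j 0) = PackA.em (dl.getD j 0) * r) : r ∈ B := by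
  obtain ⟨c1, c2, c3, c4, b, hb, rfl⟩ := R_nf r hr
  have k : ∀ j < 4, [c1, c2, c3, c4].getD j false = false := fun j hj => (nf_tw hb hj).false_iff.2 (h j hj)
  have k1 : c1 = false := k 0 (by norm_num)
  have k2 : c2 = false := k 1 (by norm_num)
  have k3 : c3 = false := k 2 (by norm_num)
  have k4 : c4 = false := k 3 (by norm_num)
  subst k1 k2 k3 k4
  change 1 * 1 * 1 * 1 * b ∈ B
  simpa using hb

theorem R_em {r : RuOrder.H} (hr : r ∈ R) (m : ℕ) : r * PackA.em m * r⁻¹ = PackA.em m ∨ r * PackA.em m * r⁻¹ = PackA.em (26 ^^^ m) := by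
  rcases comm_RE r hr (PackA.em m) (em_mem m) with h | h
  · left
    rw [commutatorElement_def] at h
    exact mul_inv_eq_one.1 h
  · right
    rw [em_xor, em_z, ← h, commutatorElement_def]
    group

theorem A_triv : ∀ j < 60, j = 0 ∨ ∃ i < 5, acw (aw.getD j []) (2 ^ i) ≠ 2 ^ i ∧
    26 ^^^ acw (aw.getD j []) (2 ^ i) ≠ 2 ^ i := by decide +kernel

theorem hA_triv : ∀ j < 60, ∃ i < 5, lin tbh (acw (aw.getD j []) (2 ^ i)) ≠ 2 ^ i ∧
    26 ^^^ lin tbh (acw (aw.getD j []) (2 ^ i)) ≠ 2 ^ i := by decide +kernel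

theorem acw_lt : ∀ j < 60, ∀ i < 5, acw (aw.getD j []) (2 ^ i) < 32 ∧
    lin tbh (acw (aw.getD j []) (2 ^ i)) < 32 := by decide +kernel

theorem aw_lt : ∀ j < 60, ((aw.getD j []).all fun a => Nat.blt a 6) = true := by decide +kernel

theorem em_cases {m n : ℕ} (hm : m < 32) (hn : n < 32) (h1 : m ≠ n) (h2 : 26 ^^^ m ≠ n) {x : RuOrder.H}
    (hx : x = PackA.em m ∨ x = PackA.em (26 ^^^ m)) (h : x = em n) : False := by
  rcases hx with hx | hx
  · exact h1 (em_inj hm hn (hx.symm.trans h))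
  · exact h2 (em_inj (Nat.xor_lt_two_pow (n := 5) (by norm_num) hm) hn (hx.symm.trans h))

theorem cen_E {k : RuOrder.H} (h : ∀ e ∈ E, k * e = e * k) : k ∈ B := by
  have hz : k ∈ centralizer ({S * S} : Set RuOrder.H) := by
    rw [mem_centralizer_singleton_iff, ← em_z]
    exact h _ (em_mem _)
  have hk : ∀ m, k * PackA.em m * k⁻¹ = PackA.em m := fun m => by rw [h _ (em_mem m), mul_inv_cancel_right]
  rw [← Cfsg.Agent.OddHalf.D9.Ru.XCover.M_eq, Cfsg.Agent.OddHalf.D9.Ru.XCover.mem_M] at hz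
  rcases hz with hp | hp
  · obtain ⟨r, hr, a, ha, rfl⟩ := Cfsg.Agent.OddHalf.D9.Ru.XR.cover k hp
    obtain ⟨j, hj, rfl⟩ := mem_A a ha
    rcases A_triv j hj with rfl | ⟨i, hi, h1, h2⟩
    · have e : r * V (aw.getD 0 []) = r := mul_one r
      rw [e]
      rw [e] at h
      exact mem_B_of_R hr fun j _ => h _ (em_mem _)
    · exfalso
      have h3 := hk (2 ^ i)
      have e : r * V (aw.getD j []) * PackA.em (2 ^ i) * (r * V (aw.getD j []))⁻¹ =
          r * (V (aw.getD j []) * PackA.em (2 ^ i) * (V (aw.getD j []))⁻¹) * r⁻¹ := by group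
      rw [e, word_em (aw_lt j hj)] at h3
      have hi2 : 2 ^ i < 32 := by interval_cases i <;> norm_num
      exact em_cases (acw_lt j hj i hi).1 hi2 h1 h2 (R_em hr _) h3
  · exfalso
    obtain ⟨r, hr, a, ha, e0⟩ := Cfsg.Agent.OddHalf.D9.Ru.XR.cover _ hp
    obtain ⟨j, hj, rfl⟩ := mem_A a ha
    obtain ⟨i, hi, h1, h2⟩ := hA_triv j hj
    have h3 := hk (2 ^ i)
    have ek : k = Cfsg.Agent.OddHalf.D9.Ru.XCover.h * (r * V (aw.getD j [])) := by
      rw [← e0, ← mul_assoc, Cfsg.Agent.OddHalf.D9.Ru.XCover.hh, one_mul]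
    have e : k * PackA.em (2 ^ i) * k⁻¹ = Cfsg.Agent.OddHalf.D9.Ru.XCover.h *
        (r * (V (aw.getD j []) * PackA.em (2 ^ i) * (V (aw.getD j []))⁻¹) * r⁻¹) *
        (Cfsg.Agent.OddHalf.D9.Ru.XCover.h)⁻¹ := by rw [ek]; group
    rw [e, word_em (aw_lt j hj)] at h3
    have hi2 : 2 ^ i < 32 := by interval_cases i <;> norm_num
    have h4 : Cfsg.Agent.OddHalf.D9.Ru.XCover.h * (r * PackA.em (acw (aw.getD j []) (2 ^ i)) * r⁻¹) *
        (Cfsg.Agent.OddHalf.D9.Ru.XCover.h)⁻¹ = PackA.em (lin tbh (acw (aw.getD j []) (2 ^ i))) ∨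
        Cfsg.Agent.OddHalf.D9.Ru.XCover.h * (r * PackA.em (acw (aw.getD j []) (2 ^ i)) * r⁻¹) *
        (Cfsg.Agent.OddHalf.D9.Ru.XCover.h)⁻¹ = PackA.em (26 ^^^ lin tbh (acw (aw.getD j []) (2 ^ i))) := by
      rcases R_em hr (acw (aw.getD j []) (2 ^ i)) with h5 | h5
      · left; rw [h5, h_em]
      · right
        rw [h5, em_xor, em_xor, em_z, ← h_em]
        have hzc : Cfsg.Agent.OddHalf.D9.Ru.XCover.h * (S * S) = S * S * Cfsg.Agent.OddHalf.D9.Ru.XCover.h :=
          Cfsg.Agent.OddHalf.D9.Ru.XCover.hz_comm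
        rw [← mul_assoc, hzc]
        group
    exact em_cases (acw_lt j hj i hi).2 hi2 h1 h2 h4 h3

/-! ### the centre of `R` -/

theorem chk_ZR : ∀ m < 32, m = 0 ∨ m = 26 ∨ ∃ i < 6, eqw (gg (msk m ++ [i])) (gg ([i] ++ msk m)) = false := by
  decide +kernel

theorem ZR : ∀ e ∈ E, (∀ r ∈ R, e * r = r * e) → e = 1 ∨ e = S * S := by
  intro e he h
  obtain ⟨m, hm, rfl⟩ := exists_em e he
  rcases chk_ZR m hm with rfl | rfl | ⟨i, hi, h1⟩
  · left; rfl
  · right; exact em_z
  · exfalso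
    have h2 := ne_of_eqw h1
    change G (msk m ++ [i]) ≠ G ([i] ++ msk m) at h2
    rw [G_append, G_append] at h2
    exact h2 (h (G [i]) (subset_closure ⟨i, by omega, rfl⟩))

/-! ### `P1` centralises `B / E` -/

/-- the commutators of the letters with `j₁`, `j₂` -/
def bp : List (List ℕ) := [[0, 27], [2, 24], [2, 14], [15, 31]]

theorem chk_bp : ∀ g < 4, eqw (g :: gg [0, 1, 3]) (gg (msk ((bp.getD g []).getD 0 0) ++ [0, 1, 3]) ++ [g]) = true ∧
    eqw (g :: gg [1, 4, 5]) (gg (msk ((bp.getD g []).getD 1 0) ++ [1, 4, 5]) ++ [g]) = true := by decide +kernel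

theorem BP : ∀ b ∈ B, ∀ p ∈ P1, p * b * p⁻¹ * b⁻¹ ∈ E := by
  have one : ∀ g < 4, ∀ b ∈ B, V [g] * b * (V [g])⁻¹ * b⁻¹ ∈ E := by
    intro g hg b hb
    have hb' : b ∈ closure (gE ∪ {G [0, 1, 3], G [1, 4, 5]}) := hb
    clear hb
    induction hb' using closure_induction with
    | mem x hx =>
      rcases hx with hx | hx
      · have hxE : x ∈ E := subset_closure hx
        exact mul_mem (E_nor _ (V_mem _) _ hxE) (inv_mem hxE)
      · simp only [Set.mem_insert_iff, Set.mem_singleton_iff] at hx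
        have h := chk_bp g hg
        rcases hx with rfl | rfl
        · have h1 := eqw_sound h.1
          change V (g :: gg [0, 1, 3]) = V (gg (msk ((bp.getD g []).getD 0 0) ++ [0, 1, 3]) ++ [g]) at h1
          rw [V_cons, V_append] at h1
          change V [g] * G [0, 1, 3] = G (msk ((bp.getD g []).getD 0 0) ++ [0, 1, 3]) * V [g] at h1
          rw [G_append] at h1
          rw [h1]
          have e : G (msk ((bp.getD g []).getD 0 0)) * G [0, 1, 3] * V [g] * (V [g])⁻¹ * (G [0, 1, 3])⁻¹ =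
            PackA.em ((bp.getD g []).getD 0 0) := by rw [PackA.em]; group
          rw [e]
          exact em_mem _
        · have h1 := eqw_sound h.2
          change V (g :: gg [1, 4, 5]) = V (gg (msk ((bp.getD g []).getD 1 0) ++ [1, 4, 5]) ++ [g]) at h1
          rw [V_cons, V_append] at h1
          change V [g] * G [1, 4, 5] = G (msk ((bp.getD g []).getD 1 0) ++ [1, 4, 5]) * V [g] at h1
          rw [G_append] at h1
          rw [h1]
          have e : G (msk ((bp.getD g []).getD 1 0)) * G [1, 4, 5] * V [g] * (V [g])⁻¹ * (G [1, 4, 5])⁻¹ =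
            PackA.em ((bp.getD g []).getD 1 0) := by rw [PackA.em]; group
          rw [e]
          exact em_mem _
    | one => simpa using one_mem E
    | mul x y hx hy ihx ihy =>
      have e : V [g] * (x * y) * (V [g])⁻¹ * (x * y)⁻¹ =
        (V [g] * x * (V [g])⁻¹ * x⁻¹) * (x * (V [g] * y * (V [g])⁻¹ * y⁻¹) * x⁻¹) := by group
      rw [e]
      have hxB : x ∈ B := hx
      exact mul_mem ihx (E_nor _ (Cfsg.Agent.OddHalf.D9.Ru.XR.R_le (B_le_R hxB)) _ ihy)
    | inv x hx ihx =>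
      have e : V [g] * x⁻¹ * (V [g])⁻¹ * x⁻¹⁻¹ = x⁻¹ * (V [g] * x * (V [g])⁻¹ * x⁻¹)⁻¹ * x⁻¹⁻¹ := by group
      rw [e]
      have hxB : x ∈ B := hx
      exact E_nor _ (inv_mem (Cfsg.Agent.OddHalf.D9.Ru.XR.R_le (B_le_R hxB))) _ (inv_mem ihx)
  intro b hb p hp
  have hp' : p ∈ closure ({S1, T, D, Y} : Set RuOrder.H) := hp
  clear hp
  revert b
  induction hp' using closure_induction with
  | mem x hx =>
    intro b hb
    obtain ⟨g, hg, rfl⟩ := gen_eq hx
    exact one g hg b hb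
  | one => intro b hb; simpa using one_mem E
  | mul x y hx hy ihx ihy =>
    intro b hb
    have e : x * y * b * (x * y)⁻¹ * b⁻¹ = (x * (y * b * y⁻¹ * b⁻¹) * x⁻¹) * (x * b * x⁻¹ * b⁻¹) := by group
    rw [e]
    exact mul_mem (E_nor _ hx _ (ihy b hb)) (ihx b hb)
  | inv x hx ihx =>
    intro b hb
    have e : x⁻¹ * b * x⁻¹⁻¹ * b⁻¹ = x⁻¹ * (x * b * x⁻¹ * b⁻¹)⁻¹ * x⁻¹⁻¹ := by group
    rw [e]
    exact E_nor _ (inv_mem hx) _ (inv_mem (ihx b hb))

/-! ### commutators in `B` -/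

/-- `⟨z⟩` -/
noncomputable def Zg : Subgroup RuOrder.H where
  carrier := {x | x = 1 ∨ x = S * S}
  one_mem' := Or.inl rfl
  mul_mem' := by
    rintro x y (rfl | rfl) (rfl | rfl)
    · exact Or.inl (mul_one _)
    · exact Or.inr (one_mul _)
    · exact Or.inr (mul_one _)
    · exact Or.inl zz
  inv_mem' := by
    rintro x (rfl | rfl)
    · exact Or.inl inv_one
    · exact Or.inr (inv_eq_of_mul_eq_one_right zz)

theorem mem_Zg {x : RuOrder.H} : x ∈ Zg ↔ x = 1 ∨ x = S * S := Iff.rfl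

theorem chk_jj : eqw (gg ([0, 1, 3] ++ [1, 4, 5])) (gg ([7, 9, 10] ++ ([1, 4, 5] ++ [0, 1, 3]))) = true := by
  decide +kernel

theorem BB : ∀ b ∈ B, ∀ c ∈ B, ⁅b, c⁆ ∈ Zg := by
  have hj : ⁅G [0, 1, 3], G [1, 4, 5]⁆ = S * S := by
    have h := eqw_sound chk_jj
    change G ([0, 1, 3] ++ [1, 4, 5]) = G ([7, 9, 10] ++ ([1, 4, 5] ++ [0, 1, 3])) at h
    rw [G_append, G_append, G_append, z_eq] at h
    rw [commutatorElement_def, h]
    group
  have hj' : ⁅G [1, 4, 5], G [0, 1, 3]⁆ = S * S := by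
    rw [← commutatorElement_inv, hj]
    exact inv_eq_of_mul_eq_one_right zz
  refine Cfsg.Agent.OddHalf.D9.Ru.XAbs.comm_mem (t := gE ∪ {G [0, 1, 3], G [1, 4, 5]}) rfl ?_ ?_
  · rintro g hg x (rfl | rfl)
    · left; group
    · right
      rw [z_comm g (Cfsg.Agent.OddHalf.D9.Ru.XR.R_le (B_le_R hg)), mul_inv_cancel_right]
  · have hE : ∀ x ∈ gE, ∀ y ∈ B, ⁅x, y⁆ = 1 := fun x hx y hy =>
      commutatorElement_eq_one_iff_mul_comm.2 (B_comm y hy x (subset_closure hx)).symm
    rintro x (hx | hx) y hy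
    · left
      exact hE x hx y (subset_closure hy)
    · rcases hy with hy | hy
      · left
        exact commutatorElement_eq_one_iff_mul_comm.2 (B_comm x (subset_closure (Or.inr hx)) y (subset_closure hy))
      · simp only [Set.mem_insert_iff, Set.mem_singleton_iff] at hx hy
        rcases hx with rfl | rfl <;> rcases hy with rfl | rfl
        · left; exact commutatorElement_self _
        · right; exact hj
        · right; exact hj'
        · left; exact commutatorElement_self _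

end Cfsg.Agent.KFacts.Ru.PackB
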