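import Cfsg.Agent.KFacts.Ru.PackB
import Cfsg.Agent.OddHalf.D8.RuFam.BDef

/-!
# Packet P for the Rudvalis group, second part: `Loc ⊤ (S * S) P1 R B E` on `RuOrder.H`
-/

set_option autoImplicit false
set_option maxRecDepth 100000
set_option exponentiation.threshold 5000

namespace Cfsg.Agent.KFacts.Ru.PackC

open Subgroup Cfsg.Agent.Lib Cfsg.Agent.SporadicB
open Cfsg.Agent.RuD.Letters Cfsg.Agent.SporRec.TCUpperCert Cfsg.Agent.SporRec.R3.Kernel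
open Cfsg.Agent.OddHalf.D9.Ru.XDef Cfsg.Agent.OddHalf.D9.Ru.XData Cfsg.Agent.OddHalf.D9.Ru.XChk
open Cfsg.Agent.OddHalf.D9.Ru.XR Cfsg.Agent.KFacts.Ru.PackA Cfsg.Agent.KFacts.Ru.PackB
open Cfsg.Agent.OddHalf.D9.Ru
open scoped commutatorElement

/-! ### the derived group -/

theorem G_R {i : ℕ} (hi : i < 11) : G [i] ∈ XR.R := subset_closure ⟨i, hi, rfl⟩

theorem chk_cm' : ∀ i < 6, ∀ j < 6, eqw (gg [i, j]) (gg (cmE i j ++ [j, i])) = true := chk_cm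

theorem comm_gen {i j : ℕ} (hi : i < 6) (hj : j < 6) : ⁅G [i], G [j]⁆ = G (cmE i j) := by
  have h := eqw_sound (chk_cm i hi j hj)
  change G [i, j] = G (cmE i j ++ [j, i]) at h
  rw [G_append, G_two, G_two] at h
  rw [commutatorElement_def, h]
  group

theorem RR_mem {i j : ℕ} (hi : i < 6) (hj : j < 6) : G (cmE i j) ∈ ⁅XR.R, XR.R⁆ := by
  rw [← comm_gen hi hj]
  exact commutator_mem_commutator (G_R (by omega)) (G_R (by omega))

theorem RR : ⁅XR.R, XR.R⁆ = XR.E := by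
  refine le_antisymm XR.RR ?_
  have m1 : G [6, 7, 9, 10] ∈ ⁅XR.R, XR.R⁆ := RR_mem (i := 0) (j := 1) (by norm_num) (by norm_num)
  have m3 : G [6, 9, 10] ∈ ⁅XR.R, XR.R⁆ := RR_mem (i := 0) (j := 3) (by norm_num) (by norm_num)
  have m4 : G [6, 7, 10] ∈ ⁅XR.R, XR.R⁆ := RR_mem (i := 0) (j := 4) (by norm_num) (by norm_num)
  have m5 : G [6, 7, 9] ∈ ⁅XR.R, XR.R⁆ := RR_mem (i := 0) (j := 5) (by norm_num) (by norm_num)
  have m8 : G [8, 9, 10] ∈ ⁅XR.R, XR.R⁆ := RR_mem (i := 1) (j := 2) (by norm_num) (by norm_num)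
  have k1 : PackA.em 27 ∈ ⁅XR.R, XR.R⁆ := m1
  have k3 : PackA.em 25 ∈ ⁅XR.R, XR.R⁆ := m3
  have k4 : PackA.em 19 ∈ ⁅XR.R, XR.R⁆ := m4
  have k5 : PackA.em 11 ∈ ⁅XR.R, XR.R⁆ := m5
  have k8 : PackA.em 28 ∈ ⁅XR.R, XR.R⁆ := m8
  have e7 : PackA.em 2 ∈ ⁅XR.R, XR.R⁆ := by
    rw [show 2 = 27 ^^^ 25 by rfl, em_xor]; exact mul_mem k1 k3
  have e9 : PackA.em 8 ∈ ⁅XR.R, XR.R⁆ := by
    rw [show 8 = 27 ^^^ 19 by rfl, em_xor]; exact mul_mem k1 k4
  have e10 : PackA.em 16 ∈ ⁅XR.R, XR.R⁆ := by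
    rw [show 16 = 27 ^^^ 11 by rfl, em_xor]; exact mul_mem k1 k5
  have e6 : PackA.em 1 ∈ ⁅XR.R, XR.R⁆ := by
    rw [show 1 = 25 ^^^ (8 ^^^ 16) by rfl, em_xor, em_xor 8]; exact mul_mem k3 (mul_mem e9 e10)
  have e8 : PackA.em 4 ∈ ⁅XR.R, XR.R⁆ := by
    rw [show 4 = 28 ^^^ (8 ^^^ 16) by rfl, em_xor, em_xor 8]; exact mul_mem k8 (mul_mem e9 e10)
  rw [XR.E, closure_le]
  rintro x ⟨i, hi, rfl⟩
  interval_cases i
  · exact e6
  · exact e7
  · exact e8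
  · exact e9
  · exact e10

/-! ### `[R, P1] = R` -/

theorem conj_G {g i : ℕ} (hg : g < 4) (hi : i < 11) : V [g] * G [i] * (V [g])⁻¹ = G (ctE g i) := conj_eq hg hi

theorem RRP : XR.R ≤ ⁅XR.R, P1⁆ := by
  have hE : XR.E ≤ ⁅XR.R, P1⁆ := by
    rw [← RR]
    exact commutator_mono le_rfl XR.R_le
  have cm : ∀ r ∈ XR.R, ∀ p ∈ P1, p * r * p⁻¹ * r⁻¹ ∈ ⁅XR.R, P1⁆ := by
    intro r hr p hp
    have h := commutator_mem_commutator hr hp
    have e : p * r * p⁻¹ * r⁻¹ = ⁅r, p⁆⁻¹ := by rw [commutatorElement_def]; group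
    rw [e]
    exact inv_mem h
  have step : ∀ r ∈ XR.R, r ∈ ⁅XR.R, P1⁆ → ∀ p ∈ P1, p * r * p⁻¹ ∈ ⁅XR.R, P1⁆ := by
    intro r hr h p hp
    have e : p * r * p⁻¹ = p * r * p⁻¹ * r⁻¹ * r := by group
    rw [e]
    exact mul_mem (cm r hr p hp) h
  have g0 : G [0] ∈ ⁅XR.R, P1⁆ := by
    have h1 := cm (G [2]) (G_R (by norm_num)) (V [0]) (V_mem _)
    rw [conj_G (by norm_num) (by norm_num)] at h1
    change G [0, 2, 6, 7, 8, 9, 10] * (G [2])⁻¹ ∈ _ at h1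
    rw [G_cons 0 [2, 6, 7, 8, 9, 10], G_cons 2 [6, 7, 8, 9, 10]] at h1
    have hx : G [2] * G [6, 7, 8, 9, 10] * (G [2])⁻¹ ∈ ⁅XR.R, P1⁆ :=
      hE (E_nor _ (XR.R_le (G_R (by norm_num))) _ (em_mem 31))
    have e : G [0] = G [0] * (G [2] * G [6, 7, 8, 9, 10]) * (G [2])⁻¹ * (G [2] * G [6, 7, 8, 9, 10] * (G [2])⁻¹)⁻¹ := by
      group
    rw [e]
    exact mul_mem h1 (inv_mem hx)
  have g1 : G [1] ∈ ⁅XR.R, P1⁆ := by
    have h := step _ (G_R (by norm_num)) g0 (V [2]) (V_mem _)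
    rw [conj_G (by norm_num) (by norm_num)] at h
    exact h
  have g3 : G [3] ∈ ⁅XR.R, P1⁆ := by
    have h := step _ (G_R (by norm_num)) g1 (V [2]) (V_mem _)
    rw [conj_G (by norm_num) (by norm_num)] at h
    exact h
  have g2 : G [2] ∈ ⁅XR.R, P1⁆ := by
    have h := step _ (G_R (by norm_num)) g0 (V [3]) (V_mem _)
    rw [conj_G (by norm_num) (by norm_num)] at h
    exact h
  have g4 : G [4] ∈ ⁅XR.R, P1⁆ := by
    have h := step _ (G_R (by norm_num)) g1 (V [3]) (V_mem _)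
    rw [conj_G (by norm_num) (by norm_num)] at h
    exact h
  have g5 : G [5] ∈ ⁅XR.R, P1⁆ := by
    have h := step _ (G_R (by norm_num)) g4 (V [0]) (V_mem _)
    rw [conj_G (by norm_num) (by norm_num)] at h
    exact h
  conv_lhs => unfold XR.R
  rw [closure_le]
  rintro x ⟨i, hi, rfl⟩
  rcases lt_or_ge i 6 with h | h
  · interval_cases i
    · exact g0
    · exact g1
    · exact g2
    · exact g3
    · exact g4
    · exact g5
  · obtain ⟨j, rfl⟩ : ∃ j, i = j + 6 := ⟨i - 6, by omega⟩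
    exact hE (subset_closure ⟨j, by omega, rfl⟩)

/-! ### the homomorphisms `R / B → E / z` -/

theorem chk_p2 : eqw ([5, 0, 2] ++ gg [0]) (gg [0] ++ [5, 0, 2]) = true := by decide +kernel
theorem chk_p1 : eqw ([0] ++ gg [0]) (gg [0] ++ [0]) = true := by decide +kernel

theorem chk_h4 : ∀ m < 32, (acw [0] m ≠ m ∧ acw [0] m ≠ 26 ^^^ m) ∨ (acw [5, 0, 2] m ≠ m ∧
    acw [5, 0, 2] m ≠ 26 ^^^ m) ∨ m = 0 ∨ m = 26 ∨ m = 2 ∨ m = 24 ∨ m = 3 ∨ m = 25 ∨ m = 1 ∨ m = 27 := by decide +kernel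

theorem acw_lt' : ∀ m < 32, acw [0] m < 32 ∧ acw [5, 0, 2] m < 32 := by decide +kernel

theorem chk_b1 : eqw (gg ([0, 1, 3] ++ [0])) (gg (msk 2 ++ ([0] ++ [0, 1, 3]))) = true := by decide +kernel
theorem chk_b2 : eqw (gg ([1, 4, 5] ++ [0])) (gg (msk 3 ++ ([0] ++ [1, 4, 5]))) = true := by decide +kernel
theorem chk_b3 : eqw (gg (([0, 1, 3] ++ [1, 4, 5]) ++ [0])) (gg (msk 1 ++ ([0] ++ ([0, 1, 3] ++ [1, 4, 5])))) = true := by
  decide +kernel

theorem comm_b1 : G [0, 1, 3] * G [0] * (G [0, 1, 3])⁻¹ * (G [0])⁻¹ = PackA.em 2 := by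
  have h := eqw_sound chk_b1
  change G ([0, 1, 3] ++ [0]) = G (msk 2 ++ ([0] ++ [0, 1, 3])) at h
  rw [G_append, G_append, G_append] at h
  rw [h, PackA.em]
  group

theorem comm_b2 : G [1, 4, 5] * G [0] * (G [1, 4, 5])⁻¹ * (G [0])⁻¹ = PackA.em 3 := by
  have h := eqw_sound chk_b2
  change G ([1, 4, 5] ++ [0]) = G (msk 3 ++ ([0] ++ [1, 4, 5])) at h
  rw [G_append, G_append, G_append] at h
  rw [h, PackA.em]
  group

theorem comm_b3 : G [0, 1, 3] * G [1, 4, 5] * G [0] * (G [0, 1, 3] * G [1, 4, 5])⁻¹ * (G [0])⁻¹ = PackA.em 1 := by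
  have h := eqw_sound chk_b3
  change G (([0, 1, 3] ++ [1, 4, 5]) ++ [0]) = G (msk 1 ++ ([0] ++ ([0, 1, 3] ++ [1, 4, 5]))) at h
  rw [G_append, G_append, G_append, G_append, G_append] at h
  rw [h, PackA.em]
  group

theorem em_comm_cases {w : List ℕ} (hw : (w.all fun a => Nat.blt a 6) = true) {m : ℕ} (hm : m < 32)
    (hm' : acw w m < 32) (h : V w * PackA.em m * (V w)⁻¹ * (PackA.em m)⁻¹ = 1 ∨
      V w * PackA.em m * (V w)⁻¹ * (PackA.em m)⁻¹ = S * S) : acw w m = m ∨ acw w m = 26 ^^^ m := by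
  rw [word_em hw] at h
  rcases h with h | h
  · left
    exact em_inj hm' hm (mul_inv_eq_one.1 h)
  · right
    refine em_inj hm' (Nat.xor_lt_two_pow (n := 5) (by norm_num) hm) ?_
    rw [em_xor, em_z, ← h]
    group

theorem hom4 : ∃ r₁ ∈ XR.R, (∀ Q : Subgroup RuOrder.H, PackA.B ≤ Q → r₁ ∈ Q → (∀ p ∈ P1, ∀ q ∈ Q, p * q * p⁻¹ ∈ Q) →
      XR.R ≤ Q) ∧
    ∀ e ∈ XR.E, (∀ p ∈ P1, p * r₁ * p⁻¹ * r₁⁻¹ ∈ PackA.B → p * e * p⁻¹ * e⁻¹ = 1 ∨ p * e * p⁻¹ * e⁻¹ = S * S) →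
      ∃ b ∈ PackA.B, b * r₁ * b⁻¹ * r₁⁻¹ = e ∨ b * r₁ * b⁻¹ * r₁⁻¹ = e * (S * S) := by
  refine ⟨G [0], G_R (by norm_num), ?_, ?_⟩
  · intro Q hB h0 hn
    have h2 := hn (V [3]) (V_mem _) _ h0
    rw [conj_G (by norm_num) (by norm_num)] at h2
    have h1 := hn (V [2]) (V_mem _) _ h0
    rw [conj_G (by norm_num) (by norm_num)] at h1
    change G [1] ∈ Q at h1
    have h3 := hn (V [2]) (V_mem _) _ h1
    rw [conj_G (by norm_num) (by norm_num)] at h3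
    have h4 := hn (V [3]) (V_mem _) _ h1
    rw [conj_G (by norm_num) (by norm_num)] at h4
    exact PackA.R_le Q hB h0 h2 h3 h4
  · intro e he h
    obtain ⟨m, hm, rfl⟩ := exists_em e he
    have c1 := h (V [0]) (V_mem _) (by
      have h1 := eqw_sound chk_p1
      rw [V_append, V_append] at h1
      change V [0] * G [0] = G [0] * V [0] at h1
      rw [h1, mul_inv_cancel_right, mul_inv_cancel]
      exact one_mem _)
    have c2 := h (V [5, 0, 2]) (V_mem _) (by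
      have h1 := eqw_sound chk_p2
      rw [V_append, V_append] at h1
      change V [5, 0, 2] * G [0] = G [0] * V [5, 0, 2] at h1
      rw [h1, mul_inv_cancel_right, mul_inv_cancel]
      exact one_mem _)
    have d1 := em_comm_cases (by decide) hm (acw_lt' m hm).1 c1
    have d2 := em_comm_cases (by decide) hm (acw_lt' m hm).2 c2
    have b1 : G [0, 1, 3] ∈ PackA.B := j1_mem
    have b2 : G [1, 4, 5] ∈ PackA.B := j2_mem
    have x2 : PackA.em 2 = PackA.em 24 * (S * S) := by rw [← em_z, ← em_xor]; rfl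
    have x3 : PackA.em 3 = PackA.em 25 * (S * S) := by rw [← em_z, ← em_xor]; rfl
    have x1 : PackA.em 1 = PackA.em 27 * (S * S) := by rw [← em_z, ← em_xor]; rfl
    have x0 : PackA.em 0 = PackA.em 26 * (S * S) := by rw [← em_z, ← em_xor]; rfl
    have o : (1 : RuOrder.H) * G [0] * 1⁻¹ * (G [0])⁻¹ = PackA.em 0 := by rw [em_zero]; group
    rcases chk_h4 m hm with h1 | h1 | rfl | rfl | rfl | rfl | rfl | rfl | rfl | rfl
    · exact absurd d1 (by rintro (h2 | h2); exacts [h1.1 h2, h1.2 h2])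
    · exact absurd d2 (by rintro (h2 | h2); exacts [h1.1 h2, h1.2 h2])
    · exact ⟨1, one_mem _, Or.inl o⟩
    · exact ⟨1, one_mem _, Or.inr (o.trans x0)⟩
    · exact ⟨_, b1, Or.inl comm_b1⟩
    · exact ⟨_, b1, Or.inr (comm_b1.trans x2)⟩
    · exact ⟨_, b2, Or.inl comm_b2⟩
    · exact ⟨_, b2, Or.inr (comm_b2.trans x3)⟩
    · exact ⟨_, mul_mem b1 b2, Or.inl comm_b3⟩
    · exact ⟨_, mul_mem b1 b2, Or.inr (comm_b3.trans x1)⟩

/-! ### `{b ∈ B | [b, R] ≤ ⟨z⟩} = E` -/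

theorem B_cases : ∀ b ∈ PackA.B, b ∈ XR.E ∨ (G [0, 1, 3])⁻¹ * b ∈ XR.E ∨ (G [1, 4, 5])⁻¹ * b ∈ XR.E ∨
    (G [0, 1, 3] * G [1, 4, 5])⁻¹ * b ∈ XR.E := by
  intro b hb
  have h1 : G [0, 1, 3] ∈ XR.R := B_le_R j1_mem
  have h2 : G [1, 4, 5] ∈ XR.R := B_le_R j2_mem
  let M1 := adj XR.E XR.E XR.R (G [1, 4, 5]) le_rfl E_le_R h2 sq_R comm_R
  have l1 : XR.E ≤ M1 := le_adj _ _ _ _ _
  have k1 : M1 ≤ XR.R := adj_le _ _ _ _ _
  let M2 := adj XR.E M1 XR.R (G [0, 1, 3]) l1 k1 h1 sq_R comm_R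
  have l2 : M1 ≤ M2 := le_adj _ _ _ _ _
  have hb2 : b ∈ M2 := by
    have : PackA.B ≤ M2 := by
      unfold PackA.B
      rw [closure_le]
      rintro x (hx | hx)
      · exact l2 (l1 (subset_closure hx))
      · simp only [Set.mem_insert_iff, Set.mem_singleton_iff] at hx
        rcases hx with rfl | rfl
        · exact Or.inr (by change (G [0, 1, 3])⁻¹ * G [0, 1, 3] ∈ M1; rw [inv_mul_cancel]; exact one_mem _)
        · exact l2 (Or.inr (by change (G [1, 4, 5])⁻¹ * G [1, 4, 5] ∈ XR.E; rw [inv_mul_cancel]; exact one_mem _))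
    exact this hb
  rcases hb2 with h | h
  · rcases h with h | h
    · exact Or.inl h
    · exact Or.inr (Or.inr (Or.inl h))
  · rcases h with h | h
    · exact Or.inr (Or.inl h)
    · right; right; right
      have e : (G [0, 1, 3] * G [1, 4, 5])⁻¹ * b = (G [1, 4, 5])⁻¹ * ((G [0, 1, 3])⁻¹ * b) := by group
      rw [e]
      exact h

theorem BE : ∀ b ∈ PackA.B, (∀ r ∈ XR.R, b * r * b⁻¹ * r⁻¹ = 1 ∨ b * r * b⁻¹ * r⁻¹ = S * S) → b ∈ XR.E := by
  intro b hb h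
  have key : ∀ (j : RuOrder.H) (m : ℕ), j ∈ PackA.B → m < 32 → m ≠ 0 → m ≠ 26 → j * G [0] * j⁻¹ * (G [0])⁻¹ = PackA.em m →
      j⁻¹ * b ∈ XR.E → False := by
    intro j m hj hm hm0 hm26 h1 h2
    have h3 := h _ (G_R (i := 0) (by norm_num))
    set e := j⁻¹ * b with he
    have hb' : b = j * e := by rw [he, mul_inv_cancel_left]
    have h4 := comm_RE _ (G_R (i := 0) (by norm_num)) e h2
    have hjz : j * (S * S) = S * S * j := z_comm j (XR.R_le (B_le_R hj))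
    have hEc : e * PackA.em m = PackA.em m * e := E_comm _ h2 _ (em_mem m)
    have e4 : b * G [0] * b⁻¹ * (G [0])⁻¹ = j * (e * G [0] * e⁻¹ * (G [0])⁻¹) * j⁻¹ * (j * G [0] * j⁻¹ * (G [0])⁻¹) := by
      rw [hb']; group
    have e5 : e * G [0] * e⁻¹ * (G [0])⁻¹ = ⁅G [0], e⁆⁻¹ := by rw [commutatorElement_def]; group
    have hzi : (S * S)⁻¹ = S * S := inv_eq_of_mul_eq_one_right zz
    have e6 : j * (e * G [0] * e⁻¹ * (G [0])⁻¹) * j⁻¹ = 1 ∨ j * (e * G [0] * e⁻¹ * (G [0])⁻¹) * j⁻¹ = S * S := by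
      rcases h4 with h4 | h4
      · left; rw [e5, h4]; group
      · right; rw [e5, h4, hzi, hjz, mul_inv_cancel_right]
    rw [e4, h1] at h3
    have z26 : ∀ x : RuOrder.H, (x = 1 ∨ x = S * S) → x = PackA.em 0 ∨ x = PackA.em 26 := fun x hx => by
      rw [em_z, em_zero]; exact hx
    have h7 : PackA.em m = PackA.em 0 ∨ PackA.em m = PackA.em 26 := by
      rcases e6 with e6 | e6 <;> rw [e6] at h3
      · rw [one_mul] at h3
        exact z26 _ h3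
      · rcases h3 with h3 | h3
        · right
          rw [em_z]
          have := eq_inv_of_mul_eq_one_right h3
          rw [this, hzi]
        · left
          rw [em_zero]
          exact mul_eq_left.1 h3
    rcases h7 with h7 | h7
    · exact hm0 (em_inj hm (by norm_num) h7)
    · exact hm26 (em_inj hm (by norm_num) h7)
  rcases B_cases b hb with h1 | h1 | h1 | h1
  · exact h1
  · exact (key _ 2 j1_mem (by norm_num) (by norm_num) (by norm_num) comm_b1 h1).elim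
  · exact (key _ 3 j2_mem (by norm_num) (by norm_num) (by norm_num) comm_b2 h1).elim
  · exact (key _ 1 (mul_mem j1_mem j2_mem) (by norm_num) (by norm_num) (by norm_num) comm_b3 h1).elim

end Cfsg.Agent.KFacts.Ru.PackC
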