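import Cfsg.Agent.KFacts.Ru.PackC
import Cfsg.Agent.OddHalf.D8.RuFam.BDef
import Cfsg.Agent.OddHalf.D8.RuFam.Facts

/-!
# Packet P for the Rudvalis group, third part: `Loc ⊤ (S * S) P1 R B E` on `RuOrder.H`
-/

set_option autoImplicit false
set_option maxRecDepth 100000
set_option exponentiation.threshold 5000

namespace Cfsg.Agent.KFacts.Ru.PackD

open Subgroup Cfsg.Agent.Lib Cfsg.Agent.SporadicB
open Cfsg.Agent.RuD.Letters Cfsg.Agent.SporRec.TCUpperCert Cfsg.Agent.SporRec.R3.Kernel
open Cfsg.Agent.OddHalf.D9.Ru.XDef Cfsg.Agent.OddHalf.D9.Ru.XData Cfsg.Agent.OddHalf.D9.Ru.XChk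
open Cfsg.Agent.OddHalf.D9.Ru.XR Cfsg.Agent.KFacts.Ru.PackA Cfsg.Agent.KFacts.Ru.PackB Cfsg.Agent.KFacts.Ru.PackC
open Cfsg.Agent.OddHalf.D9.Ru
open scoped commutatorElement

/-! ### the homomorphisms `R / B → ⟨z⟩` -/

theorem tw_em_mul {x : RuOrder.H} {m n : ℕ} {a b : Bool} (hx : x ∈ P1) (h1 : Tw x (PackA.em m) a)
    (h2 : Tw x (PackA.em n) b) : Tw x (PackA.em (m ^^^ n)) (xor a b) := by
  unfold Tw at h1 h2 ⊢
  rw [em_xor]
  have hm : PackA.em m * zb b = zb b * PackA.em m := zb_comm (XR.E_le (em_mem m)) b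
  calc x * (PackA.em m * PackA.em n) = zb a * PackA.em m * (x * PackA.em n) := by rw [← mul_assoc, h1]; group
    _ = zb a * (PackA.em m * zb b) * PackA.em n * x := by rw [h2]; group
    _ = zb (xor a b) * (PackA.em m * PackA.em n) * x := by rw [hm, zb_xor]; group

theorem tw_bifE {x : RuOrder.H} {m : ℕ} {d : Bool} (h : Tw x (PackA.em m) d) (c : Bool) :
    Tw x (PackA.em (bif c then m else 0)) (c && d) := by
  cases c
  · unfold Tw
    rw [cond_false, em_zero, Bool.false_and]
    change x * 1 = 1 * 1 * x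
    group
  · exact h

/-- the element of `E` with prescribed commutators with the generators -/
theorem exists_dual (c : ℕ → Bool) : ∃ e ∈ XR.E, ∀ i < 4, Tw (G [rl.getD i 0]) e (c i) := by
  refine ⟨PackA.em ((bif c 0 then dl.getD 0 0 else 0) ^^^ ((bif c 1 then dl.getD 1 0 else 0) ^^^
    ((bif c 2 then dl.getD 2 0 else 0) ^^^ (bif c 3 then dl.getD 3 0 else 0)))), em_mem _, fun i hi => ?_⟩
  have hP : G [rl.getD i 0] ∈ P1 := XR.R_le (Gr_mem hi)
  have t := fun {j : ℕ} (hj : j < 4) => tw_bifE (tw_dual hi hj) (c j)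
  have key := tw_em_mul hP (t (j := 0) (by norm_num)) (tw_em_mul hP (t (j := 1) (by norm_num))
    (tw_em_mul hP (t (j := 2) (by norm_num)) (t (j := 3) (by norm_num))))
  have e : (xor (c 0 && Nat.beq i 0) (xor (c 1 && Nat.beq i 1) (xor (c 2 && Nat.beq i 2) (c 3 && Nat.beq i 3)))) =
      c i := by
    interval_cases i
    · rw [show Nat.beq 0 0 = true from rfl, show Nat.beq 0 1 = false from rfl, show Nat.beq 0 2 = false from rfl,
        show Nat.beq 0 3 = false from rfl]; simp
    · rw [show Nat.beq 1 0 = false from rfl, show Nat.beq 1 1 = true from rfl, show Nat.beq 1 2 = false from rfl,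
        show Nat.beq 1 3 = false from rfl]; simp
    · rw [show Nat.beq 2 0 = false from rfl, show Nat.beq 2 1 = false from rfl, show Nat.beq 2 2 = true from rfl,
        show Nat.beq 2 3 = false from rfl]; simp
    · rw [show Nat.beq 3 0 = false from rfl, show Nat.beq 3 1 = false from rfl, show Nat.beq 3 2 = false from rfl,
        show Nat.beq 3 3 = true from rfl]; simp
  rw [e] at key
  exact key

theorem dual : ∀ Q ≤ XR.R, PackA.B ≤ Q → (∀ r ∈ XR.R, ∀ s ∈ XR.R, r ∉ Q → s ∉ Q → r * s ∈ Q) →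
    ∃ e ∈ XR.E, ∀ r ∈ XR.R, (r ∈ Q ↔ e * r = r * e) := by
  classical
  intro Q hQ hB hi
  obtain ⟨e, he, hc⟩ := exists_dual fun i => decide (G [rl.getD i 0] ∉ Q)
  refine ⟨e, he, ?_⟩
  -- `C_R(e)` has index at most two, too
  have hE : ∀ r ∈ XR.R, e * r = r * e ∨ r * e = S * S * (e * r) := by
    intro r hr
    rcases comm_RE r hr e he with h | h
    · left
      exact (commutatorElement_eq_one_iff_mul_comm.1 h).symm
    · right
      rw [commutatorElement_def] at h
      rw [← h]; group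
  have par : ∀ r ∈ XR.R, ∀ s ∈ XR.R, e * r ≠ r * e → e * s ≠ s * e → e * (r * s) = r * s * e := by
    intro r hr s hs h1 h2
    have h3 := (hE r hr).resolve_left h1
    have h4 := (hE s hs).resolve_left h2
    have hz := z_comm r (XR.R_le hr)
    calc e * (r * s) = (S * S * (S * S)) * (e * r) * s := by rw [zz]; group
      _ = (S * S) * (r * e) * s := by rw [h3]; group
      _ = r * (S * S) * e * s := by rw [hz]; group
      _ = r * (s * e) := by rw [h4]; group
      _ = r * s * e := by group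
  have mul1 : ∀ r ∈ XR.R, ∀ s ∈ XR.R, (r * s ∈ Q ↔ (r ∈ Q ↔ s ∈ Q)) := by
    intro r hr s hs
    by_cases h1 : r ∈ Q <;> by_cases h2 : s ∈ Q
    · simp [h1, h2, mul_mem]
    · simp only [h1, h2, iff_false, not_true_eq_false, iff_false]
      exact fun h => h2 (by simpa using mul_mem (inv_mem h1) h)
    · simp only [h1, h2, iff_true]
      constructor
      · intro h
        exact absurd (by simpa using mul_mem h (inv_mem h2)) h1
      · intro h
        exact absurd h (by simp)
    · simp only [h1, h2, iff_true]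
      exact hi r hr s hs h1 h2
  have mul2 : ∀ r ∈ XR.R, ∀ s ∈ XR.R, (e * (r * s) = r * s * e ↔ (e * r = r * e ↔ e * s = s * e)) := by
    intro r hr s hs
    by_cases h1 : e * r = r * e <;> by_cases h2 : e * s = s * e
    · simp only [h1, h2, iff_true]
      calc e * (r * s) = e * r * s := by group
        _ = r * (e * s) := by rw [h1]; group
        _ = r * s * e := by rw [h2]; group
    · refine iff_of_false (fun h => h2 ?_) (fun h => h2 (h.1 h1))
      have h3 : r * (e * s) = r * (s * e) := by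
        calc r * (e * s) = e * r * s := by rw [h1]; group
          _ = e * (r * s) := by group
          _ = r * (s * e) := by rw [h]; group
      exact mul_left_cancel h3
    · refine iff_of_false (fun h => h1 ?_) (fun h => h1 (h.2 h2))
      have h3 : e * r * s = r * e * s := by
        calc e * r * s = e * (r * s) := by group
          _ = r * (s * e) := by rw [h]; group
          _ = r * e * s := by rw [← h2]; group
      exact mul_right_cancel h3
    · simp only [h1, h2, iff_true]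
      exact par r hr s hs h1 h2
  let Q' : Subgroup RuOrder.H := {
    carrier := {r | r ∈ XR.R ∧ (r ∈ Q ↔ e * r = r * e)}
    one_mem' := ⟨one_mem _, by simp [one_mem]⟩
    mul_mem' := by
      rintro r s ⟨hr, h1⟩ ⟨hs, h2⟩
      refine ⟨mul_mem hr hs, ?_⟩
      rw [mul1 r hr s hs, mul2 r hr s hs, h1, h2]
    inv_mem' := by
      rintro r ⟨hr, h1⟩
      refine ⟨inv_mem hr, ?_⟩
      rw [inv_mem_iff, h1]
      constructor
      · intro h
        calc e * r⁻¹ = r⁻¹ * (r * e) * r⁻¹ := by group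
          _ = r⁻¹ * (e * r) * r⁻¹ := by rw [h]
          _ = r⁻¹ * e := by group
      · intro h
        calc e * r = r * (r⁻¹ * e) * r := by group
          _ = r * (e * r⁻¹) * r := by rw [h]
          _ = r * e := by group }
  have hQ' : XR.R ≤ Q' := by
    have gen : ∀ i < 4, G [rl.getD i 0] ∈ Q' := by
      intro i hi4
      refine ⟨Gr_mem hi4, ?_⟩
      have h := (hc i hi4).false_iff
      rw [eq_comm (a := e * _), ← h]
      simp
    refine PackA.R_le Q' ?_ (gen 0 (by norm_num)) (gen 1 (by norm_num)) (gen 2 (by norm_num)) (gen 3 (by norm_num))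
    intro b hb
    exact ⟨B_le_R hb, ⟨fun _ => (B_comm b hb e he).symm, fun _ => hB hb⟩⟩
  intro r hr
  exact (hQ' hr).2

/-! ### the element of order 5 -/

/-- `m`, `a m a⁻¹`, .. -/
def ia (m : ℕ) (k : ℕ) : ℕ := (List.replicate k 0).foldr (fun _ x => acw [0, 2, 3] x) m

/-- combination of `z`, `m`, `a m a⁻¹`, `a² m a⁻²`, `a³ m a⁻³` -/
def cb (m c : ℕ) : ℕ := (bif c.testBit 0 then 26 else 0) ^^^ ((bif c.testBit 1 then m else 0) ^^^
  ((bif c.testBit 2 then ia m 1 else 0) ^^^ ((bif c.testBit 3 then ia m 2 else 0) ^^^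
    (bif c.testBit 4 then ia m 3 else 0))))

theorem chk_irr : ∀ m < 32, m = 0 ∨ m = 26 ∨ ∀ j < 5, ∃ c < 32, cb m c = 2 ^ j := by decide +kernel

theorem chk_a5 : eqw ([0, 2, 3] ++ ([0, 2, 3] ++ ([0, 2, 3] ++ ([0, 2, 3] ++ [0, 2, 3])))) [] = true := by
  decide +kernel

theorem chk_a1 : eqw [0, 2, 3] [] = false := by decide +kernel

theorem chk_n : eqv (XCover.hw ++ ((gg [2, 3, 4, 6] ++ [5]) ++ [0, 2, 3]).flatMap ex)
    (([0, 2, 3] ++ [0, 2, 3]).flatMap ex ++ (XCover.hw ++ (gg [2, 3, 4, 6] ++ [5]).flatMap ex)) = true := by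
  decide +kernel

theorem five : ∃ a ∈ P1, a ^ 5 = 1 ∧ a ≠ 1 ∧ (∃ n ∈ (⊤ : Subgroup RuOrder.H), n * (S * S) = S * S * n ∧
      n * a * n⁻¹ = a ^ 2) ∧
    ∀ Q ≤ XR.E, S * S ∈ Q → (∀ q ∈ Q, a * q * a⁻¹ ∈ Q) → (∀ q ∈ Q, q = 1 ∨ q = S * S) ∨ Q = XR.E := by
  refine ⟨V [0, 2, 3], V_mem _, ?_, ?_, ⟨XCover.h * V (gg [2, 3, 4, 6] ++ [5]), mem_top _, ?_, ?_⟩, ?_⟩
  · have h := eqw_sound chk_a5
    rw [V_append, V_append, V_append, V_append, V_nil] at h
    rw [← h]
    simp only [pow_succ, pow_zero, one_mul, mul_assoc]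
  · intro h
    exact ne_of_eqw chk_a1 h
  · have h1 := z_comm _ (V_mem (gg [2, 3, 4, 6] ++ [5]))
    have h2 : XCover.h * (S * S) = S * S * XCover.h := XCover.hz_comm
    calc XCover.h * V (gg [2, 3, 4, 6] ++ [5]) * (S * S) = XCover.h * (V (gg [2, 3, 4, 6] ++ [5]) * (S * S)) := by
          group
      _ = XCover.h * (S * S) * V (gg [2, 3, 4, 6] ++ [5]) := by rw [h1]; group
      _ = _ := by rw [h2]; group
  · have h := eqv_sound chk_n
    rw [wprod_append, wprod_append, wprod_append] at h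
    change XCover.h * V ((gg [2, 3, 4, 6] ++ [5]) ++ [0, 2, 3]) = V ([0, 2, 3] ++ [0, 2, 3]) *
      (XCover.h * V (gg [2, 3, 4, 6] ++ [5])) at h
    rw [V_append (gg [2, 3, 4, 6] ++ [5]), V_append [0, 2, 3]] at h
    rw [mul_inv_eq_iff_eq_mul, mul_assoc, h, pow_two]
  · intro Q hQ hz ha
    by_cases h : ∀ q ∈ Q, q = 1 ∨ q = S * S
    · exact Or.inl h
    · right
      push Not at h
      obtain ⟨q, hq, q1, qz⟩ := h
      obtain ⟨m, hm, rfl⟩ := exists_em q (hQ hq)
      have c0 : ∀ (b : Bool) {x : ℕ}, PackA.em x ∈ Q → PackA.em (bif b then x else 0) ∈ Q := by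
        intro b x hx
        cases b
        · rw [cond_false, em_zero]
          exact one_mem Q
        · exact hx
      have st : ∀ x, PackA.em x ∈ Q → PackA.em (acw [0, 2, 3] x) ∈ Q := by
        intro x hx
        rw [← word_em (by decide)]
        exact ha _ hx
      have i1 : PackA.em (ia m 1) ∈ Q := st _ hq
      have i2 : PackA.em (ia m 2) ∈ Q := st _ i1
      have i3 : PackA.em (ia m 3) ∈ Q := st _ i2
      have hz' : PackA.em 26 ∈ Q := by rw [em_z]; exact hz
      have hcb : ∀ c, PackA.em (cb m c) ∈ Q := by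
        intro c
        unfold cb
        rw [em_xor, em_xor, em_xor, em_xor]
        exact mul_mem (c0 _ hz') (mul_mem (c0 _ hq) (mul_mem (c0 _ i1) (mul_mem (c0 _ i2) (c0 _ i3))))
      rcases chk_irr m hm with rfl | rfl | h1
      · exact absurd em_zero q1
      · exact absurd em_z qz
      · refine le_antisymm hQ ?_
        rw [XR.E, closure_le]
        rintro x ⟨i, hi, rfl⟩
        obtain ⟨c, -, hc⟩ := h1 i hi
        have h2 := hcb c
        rw [hc] at h2
        interval_cases i <;> exact h2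

/-! ### assembly -/

theorem card_P1 : ¬ 25 ∣ Nat.card P1 := by
  intro h
  have h1 : Nat.card P1 ∣ Nat.card (centralizer ({S * S} : Set RuOrder.H)) := card_dvd_of_le P1_le
  rw [XCover.card_cent] at h1
  have h2 := h.trans h1
  omega

theorem mem_cent {p : RuOrder.H} (h : p * (S * S) = S * S * p) : p ∈ centralizer ({S * S} : Set RuOrder.H) :=
  mem_centralizer_singleton_iff.2 h

theorem com : ∀ p ∈ (⊤ : Subgroup RuOrder.H), ∀ q ∈ (⊤ : Subgroup RuOrder.H), p * (S * S) = S * S * p →
    q * (S * S) = S * S * q → p * q * p⁻¹ * q⁻¹ ∈ P1 := fun _ _ _ _ hp hq =>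
  XF.XF.comm_le XfRes.xf (commutator_mem_commutator (mem_cent hp) (mem_cent hq))

theorem idx : ∀ p ∈ (⊤ : Subgroup RuOrder.H), ∀ q ∈ (⊤ : Subgroup RuOrder.H), p * (S * S) = S * S * p →
    q * (S * S) = S * S * q → p ∉ P1 → q ∉ P1 → p * q ∈ P1 := by
  intro p _ q _ hp hq h1 h2
  have h3 := mem_cent hp
  have h4 := mem_cent hq
  rw [← XCover.M_eq, XCover.mem_M] at h3 h4
  have h5 := h3.resolve_left h1
  have h6 := h4.resolve_left h2
  have h7 := mul_mem (XCover.conj_h _ h5) h6
  have e : XCover.h * (XCover.h * p) * XCover.h * (XCover.h * q) = p * q := by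
    calc XCover.h * (XCover.h * p) * XCover.h * (XCover.h * q) =
        (XCover.h * XCover.h) * p * (XCover.h * XCover.h) * q := by group
      _ = p * q := by rw [XCover.hh]; group
  rwa [e] at h7

theorem BDef_eq : Cfsg.Agent.OddHalf.D8.RuFam.BDef.B = PackA.B := rfl

/-- **packet P** -/
theorem loc : Cfsg.Agent.OddHalf.D8.RuFam.Loc (⊤ : Subgroup RuOrder.H) (S * S) P1 XR.R
    Cfsg.Agent.OddHalf.D8.RuFam.BDef.B XR.E where
  zK := mem_top _
  zz := zz
  z1 := z1
  PK := le_top
  Pz := fun p hp => z_comm p hp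
  perf := XCover.P1_perf
  com := com
  idx := idx
  card := card_P1
  RP := XR.R_le
  R2 := R_two
  Rn := R_nor
  Rmax := R_max
  RR := PackC.RR
  zE := by rw [← em_z]; exact em_mem _
  EE := E_sq
  RE := RE
  ZR := ZR
  BR := B_le_R
  cenE := fun k _ => ⟨fun hk e he => B_comm k hk e he, fun h => cen_E h⟩
  BP := BP
  BB := fun b hb c hc => BB b hb c hc
  BE := BE
  RRP := RRP
  hom4 := hom4
  dual := dual
  five := five

end Cfsg.Agent.KFacts.Ru.PackD
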