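import Cfsg.Agent.RuD.Model

/-!
# A generating triple of 2A involutions of the Rudvalis group

In the model `RuOrder.H` (letters `T, S, W, F, D, Y` of `RuD.Letters`) the three conjugates `w i` of `S ^ 2` generate
the group, and any two of them commute with a common conjugate `c i j` of `T` (so they lie in a common `Sz(8)`).
-/

set_option autoImplicit false
set_option maxRecDepth 100000
set_option exponentiation.threshold 5000

namespace Cfsg.Agent.KFacts.Ru.Triple

open Cfsg.Agent.SporadicB Cfsg.Agent.RuD.Letters Cfsg.Agent.SporRec.TCUpperCert Cfsg.Agent.SporRec.R3.Kernel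

/-- the three involutions as words in the letters -/
def wl : List (List ℕ) := [[1, 1], [3, 2, 1, 1, 2, 7], [4, 5, 3, 6, 2, 1, 1, 2, 1, 7, 5, 8]]

/-- expansion of a word in the three involutions -/
def ex (u : List ℕ) : List ℕ := u.flatMap fun a => wl.getD a []

/-- the three involutions -/
def w (i : ℕ) : RuOrder.H := wprod ml (wl.getD i [])

/-- the letters as words in the three involutions, followed by the inverse letter -/
def ul : List (List ℕ) := [
  [1, 2, 1, 2, 1, 0, 2, 0, 1, 2, 0, 1, 0, 1, 2, 0, 2, 0, 1, 2, 0, 1, 2, 1, 0, 2, 0, 1, 0, 1, 2, 1, 0, 2, 0, 2, 0, 2, 0, 1, 0, 1, 0, 2, 0],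
  [2, 0, 1, 2, 0, 1, 0, 1, 2, 0, 2, 0, 2, 0, 1, 2, 0, 2, 0, 2, 0, 1, 0, 1, 0, 2, 1, 0, 2, 0, 2, 0, 1, 0, 1, 2, 0, 1, 0, 1],
  [0, 1, 2, 0, 1, 2, 0, 1, 0, 2, 0, 2, 0, 1, 0, 2, 1, 0, 1, 0, 2, 1, 0, 2, 0, 2, 0, 1, 2, 0, 1, 2, 1, 0],
  [1, 2, 1, 0, 2, 0, 1, 0, 2, 1, 0, 1, 0, 2, 0, 1, 2, 0, 1, 0, 2, 0, 2, 0, 2, 0, 2, 1, 0, 2, 1, 0, 1, 0, 1, 2, 1, 0, 2, 0, 1],
  [1, 0, 2, 1, 0, 1, 2, 0, 1, 2, 0, 1, 0, 1, 0, 1, 0, 1, 0, 1, 0, 2, 0, 1, 2, 1, 0, 1, 2, 1, 0, 1, 0, 1, 0, 2, 0, 2, 0, 1, 2, 1, 2, 1, 0],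
  [1, 0, 1, 2, 0, 1, 0, 2, 1, 0, 1, 0, 1, 2, 0, 2, 0, 1, 2, 0, 2, 0, 2, 0, 1, 0, 2, 0, 2, 0, 1, 2, 1, 0, 1, 2, 0, 1, 0, 1, 0, 2, 0, 2, 0, 1, 2, 0]]

/-- the inverse letters -/
def il : List ℕ := [0, 6, 2, 7, 8, 5]

theorem wprod_ex (u : List ℕ) : wprod ml (ex u) ∈ Subgroup.closure ({w 0, w 1, w 2} : Set RuOrder.H) := by
  induction u with
  | nil => exact one_mem _
  | cons a u ih =>
    have e : ex (a :: u) = wl.getD a [] ++ ex u := rfl
    rw [e, wprod_append]
    refine mul_mem ?_ ih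
    rcases lt_or_ge a 3 with h | h
    · apply Subgroup.subset_closure
      interval_cases a
      · exact Or.inl rfl
      · exact Or.inr (Or.inl rfl)
      · exact Or.inr (Or.inr rfl)
    · rw [List.getD_eq_default _ _ h]
      exact one_mem _

/-! ### generation -/

/-- the six relators `ex u ++ [i]` -/
def rl : List (List ℕ) := List.zipWith (fun u i => ex u ++ [i]) ul il

theorem chk_rl : chkRel rl = true := by decide +kernel

theorem mem_letter {u : List ℕ} {i : ℕ} (h : ex u ++ [i] ∈ rl) :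
    lv ml i ∈ Subgroup.closure ({w 0, w 1, w 2} : Set RuOrder.H) := by
  have h1 := rel_of_chk chk_rl _ h
  rw [wprod_append, wprod_cons, wprod_nil, mul_one] at h1
  have h2 : lv ml i = (wprod ml (ex u))⁻¹ := (inv_eq_of_mul_eq_one_right h1).symm
  rw [h2]
  exact inv_mem (wprod_ex u)

/-- **the three involutions generate the Rudvalis group** -/
theorem closure_w : Subgroup.closure ({w 0, w 1, w 2} : Set RuOrder.H) = ⊤ := by
  rw [eq_top_iff, ← Cfsg.Agent.RuD.Model.closure_model, Subgroup.closure_le]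
  have hT : lv ml 0 ∈ Subgroup.closure ({w 0, w 1, w 2} : Set RuOrder.H) :=
    mem_letter (u := ul.getD 0 []) (List.mem_of_getElem? (i := 0) rfl)
  have hS : lv ml 6 ∈ Subgroup.closure ({w 0, w 1, w 2} : Set RuOrder.H) :=
    mem_letter (u := ul.getD 1 []) (List.mem_of_getElem? (i := 1) rfl)
  have hW : lv ml 2 ∈ Subgroup.closure ({w 0, w 1, w 2} : Set RuOrder.H) :=
    mem_letter (u := ul.getD 2 []) (List.mem_of_getElem? (i := 2) rfl)
  have hF : lv ml 7 ∈ Subgroup.closure ({w 0, w 1, w 2} : Set RuOrder.H) :=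
    mem_letter (u := ul.getD 3 []) (List.mem_of_getElem? (i := 3) rfl)
  have hD : lv ml 8 ∈ Subgroup.closure ({w 0, w 1, w 2} : Set RuOrder.H) :=
    mem_letter (u := ul.getD 4 []) (List.mem_of_getElem? (i := 4) rfl)
  have hY : lv ml 5 ∈ Subgroup.closure ({w 0, w 1, w 2} : Set RuOrder.H) :=
    mem_letter (u := ul.getD 5 []) (List.mem_of_getElem? (i := 5) rfl)
  rintro x (rfl | rfl | rfl | rfl | rfl | rfl)
  · exact hT
  · exact inv_mem_iff.1 hS
  · exact hW
  · exact inv_mem_iff.1 hF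
  · exact inv_mem_iff.1 hD
  · exact hY

/-! ### the involutions of class 2B -/

/-- words for the commuting involutions `c 0 = T` (with `w 0, w 1`), `c 1` (with `w 0, w 2`), `c 2` (with `w 1, w 2`) -/
def cl : List (List ℕ) := [[0], [5, 0, 5], [1, 2, 6, 3, 5, 0, 5, 7, 1, 2, 6]]

def c (i : ℕ) : RuOrder.H := wprod ml (cl.getD i [])

/-- relators for the commutations -/
def com (i j : ℕ) : List ℕ := cl.getD i [] ++ wl.getD j [] ++ cl.getD i [] ++ wl.getD j []

/-- relators for the squares -/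
def sq : List (List ℕ) := cl.map (fun x => x ++ x) ++ wl.map (fun x => x ++ x)

theorem chk_sq : chkRel sq = true := by decide +kernel
theorem chk_com : chkRel [com 0 0, com 0 1, com 1 0, com 1 2, com 2 1, com 2 2] = true := by decide +kernel

theorem w_sq (i : ℕ) : w i * w i = 1 := by
  rcases lt_or_ge i 3 with h | h
  · have h1 : wl.getD i [] ++ wl.getD i [] ∈ sq := by
      interval_cases i <;> simp [sq, wl, cl]
    have h2 := rel_of_chk chk_sq _ h1
    rwa [wprod_append] at h2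
  · unfold w
    rw [List.getD_eq_default _ _ h, wprod_nil, mul_one]

theorem c_sq (i : ℕ) : c i * c i = 1 := by
  rcases lt_or_ge i 3 with h | h
  · have h1 : cl.getD i [] ++ cl.getD i [] ∈ sq := by
      interval_cases i <;> simp [sq, wl, cl]
    have h2 := rel_of_chk chk_sq _ h1
    rwa [wprod_append] at h2
  · unfold c
    rw [List.getD_eq_default _ _ h, wprod_nil, mul_one]

theorem comm_of {i j : ℕ} (h : com i j ∈ [com 0 0, com 0 1, com 1 0, com 1 2, com 2 1, com 2 2]) :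
    Commute (c i) (w j) := by
  have h1 := rel_of_chk chk_com _ h
  rw [com, wprod_append, wprod_append, wprod_append] at h1
  change c i * w j * c i * w j = 1 at h1
  have hc := c_sq i
  have hw := w_sq j
  change c i * w j = w j * c i
  have h2 : c i * w j = (c i * w j)⁻¹ := by
    rw [eq_inv_iff_mul_eq_one, ← h1]
    group
  rw [mul_inv_rev, inv_eq_of_mul_eq_one_right hc, inv_eq_of_mul_eq_one_right hw] at h2
  exact h2

theorem comm00 : Commute (c 0) (w 0) := comm_of (by simp)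
theorem comm01 : Commute (c 0) (w 1) := comm_of (by simp)
theorem comm10 : Commute (c 1) (w 0) := comm_of (by simp)
theorem comm12 : Commute (c 1) (w 2) := comm_of (by simp)
theorem comm21 : Commute (c 2) (w 1) := comm_of (by simp)
theorem comm22 : Commute (c 2) (w 2) := comm_of (by simp)

theorem W_inv : W⁻¹ = W := inv_eq_of_mul_eq_one_right Cfsg.Agent.RuD.Model.rels_model.w2
theorem Y_inv : Y⁻¹ = Y := inv_eq_of_mul_eq_one_right Cfsg.Agent.RuD.Model.rels_model.y2

theorem isConj_w {i : ℕ} (h : i < 3) : IsConj (S * S) (w i) := by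
  rw [isConj_iff]
  interval_cases i
  · exact ⟨1, by rw [one_mul, inv_one, mul_one]; exact (mul_one (S * S)).symm ▸ rfl⟩
  · refine ⟨F * W, ?_⟩
    change _ = F * (W * (S * (S * (W * (F⁻¹ * 1)))))
    rw [mul_inv_rev, W_inv]
    group
  · refine ⟨D * Y * F * S⁻¹ * W, ?_⟩
    change _ = D * (Y * (F * (S⁻¹ * (W * (S * (S * (W * (S * (F⁻¹ * (Y * (D⁻¹ * 1)))))))))))
    rw [mul_inv_rev, mul_inv_rev, mul_inv_rev, mul_inv_rev, W_inv, Y_inv]
    group

theorem isConj_c {i : ℕ} (h : i < 3) : IsConj T (c i) := by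
  rw [isConj_iff]
  interval_cases i
  · exact ⟨1, by rw [one_mul, inv_one, mul_one]; exact (mul_one T).symm ▸ rfl⟩
  · refine ⟨Y, ?_⟩
    change _ = Y * (T * (Y * 1))
    rw [Y_inv]
    group
  · refine ⟨S * W * S⁻¹ * F * Y, ?_⟩
    change _ = S * (W * (S⁻¹ * (F * (Y * (T * (Y * (F⁻¹ * (S * (W * (S⁻¹ * 1))))))))))
    rw [mul_inv_rev, mul_inv_rev, mul_inv_rev, mul_inv_rev, W_inv, Y_inv]
    group

/-- **summary**: three pairwise linked conjugates of `S ^ 2` generate the Rudvalis group -/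
theorem exists_triple : ∃ w c : Fin 3 → RuOrder.H, (∀ i, IsConj (S * S) (w i)) ∧ (∀ i, IsConj T (c i)) ∧
    Commute (c 0) (w 0) ∧ Commute (c 0) (w 1) ∧ Commute (c 1) (w 0) ∧ Commute (c 1) (w 2) ∧
    Commute (c 2) (w 1) ∧ Commute (c 2) (w 2) ∧ Subgroup.closure (Set.range w) = ⊤ := by
  refine ⟨fun i => w i, fun i => c i, fun i => isConj_w i.2, fun i => isConj_c i.2, comm00, comm01, comm10, comm12,
    comm21, comm22, ?_⟩
  rw [eq_top_iff, ← closure_w]
  apply Subgroup.closure_mono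
  rintro x (rfl | rfl | rfl)
  · exact ⟨0, rfl⟩
  · exact ⟨1, rfl⟩
  · exact ⟨2, rfl⟩

end Cfsg.Agent.KFacts.Ru.Triple
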